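import Cfsg.Agent.OddOrder.BG12.Unique
import Cfsg.Agent.OddOrder.BG5.Basic
import Cfsg.Agent.OddOrder.BG4.Basic
import Cfsg.Agent.OddOrder.BG10.BetaCore
import Cfsg.Agent.Coprime.PTimesQ

/-!
# BG 12.11: elements of order `p` of `M_σ`
-/

set_option autoImplicit false
set_option linter.style.haveILetI false
set_option linter.unusedSectionVars false
set_option maxHeartbeats 800000

namespace CfsgLib.OddOrder.BG12

open Cfsg Subgroup CfsgLib.OddOrder.BG11
open CfsgLib.ConjFunctor (IsSylowIn exists_isSylowIn_ge)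
open scoped commutatorElement

/-- An element of the derived group fixes a hyperplane of a normal plane of order `p ^ 3`. -/
theorem sq_le_card_inf_centralizer {R : Type*} [Group R] [Finite R] {p : ℕ} [Fact p.Prime]
    (hR : IsPGroup p R) (U : Subgroup R) [hUn : U.Normal] (hUe : Cfsg.IsElementaryAbelian p U)
    (hUc : Nat.card U = p ^ 3) {x : R} (hx : x ∈ commutator R) :
    p ^ 2 ≤ Nat.card ↥(U ⊓ centralizer ({x} : Set R)) := by
  have hp1 := (Fact.out : p.Prime).one_lt
  have hN : ∀ V : Subgroup R, V.Normal → V ≠ ⊥ → ⁅V, (⊤ : Subgroup R)⁆ < V := fun V hV hne =>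
    Coprime.commutator_lt_of_isPGroup (hR.to_subgroup V) (hR.to_subgroup ⊤)
      (by rw [normalizer_eq_top_iff.2 hV]) hne
  have hcardlt : ∀ V V' : Subgroup R, V < V' → ∀ k, Nat.card V' = p ^ (k + 1) →
      Nat.card V ≤ p ^ k := by
    intro V V' hlt k hk
    obtain ⟨i, hi⟩ := IsPGroup.iff_card.1 (hR.to_subgroup V)
    have := BG5.card_lt_of_lt hlt
    rw [hi, hk, Nat.pow_lt_pow_iff_right hp1] at this
    rw [hi]
    exact Nat.pow_le_pow_right (Fact.out : p.Prime).pos (by omega)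
  obtain ⟨W, hWc, hW⟩ : ∃ W : Subgroup R, Nat.card W ≤ p ∧ ∀ u ∈ U, ⁅x, u⁆ ∈ W := by
    have hUne : U ≠ ⊥ := fun h => by
      rw [h, card_bot] at hUc
      exact (Nat.one_lt_pow three_ne_zero hp1).ne hUc
    set U₁ := ⁅U, (⊤ : Subgroup R)⁆ with hU₁
    have h1 : Nat.card U₁ ≤ p ^ 2 := hcardlt _ _ (hN U hUn hUne) 2 hUc
    by_cases hsmall : Nat.card U₁ ≤ p
    · refine ⟨U₁, hsmall, fun u hu => ?_⟩
      rw [← commutatorElement_inv]
      exact inv_mem (commutator_mem_commutator hu (mem_top _))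
    set U₂ := ⁅U₁, (⊤ : Subgroup R)⁆ with hU₂
    have hU₁ne : U₁ ≠ ⊥ := fun h => hsmall (by rw [h, card_bot]; exact hp1.le)
    obtain ⟨i, hi⟩ := IsPGroup.iff_card.1 (hR.to_subgroup U₁)
    have hi2 : i = 2 := by
      rw [hi, Nat.pow_le_pow_iff_right hp1] at h1
      rcases (show i = 0 ∨ i = 1 ∨ i = 2 by omega) with rfl | rfl | rfl
      · exact absurd (Subgroup.card_eq_one.1 (hi.trans (pow_zero p))) hU₁ne
      · exact absurd (hi.trans (pow_one p)).le hsmall
      · rfl
    have h2 : Nat.card U₂ ≤ p := by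
      have := hcardlt _ _ (hN U₁ inferInstance hU₁ne) 1 (by rw [hi, hi2])
      rwa [pow_one] at this
    refine ⟨U₂, h2, fun u hu => ?_⟩
    set φ := QuotientGroup.mk' U₂ with hφ
    have hz1 : ⁅⁅(⊤ : Subgroup R).map φ, U.map φ⁆, (⊤ : Subgroup R).map φ⁆ = ⊥ := by
      rw [← map_commutator, ← map_commutator, Subgroup.map_eq_bot_iff, QuotientGroup.ker_mk',
        commutator_comm (⊤ : Subgroup R) U]
    have hz2 : ⁅⁅U.map φ, (⊤ : Subgroup R).map φ⁆, (⊤ : Subgroup R).map φ⁆ = ⊥ := by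
      rw [← map_commutator, ← map_commutator, Subgroup.map_eq_bot_iff, QuotientGroup.ker_mk']
    have h3 := commutator_commutator_eq_bot_of_rotate hz1 hz2
    rw [← map_commutator, ← map_commutator, Subgroup.map_eq_bot_iff, QuotientGroup.ker_mk'] at h3
    exact h3 (commutator_mem_commutator (commutator_def R ▸ hx) hu)
  haveI := hUe.1
  have hUmem : ∀ u ∈ U, ⁅x, u⁆ ∈ U := fun u hu => by
    rw [commutatorElement_def]
    exact mul_mem (hUn.conj_mem u hu x) (inv_mem hu)
  let f : U →* W :=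
    { toFun := fun u => ⟨⁅x, (u : R)⁆, hW u u.2⟩
      map_one' := Subtype.ext (by simp)
      map_mul' := fun u v => Subtype.ext (by
        show ⁅x, (u : R) * v⁆ = ⁅x, (u : R)⁆ * ⁅x, (v : R)⁆
        have h1 : ⁅x, (u : R) * v⁆ = ⁅x, (u : R)⁆ * ((u : R) * ⁅x, (v : R)⁆ * (u : R)⁻¹) := by
          simp only [commutatorElement_def]; group
        rw [h1, setLike_mul_comm (s := U) u.2 (hUmem v v.2), mul_inv_cancel_right]) }
  have hker : f.ker.map U.subtype ≤ U ⊓ centralizer ({x} : Set R) := by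
    rintro _ ⟨u, hu, rfl⟩
    refine mem_inf.2 ⟨u.2, ?_⟩
    rw [mem_centralizer_singleton_iff]
    have h1 : ⁅x, (u : R)⁆ = 1 := congrArg Subtype.val hu
    exact (commutatorElement_eq_one_iff_mul_comm.1 h1).symm
  have hle := Nat.le_of_dvd Nat.card_pos (card_dvd_of_le hker)
  rw [card_map_of_injective U.subtype_injective] at hle
  refine le_trans ?_ hle
  have h1 : Nat.card f.ker * f.ker.index = p ^ 3 := by rw [card_mul_index, hUc]
  have h2 : f.ker.index ≤ p := by
    rw [index_ker]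
    exact (Nat.le_of_dvd Nat.card_pos (card_subgroup_dvd_card _)).trans hWc
  refine Nat.le_of_mul_le_mul_right ?_ (Fact.out : p.Prime).pos
  rw [← pow_succ, ← h1]
  exact Nat.mul_le_mul_left _ h2

variable {G : Type*} [Group G] [Finite G] {p : ℕ} [Fact p.Prime]
  (hG : Cfsg.IsMinSimpleOddOrder G) (F : BG10Facts G)
include hG F

theorem inUniqueMaximal_of_rank_three {W : Subgroup G} (hW : IsPGroup p W) {U : Subgroup G}
    (hUW : U ≤ W) (hU : Cfsg.IsElementaryAbelian p U) (hUc : p ^ 3 ≤ Nat.card U) :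
    Cfsg.InUniqueMaximal W :=
  F.uniqueness W (minSimple_ne_top_of_isPGroup hG hW)
    (fun h1 => not_pRankLE_of_le hUW hU
      ((Nat.pow_le_pow_right (Fact.out : p.Prime).pos (by omega)).trans hUc) (h1 p Fact.out))
    (Or.inl (not_rankLE_of_not_pRankLE (not_pRankLE_of_le hUW hU hUc)))

/-- A subgroup of `C(X)` in exactly one maximal subgroup. -/
theorem exists_unique_in_centralizer {M X : Subgroup G} (hM : IsCoatom M) (hp : p ∈ Cfsg.sigma M)
    (hXM : X ≤ M) (hX : Nat.card X = p)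
    (h : p ∈ Cfsg.beta M ∨ X ≤ ⁅Cfsg.sigmaCore M, Cfsg.sigmaCore M⁆) :
    ∃ W : Subgroup G, W ≤ M ∧ W ≤ centralizer (X : Set G) ∧ Cfsg.InUniqueMaximal W := by
  have hXp : IsPGroup p X := IsPGroup.of_card (n := 1) (by rw [hX, pow_one])
  obtain ⟨Q, hXQ, hQ⟩ := exists_isSylowIn_ge hXM hXp
  have hQtop := isSylowIn_top_of_sigma F hM hp hQ
  obtain ⟨x, hx, hx1⟩ := exists_mem_ne_one_of_card hX
  have hxgen : zpowers x = X := zpowers_eq_of_card hX hx hx1
  have hxp : x ^ p = 1 := orderOf_dvd_iff_pow_eq_one.1 (hX ▸ Subgroup.orderOf_dvd_natCard X hx)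
  have hXe : Cfsg.IsElementaryAbelian p X := by
    haveI := isCyclic_of_prime_card hX
    exact ⟨inferInstance, fun y hy =>
      orderOf_dvd_iff_pow_eq_one.1 (hX ▸ Subgroup.orderOf_dvd_natCard X hy)⟩
  have hQne : Q ≠ ⊥ := fun hb => ne_bot_of_card_prime hX (le_bot_iff.1 (hb ▸ hXQ))
  have hb3 : p ∈ Cfsg.alpha M → ∃ U, U ≤ Q ∧ Cfsg.IsElementaryAbelian p U ∧ p ^ 3 ≤ Nat.card U := by
    intro ha
    obtain ⟨U, hUM, hU, hUc⟩ := exists_elementary_of_not_pRankLE ha.2
    obtain ⟨g, -, hg⟩ := hQ.exists_cj_le hUM (isPGroup_of_isElementaryAbelian hU)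
    exact ⟨_, hg, isElementaryAbelian_map _ hU, by rw [ConjFunctor.card_cj]; exact hUc⟩
  by_cases hβ : p ∈ Cfsg.beta M
  · by_cases hcent : Q ≤ centralizer (X : Set G)
    · obtain ⟨U, hUQ, hU, hUc⟩ := hb3 hβ.1
      exact ⟨Q, hQ.le, hcent, inUniqueMaximal_of_rank_three hG F hQ.isPGroup hUQ hU hUc⟩
    obtain ⟨z, hzQ, hzc, hzo⟩ := exists_central_of_isPGroup hQ.isPGroup hQne
    have hzX : z ∉ X := fun hzX => hcent (by
      rw [← zpowers_eq_of_card hX hzX (fun e => by
        rw [e, orderOf_one] at hzo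
        exact (Fact.out : p.Prime).one_lt.ne hzo), centralizer_zpowers]
      exact fun y hy => mem_centralizer_singleton_iff.2 (mem_centralizer_iff.1 hzc y hy))
    have hzcX : z ∈ centralizer (X : Set G) := centralizer_le hXQ hzc
    set B := X ⊔ zpowers z with hBdef
    have hBe : Cfsg.IsElementaryAbelian p B :=
      elem_sup_zpowers hXe (hzo ▸ pow_orderOf_eq_one z) hzcX
    have hBc : Nat.card B = p ^ 2 := card_sup_eq_sq hX (by rw [Nat.card_zpowers, hzo])
      ((zpowers_le.2 hzcX).trans (centralizer_le_normalizer _)) fun e => hzX (e ▸ mem_zpowers z)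
    have hBQ : B ≤ Q := sup_le hXQ (zpowers_le.2 hzQ)
    let Q' : Sylow p G := hQtop.isPGroup.toSylow (show ¬ p ∣ Q.index by
      have := hQtop.not_dvd
      rwa [relIndex_top_right] at this)
    obtain ⟨B', hB'Q, hB', hlt⟩ := hβ.2.2.2 Q' B hBQ hBe hBc
    have hB'c : p ^ 3 ≤ Nat.card B' := by
      obtain ⟨k, hk⟩ := IsPGroup.iff_card.1 (isPGroup_of_isElementaryAbelian hB')
      rw [hk]
      refine Nat.pow_le_pow_right (Fact.out : p.Prime).pos ?_
      by_contra hk3
      refine hlt.ne (Subgroup.eq_of_le_of_card_ge hlt.le ?_)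
      rw [hBc, hk]
      exact Nat.pow_le_pow_right (Fact.out : p.Prime).pos (by omega)
    exact ⟨B', (show B' ≤ Q from hB'Q).trans hQ.le,
      (le_centralizer_self hB'.1).trans (centralizer_le ((le_sup_left : X ≤ B).trans hlt.le)),
      inUniqueMaximal_of_rank_three hG F (isPGroup_of_isElementaryAbelian hB') le_rfl hB' hB'c⟩
  have hXS := h.resolve_left hβ
  have hQS : Q ≤ Cfsg.sigmaCore M := pGroup_le_sigmaCore F hM hp hQ.le hQ.isPGroup
  -- `X` lies in the derived group of `Q`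
  have hXQ' : X ≤ ⁅Q, Q⁆ := by
    set S := Cfsg.sigmaCore M with hS
    set K := Cfsg.piCoreOf {s | s ≠ p} S with hK
    have hKS : K ≤ S := piCoreOf_le _ _
    have hSK : S ≤ normalizer (K : Set G) :=
      le_normalizer.trans (normalizer_le_normalizer_piCoreOf _ _)
    have hcov : S ≤ K ⊔ Q := by
      refine BG4.le_of_sylow_le fun r hr => ?_
      haveI := Fact.mk hr
      by_cases hrp : r = p
      · subst hrp
        let T : Sylow r S := (hQ.isPGroup.comap_subtype).toSylow (hQ.of_le hQS (sigmaCore_le M)).not_dvd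
        refine ⟨T, ?_⟩
        change (Q.subgroupOf _).map _ ≤ _
        rw [map_subgroupOf_eq_of_le hQS]
        exact le_sup_right
      · exact ⟨default, (le_piCoreOf_of_normalPComplement
          ((F.betaHall M hM).2 p Fact.out (dvd_card_of_sigma hp) hβ) (map_subtype_le _)
          (ne_of_dvd_sigma ((default : Sylow r S).2.map _) hrp)).trans le_sup_left⟩
    intro y hy
    have h1 : y ∈ ((⁅Q, Q⁆ ⊔ K : Subgroup G) : Set G) := by
      have := commutator_sup_le_of_normal hcov hKS hQS hSK (hXS hy)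
      rwa [sup_comm] at this
    rw [coe_mul_of_left_le_normalizer_right _ _
      (((commutator_le_self Q).trans hQS).trans hSK)] at h1
    obtain ⟨a, ha, b, hb, rfl⟩ := h1
    have hb' : b ∈ Q := by
      have := mul_mem (inv_mem (commutator_le_self Q ha)) (hXQ hy)
      simpa using this
    have hKQ : Q ⊓ K = ⊥ := inf_eq_bot_of_isPiSubgroup
      (isPiSubgroup_of_isPGroup (π := ({p} : Set ℕ)) hQ.isPGroup rfl)
      (isPiSubgroup_piCoreOf {s | s ≠ p} S) (Set.disjoint_singleton_left.2 fun hh => hh rfl)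
    have : b ∈ Q ⊓ K := ⟨hb', hb⟩
    rw [hKQ, mem_bot] at this
    rw [this]
    simpa using ha
  have hQna : ¬ IsMulCommutative Q := fun hc => ne_bot_of_card_prime hX (le_bot_iff.1
    (hXQ'.trans (commutator_eq_bot_iff_le_centralizer.2 (le_centralizer_self hc)).le))
  by_cases hr : Cfsg.PRankLE p 2 Q
  · refine ⟨Q, hQ.le, ?_, inUniqueMaximal_of_nonabelian hG F hQ.isPGroup hQna⟩
    refine le_centralizer_iff.1 (hXQ'.trans ?_)
    let Q' : Sylow p G := hQtop.isPGroup.toSylow (show ¬ p ∣ Q.index by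
      have := hQtop.not_dvd
      rwa [relIndex_top_right] at this)
    obtain hab | ⟨P₁, P₂, hgen, hcomm, hna₁, hc₁, -, hcyc, -⟩ := F.rankTwoSylow p Q' hr
    · exact absurd hab hQna
    change P₁ ⊔ P₂ = Q at hgen
    have hn : P₁ ≤ normalizer (P₂ : Set G) := fun a ha => centralizer_le_normalizer _
      (mem_centralizer_iff.2 fun b hb => (hcomm a ha b hb).symm)
    haveI := hcyc
    have h2 : P₂ ≤ centralizer (Q : Set G) := by
      rw [le_centralizer_iff, ← hgen]
      exact sup_le (fun a ha => mem_centralizer_iff.2 fun b hb => (hcomm a ha b hb).symm)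
        (le_centralizer_self inferInstance)
    rw [commutator_le]
    intro a ha b hb
    rw [← hgen, ← SetLike.mem_coe, coe_mul_of_left_le_normalizer_right _ _ hn] at ha hb
    obtain ⟨a₁, ha₁, a₂, ha₂, rfl⟩ := ha
    obtain ⟨b₁, hb₁, b₂, hb₂, rfl⟩ := hb
    have hQmem : ∀ w ∈ P₁, w ∈ Q := fun w hw => hgen ▸ mem_sup_left hw
    have hQmem' : ∀ w ∈ P₂, w ∈ Q := fun w hw => hgen ▸ mem_sup_right hw
    have e : ⁅a₁ * a₂, b₁ * b₂⁆ = ⁅a₁, b₁⁆ := by
      have c1 : ∀ w ∈ Q, Commute a₂ w := fun w hw => (mem_centralizer_iff.1 (h2 ha₂) w hw).symm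
      have c2 : ∀ w ∈ Q, Commute b₂ w := fun w hw => (mem_centralizer_iff.1 (h2 hb₂) w hw).symm
      have q₁ : a₁⁻¹ ∈ Q := inv_mem (hQmem a₁ ha₁)
      have q₂ : b₁ * b₂ ∈ Q := mul_mem (hQmem b₁ hb₁) (hQmem' b₂ hb₂)
      calc ⁅a₁ * a₂, b₁ * b₂⁆
          = a₁ * (a₂ * (b₁ * b₂)) * a₂⁻¹ * a₁⁻¹ * (b₁ * b₂)⁻¹ := by
            rw [commutatorElement_def]; group
        _ = a₁ * b₁ * (b₂ * a₁⁻¹) * b₂⁻¹ * b₁⁻¹ := by rw [(c1 _ q₂).eq]; group
        _ = ⁅a₁, b₁⁆ := by rw [(c2 _ q₁).eq, commutatorElement_def]; group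
    rw [e]
    have hz : ⁅a₁, b₁⁆ ∈ P₁ ⊓ centralizer (P₁ : Set G) := by
      rw [← commutator_eq_inf_centralizer_of_card_cube hc₁ hna₁]
      exact commutator_mem_commutator ha₁ hb₁
    rw [mem_centralizer_iff, ← hgen]
    intro w hw
    rw [coe_mul_of_left_le_normalizer_right _ _ hn] at hw
    obtain ⟨w₁, hw₁, w₂, hw₂, rfl⟩ := hw
    have c1 : Commute w₁ ⁅a₁, b₁⁆ := mem_centralizer_iff.1 hz.2 w₁ hw₁
    have c2 : Commute w₂ ⁅a₁, b₁⁆ := (hcomm _ hz.1 w₂ hw₂).symm
    exact (c1.mul_left c2).eq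
  · haveI : Fact p.Prime := inferInstance
    have hp2 : p ≠ 2 := minSimple_prime_ne_two_subgroup hG (dvd_card_of_sigma hp)
    obtain ⟨B, hBn, hBe, hBc⟩ := BG5.exists_normal_elementary hp2 hQ.isPGroup hr
    haveI := hBn
    obtain ⟨U, hUn, hUB, hUc⟩ := BG4.exists_normal_card_le hQ.isPGroup B 3 hBc
    haveI := hUn
    have hUe : Cfsg.IsElementaryAbelian p U := isElementaryAbelian_mono hUB hBe
    have hxQ : (⟨x, hXQ hx⟩ : Q) ∈ commutator Q := by
      have h1 : x ∈ (commutator Q).map Q.subtype := by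
        rw [map_subtype_commutator]; exact hXQ' hx
      obtain ⟨y, hy, hye⟩ := h1
      rwa [show y = ⟨x, hXQ hx⟩ from Subtype.ext hye] at hy
    have hfix := sq_le_card_inf_centralizer hQ.isPGroup U hUe hUc hxQ
    set U' := U.map Q.subtype with hU'
    have hU'e : Cfsg.IsElementaryAbelian p U' := isElementaryAbelian_map _ hUe
    have hU'c : Nat.card U' = p ^ 3 := by rw [hU', card_map_of_injective Q.subtype_injective, hUc]
    by_cases hxU : x ∈ U'
    · refine ⟨U', (map_subtype_le _).trans hQ.le, (le_centralizer_self hU'e.1).trans ?_,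
        inUniqueMaximal_of_rank_three hG F (isPGroup_of_isElementaryAbelian hU'e) le_rfl hU'e
          hU'c.ge⟩
      refine centralizer_le ?_
      rw [← hxgen]
      exact zpowers_le.2 hxU
    set V := (U ⊓ centralizer ({(⟨x, hXQ hx⟩ : Q)} : Set Q)).map Q.subtype with hV
    have hVU : V ≤ U' := map_mono inf_le_left
    have hVx : V ≤ centralizer ({x} : Set G) := by
      rintro _ ⟨v, hv, rfl⟩
      rw [mem_centralizer_singleton_iff]
      exact congrArg Subtype.val (mem_centralizer_singleton_iff.1 hv.2)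
    have hVe : Cfsg.IsElementaryAbelian p V := isElementaryAbelian_mono hVU hU'e
    have hxV : x ∈ centralizer (V : Set G) := mem_centralizer_iff.2 fun v hv =>
      mem_centralizer_singleton_iff.1 (hVx hv)
    have hW : Cfsg.IsElementaryAbelian p (V ⊔ zpowers x) := elem_sup_zpowers hVe hxp hxV
    refine ⟨V ⊔ zpowers x, sup_le ((map_subtype_le _).trans hQ.le) (zpowers_le.2 (hXM hx)),
      (le_centralizer_self hW.1).trans (centralizer_le (hxgen.ge.trans le_sup_right)),
      inUniqueMaximal_of_rank_three hG F (isPGroup_of_isElementaryAbelian hW) le_rfl hW ?_⟩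
    obtain ⟨k, hk⟩ := IsPGroup.iff_card.1 (isPGroup_of_isElementaryAbelian hW)
    rw [hk]
    refine Nat.pow_le_pow_right (Fact.out : p.Prime).pos ?_
    by_contra hk3
    refine hxU (hVU ?_)
    have : V = V ⊔ zpowers x := Subgroup.eq_of_le_of_card_ge le_sup_left (by
      rw [hk, hV, card_map_of_injective Q.subtype_injective]
      exact (Nat.pow_le_pow_right (Fact.out : p.Prime).pos (by omega : k ≤ 2)).trans hfix)
    rw [this]
    exact mem_sup_right (mem_zpowers x)

/-- BG 12.11. -/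
theorem sigma_order_p {M X P : Subgroup G} (hM : IsCoatom M) (hp : p ∈ Cfsg.sigma M)
    (hXM : X ≤ M) (hX : Nat.card X = p)
    (h : p ∈ Cfsg.beta M ∨ X ≤ ⁅Cfsg.sigmaCore M, Cfsg.sigmaCore M⁆)
    (hP : IsSylowIn p P (Cfsg.sigmaCore M)) :
    (centralizer (X : Set G) ≤ M ∧
      ∀ L : Subgroup G, IsCoatom L → centralizer (X : Set G) ≤ L → L = M) ∧
      Cfsg.InUniqueMaximal P ∧ P ≤ M := by
  obtain ⟨W, hWM, hWX, hWU⟩ := exists_unique_in_centralizer hG F hM hp hXM hX h
  have huniq : ∀ L : Subgroup G, IsCoatom L → centralizer (X : Set G) ≤ L → L = M :=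
    fun L hL hCL => inUniqueMaximal_eq hWU hM hWM hL (hWX.trans hCL)
  obtain ⟨L, hL, hCL⟩ := minSimple_exists_coatom hG
    (minSimple_centralizer_subgroup_ne_top hG (ne_bot_of_card_prime hX))
  refine ⟨⟨huniq L hL hCL ▸ hCL, huniq⟩, ?_, hP.le.trans (sigmaCore_le M)⟩
  by_cases hβ : p ∈ Cfsg.beta M
  · obtain ⟨T, hPT, hT⟩ := exists_isSylowIn_ge (hP.le.trans (sigmaCore_le M)) hP.isPGroup
    have hTP : T = P := hP.eq_of_le hPT (pGroup_le_sigmaCore F hM hp hT.le hT.isPGroup) hT.isPGroup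
    subst hTP
    obtain ⟨U, hUM, hU, hUc⟩ := exists_elementary_of_not_pRankLE hβ.1.2
    obtain ⟨g, -, hg⟩ := hT.exists_cj_le hUM (isPGroup_of_isElementaryAbelian hU)
    exact inUniqueMaximal_of_rank_three hG F hT.isPGroup hg (isElementaryAbelian_map _ hU)
      (by rw [ConjFunctor.card_cj]; exact hUc)
  · refine inUniqueMaximal_of_nonabelian hG F hP.isPGroup fun hab => ?_
    have hXS := h.resolve_left hβ
    set S := Cfsg.sigmaCore M with hS
    set K := Cfsg.piCoreOf {s | s ≠ p} S with hK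
    have hSK : S ≤ normalizer (K : Set G) :=
      le_normalizer.trans (normalizer_le_normalizer_piCoreOf _ _)
    have hcov : S ≤ K ⊔ P := by
      refine BG4.le_of_sylow_le fun r hr => ?_
      haveI := Fact.mk hr
      by_cases hrp : r = p
      · subst hrp
        let T : Sylow r S := (hP.isPGroup.comap_subtype).toSylow hP.not_dvd
        refine ⟨T, ?_⟩
        change (P.subgroupOf _).map _ ≤ _
        rw [map_subgroupOf_eq_of_le hP.le]
        exact le_sup_right
      · exact ⟨default, (le_piCoreOf_of_normalPComplement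
          ((F.betaHall M hM).2 p Fact.out (dvd_card_of_sigma hp) hβ) (map_subtype_le _)
          (ne_of_dvd_sigma ((default : Sylow r S).2.map _) hrp)).trans le_sup_left⟩
    have hle := hXS.trans (commutator_sup_le_of_normal hcov (piCoreOf_le _ _) hP.le hSK)
    rw [commutator_eq_bot_iff_le_centralizer.2 (le_centralizer_self hab), sup_bot_eq] at hle
    exact isPiSubgroup_piCoreOf {s | s ≠ p} S p Fact.out
      (by have := card_dvd_of_le hle; rwa [hX] at this) rfl

end CfsgLib.OddOrder.BG12
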