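import Cfsg.Agent.OddOrder.BG12.Abelian

/-!
# BG 12.12
-/

set_option autoImplicit false
set_option linter.style.haveILetI false
set_option linter.unusedSectionVars false

namespace CfsgLib.OddOrder.BG12

open Cfsg Subgroup CfsgLib.OddOrder.BG11
open CfsgLib.ConjFunctor (IsSylowIn exists_isSylowIn_ge)

variable {G : Type*} [Group G] [Finite G] {p : ℕ}

/-- Subgroups of a cyclic group are normalized by its normalizer. -/
theorem normalizer_le_normalizer_of_le_cyclic {D Y : Subgroup G} (hD : IsCyclic D) (hY : Y ≤ D) :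
    normalizer (D : Set G) ≤ normalizer (Y : Set G) := by
  intro g hg
  rw [← map_conj_eq_self_iff]
  haveI := hD
  have hle : Y.map (MulAut.conj g).toMonoidHom ≤ D := map_conj_eq_self_iff.2 hg ▸ map_mono hY
  have h2 : (Y.map (MulAut.conj g).toMonoidHom).subgroupOf D = Y.subgroupOf D :=
    eq_of_card_eq_of_isCyclic (by
      rw [Nat.card_congr (subgroupOfEquivOfLe hle).toEquiv,
        Nat.card_congr (subgroupOfEquivOfLe hY).toEquiv, card_map_conj])
  rw [← map_subgroupOf_eq_of_le hle, h2, map_subgroupOf_eq_of_le hY]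

/-- BG 12.12. -/
theorem otherMaximal (hG : Cfsg.IsMinSimpleOddOrder G) (F : BG10Facts G) [Fact p.Prime]
    {M L X S : Subgroup G} (hM : IsCoatom M) (hp : p ∈ Cfsg.sigma M) (hX : IsPGroup p X)
    (hX1 : X ≠ ⊥) (hXM : X ≤ M) (hne : L ≠ M) (hNX : normalizer (X : Set G) ≤ L)
    (hS : IsSylowIn p S (M ⊓ L)) (hXS : X ≤ S) :
    (∀ g : G, L ≠ M.map (MulAut.conj g).toMonoidHom) ∧ normalizer (S : Set G) ≤ M ∧
      IsSylowIn p S L := by
  have key : ∀ T : Subgroup G, IsPGroup p T → S ≤ T →
      T ⊓ normalizer (S : Set G) ≤ M ⊓ L → T = S := by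
    intro T hT hST hle
    by_contra hne'
    refine (ConjFunctor.lt_inf_normalizer hT (lt_of_le_of_ne hST (Ne.symm hne'))).ne ?_
    exact (hS.eq_of_le (le_inf hST le_normalizer) hle (hT.to_le inf_le_left)).symm
  have hN : normalizer (S : Set G) ≤ M := by
    by_cases hc : IsCyclic S
    · obtain ⟨T, hST, hT⟩ := exists_isSylowIn_ge (hS.le.trans inf_le_left) hS.isPGroup
      have hTS := key T hT.isPGroup hST (le_inf (inf_le_left.trans hT.le)
        ((inf_le_right.trans (normalizer_le_normalizer_of_le_cyclic hc hXS)).trans hNX))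
      subst hTS
      exact normalizer_le_of_sigma hp hT
    · exact normalizer_noncyclic_le hG F hM hp hS.isPGroup (hS.le.trans inf_le_left) hc
  refine ⟨fun g hg => hne (eq_of_conj_of_normalizer_le F hG hM hp hX hX1 hXM hNX hg), hN, ?_⟩
  obtain ⟨R, hSR, hR⟩ := exists_isSylowIn_ge (hS.le.trans inf_le_right) hS.isPGroup
  have hRS := key R hR.isPGroup hSR (le_inf (inf_le_right.trans hN) (inf_le_left.trans hR.le))
  exact hRS ▸ hR

end CfsgLib.OddOrder.BG12
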