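import Cfsg.Agent.OddOrder.BG12.Compl
import Cfsg.Agent.OddOrder.BG8.Fitting
import Cfsg.Agent.OddOrder.BG11.KeyCore
import Mathlib.GroupTheory.SpecificGroups.ZGroup

/-!
# BG 12.1: the shape of a complement `E` of `M_σ`
-/

set_option autoImplicit false
set_option linter.style.haveILetI false
set_option linter.unusedSectionVars false

namespace CfsgLib.OddOrder.BG12

open Cfsg Subgroup CfsgLib.OddOrder.BG11
open CfsgLib.ConjFunctor (IsSylowIn exists_isSylowIn_ge)
open scoped commutatorElement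

variable {G : Type*} [Group G] [Finite G] {p : ℕ} {M E : Subgroup G}

/-- A finite group whose subgroups of exponent `q` are small is a Z-group. -/
theorem isZGroup_of_pRankLE_one {H : Subgroup G} (hodd : Odd (Nat.card H))
    (h : ∀ q : ℕ, q.Prime → q ∣ Nat.card H → Cfsg.PRankLE q 1 H) : IsZGroup H := by
  refine ⟨fun q hq P => ?_⟩
  haveI := Fact.mk hq
  by_cases hP : (P : Subgroup H) = ⊥
  · rw [hP]; exact inferInstance
  · have hd : q ∣ Nat.card (P : Subgroup H) := by
      obtain ⟨k, hk⟩ := IsPGroup.iff_card.1 P.2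
      rcases Nat.eq_zero_or_pos k with rfl | hk0
      · exact absurd (Subgroup.card_eq_one.1 (hk.trans (pow_zero q))) hP
      · exact hk ▸ dvd_pow_self q hk0.ne'
    have hd' := hd.trans (card_subgroup_dvd_card _)
    exact isCyclic_of_pRankLE_one (H := (⊤ : Subgroup H)) le_top P.2
      (fun e => by
        subst e
        exact (Nat.not_even_iff_odd.2 hodd) (even_iff_two_dvd.2 hd'))
      (BG4.pRankLE_of_injective (⊤ : Subgroup H).subtype (subtype_injective _) (h q hq hd'))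

theorem commutator_sup_le_of_normal {S E M : Subgroup G} (hM : M ≤ S ⊔ E) (hS : S ≤ M) (hE : E ≤ M)
    (hn : M ≤ normalizer (S : Set G)) : ⁅M, M⁆ ≤ S ⊔ ⁅E, E⁆ := by
  rw [commutator_le]
  intro a ha b hb
  have ha' : a ∈ ((E ⊔ S : Subgroup G) : Set G) := by rw [sup_comm]; exact hM ha
  have hb' : b ∈ ((E ⊔ S : Subgroup G) : Set G) := by rw [sup_comm]; exact hM hb
  rw [coe_mul_of_left_le_normalizer_right _ _ (hE.trans hn)] at ha' hb'
  obtain ⟨e, he, s, hs, rfl⟩ := ha'
  obtain ⟨f, hf, t, ht, rfl⟩ := hb'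
  haveI : (S.subgroupOf M).Normal := (normal_subgroupOf_iff_le_normalizer hS).2 hn
  set φ := QuotientGroup.mk' (S.subgroupOf M) with hφ
  have hsM : s ∈ M := hS hs
  have htM : t ∈ M := hS ht
  have key : φ ⁅(⟨e * s, mul_mem (hE he) hsM⟩ : M), ⟨f * t, mul_mem (hE hf) htM⟩⁆ =
      φ ⁅(⟨e, hE he⟩ : M), ⟨f, hE hf⟩⁆ := by
    rw [map_commutatorElement, map_commutatorElement]
    have h1 : φ (⟨s, hsM⟩ : M) = 1 := (QuotientGroup.eq_one_iff _).2 hs
    have h2 : φ (⟨t, htM⟩ : M) = 1 := (QuotientGroup.eq_one_iff _).2 ht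
    have e1 : φ (⟨e * s, mul_mem (hE he) hsM⟩ : M) = φ (⟨e, hE he⟩ : M) := by
      rw [show (⟨e * s, mul_mem (hE he) hsM⟩ : M) = ⟨e, hE he⟩ * ⟨s, hsM⟩ from rfl, map_mul, h1,
        mul_one]
    have e2 : φ (⟨f * t, mul_mem (hE hf) htM⟩ : M) = φ (⟨f, hE hf⟩ : M) := by
      rw [show (⟨f * t, mul_mem (hE hf) htM⟩ : M) = ⟨f, hE hf⟩ * ⟨t, htM⟩ from rfl, map_mul, h2,
        mul_one]
    rw [e1, e2]
  have h3 : (⁅e, f⁆)⁻¹ * ⁅e * s, f * t⁆ ∈ S :=
    (QuotientGroup.eq.1 key.symm :)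
  have h4 := mul_mem (mem_sup_right (S := S) (commutator_mem_commutator he hf))
    (mem_sup_left (T := ⁅E, E⁆) h3)
  rwa [mul_inv_cancel_left] at h4

variable (hG : Cfsg.IsMinSimpleOddOrder G) (F : BG10Facts G)
include hG F

/-- `E'` is nilpotent. -/
theorem isNilpotent_compl_derived (hM : IsCoatom M)
    (hE : Cfsg.IsComplIn E (Cfsg.sigmaCore M) M) :
    Group.IsNilpotent (⁅E, E⁆ : Subgroup G) := by
  obtain ⟨-, haσ, hnil⟩ := F.alphaHall M hM
  set D : Subgroup G := ⁅E, E⁆ with hD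
  have hDE : D ≤ E := commutator_le_self E
  have hDM : D ≤ M := hDE.trans hE.1
  set g : M →* M ⧸ Cfsg.piCore (Cfsg.alpha M) M := QuotientGroup.mk' _ with hg
  set f : D →* M ⧸ Cfsg.piCore (Cfsg.alpha M) M := g.comp (Subgroup.inclusion hDM) with hf
  have hmem : ∀ x : D, f x ∈ (commutator M).map g := by
    intro x
    refine mem_map_of_mem _ ?_
    have h1 : (x : G) ∈ (commutator M).map M.subtype := by
      rw [map_subtype_commutator]
      exact commutator_mono hE.1 hE.1 x.2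
    obtain ⟨y, hy, hye⟩ := h1
    have : y = Subgroup.inclusion hDM x := Subtype.ext hye
    exact this ▸ hy
  have hinj : Function.Injective f := by
    rw [injective_iff_map_eq_one]
    intro x hx
    have hxS : (x : G) ∈ Cfsg.sigmaCore M := haσ ⟨_, (QuotientGroup.eq_one_iff _).1 hx, rfl⟩
    have h1 : (x : G) ∈ E ⊓ Cfsg.sigmaCore M := ⟨hDE x.2, hxS⟩
    rw [hE.2.2.1, mem_bot] at h1
    exact Subtype.ext h1
  haveI := hnil
  exact Group.nilpotent_of_mulEquiv
    ((MonoidHom.ofInjective (f := f.codRestrict _ hmem) fun a b hab =>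
      hinj (congrArg Subtype.val hab)).symm)

/-- Every Hall `τ₁(M)`-subgroup of `E` is cyclic. -/
theorem isCyclic_tau1_hall (hM : IsCoatom M) (hE : Cfsg.IsComplIn E (Cfsg.sigmaCore M) M)
    {E₁ : Subgroup G} (hE₁ : Cfsg.IsPiHallOf (Cfsg.tau1 M) E₁ E) : IsCyclic E₁ := by
  have hle : E₁ ≤ M := hE₁.1.trans hE.1
  haveI : IsZGroup E₁ := isZGroup_of_pRankLE_one (minSimple_odd_subgroup hG E₁) fun q hq hd =>
    BG4.pRankLE_of_injective (Subgroup.inclusion hle) (inclusion_injective hle)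
      (hE₁.2.1 q hq hd).2.2.2.2
  have hbot : ⁅E₁, E₁⁆ = ⊥ := by
    refine Subgroup.card_eq_one.1 (Nat.eq_one_iff_not_exists_prime_dvd.2 fun q hq hd => ?_)
    exact (hE₁.2.1 q hq (hd.trans (card_dvd_of_le (commutator_le_self E₁)))).2.2.2.1
      (hd.trans (card_dvd_of_le (commutator_mono hle hle)))
  haveI : Group.IsNilpotent E₁ := by
    haveI : IsMulCommutative E₁ := le_centralizer_iff_isMulCommutative.1
      (commutator_eq_bot_iff_le_centralizer.1 hbot)
    exact open scoped IsMulCommutative in inferInstance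
  infer_instance

/-- The properties of the Hall `τ₃(M)`-subgroups of `E`. -/
theorem tau3_hall (hM : IsCoatom M) (hE : Cfsg.IsComplIn E (Cfsg.sigmaCore M) M)
    {E₃ : Subgroup G} (hE₃ : Cfsg.IsPiHallOf (Cfsg.tau3 M) E₃ E) :
    IsCyclic E₃ ∧ E₃ ≤ ⁅E, E⁆ ∧ E ≤ normalizer (E₃ : Set G) := by
  have hle : E₃ ≤ M := hE₃.1.trans hE.1
  haveI : IsZGroup E₃ := isZGroup_of_pRankLE_one (minSimple_odd_subgroup hG E₃) fun q hq hd =>
    BG4.pRankLE_of_injective (Subgroup.inclusion hle) (inclusion_injective hle)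
      (hE₃.2.1 q hq hd).2.2.2
  have hder : E₃ ≤ ⁅E, E⁆ := by
    refine BG4.le_of_sylow_le fun q hq => ?_
    haveI := Fact.mk hq
    obtain ⟨Q⟩ : Nonempty (Sylow q E₃) := inferInstance
    refine ⟨Q, ?_⟩
    by_cases hd : q ∣ Nat.card E₃
    swap
    · have h0 := (isSylowIn_map_subtype Q)
      obtain ⟨k, hk⟩ := IsPGroup.iff_card.1 h0.isPGroup
      rcases Nat.eq_zero_or_pos k with rfl | hk0
      · rw [Subgroup.card_eq_one.1 (hk.trans (pow_zero q))]; exact bot_le
      · exact absurd ((hk ▸ dvd_pow_self q hk0.ne').trans (card_dvd_of_le h0.le)) hd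
    obtain ⟨-, hqs, hqM, hr1⟩ := hE₃.2.1 q hq hd
    obtain ⟨T, hQT, hT⟩ := exists_isSylowIn_ge ((map_subtype_le _).trans hE₃.1) (Q.2.map E₃.subtype)
    refine hQT.trans ?_
    have hq2 : q ≠ 2 := minSimple_prime_ne_two_subgroup hG hd
    let T' : Sylow q E := (hT.isPGroup.comap_subtype (K := E)).toSylow hT.not_dvd
    have hT' : (T' : Subgroup E) = T.subgroupOf E := rfl
    haveI : IsCyclic T := isCyclic_of_pRankLE_one (hT.le.trans hE.1) hT.isPGroup hq2 hr1
    haveI : IsCyclic T' := isCyclic_of_surjective _ (subgroupOfEquivOfLe hT.le).symm.surjective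
    have hdc : q ∣ Nat.card (commutator E) := by
      have h1 : ⁅M, M⁆ ≤ Cfsg.sigmaCore M ⊔ ⁅E, E⁆ :=
        commutator_sup_le_of_normal (le_sigmaCore_sup_compl hE) (sigmaCore_le M) hE.1
          (le_normalizer_sigmaCore M)
      have h3 : q ∈ {r | r ∈ Cfsg.sigma M ∨ r ∣ Nat.card (⁅E, E⁆ : Subgroup G)} := by
        refine isPiSubgroup_sup
          (((commutator_le_self E).trans hE.1).trans (le_normalizer_sigmaCore M))
          (fun r _ hr => Or.inr hr)
          (isPiSubgroup_of_subset (fun r hr => Or.inl hr) (isPiSubgroup_sigmaCore M)) q hq ?_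
        rw [sup_comm]
        exact hqM.trans (card_dvd_of_le h1)
      rw [← card_map_of_injective (f := E.subtype) E.subtype_injective, map_subtype_commutator]
      exact h3.resolve_left hqs
    have hidx := (Sylow.not_dvd_card_commutator_or_not_dvd_index_commutator T').resolve_left
      (not_not.2 hdc)
    intro x hx
    rw [← map_subtype_commutator]
    refine ⟨⟨x, hT.le hx⟩, ?_, rfl⟩
    show (⟨x, hT.le hx⟩ : E) ∈ commutator E
    rw [← QuotientGroup.eq_one_iff, ← orderOf_eq_one_iff]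
    obtain ⟨k, hk⟩ := hT.isPGroup ⟨x, hx⟩
    refine Nat.eq_one_of_dvd_coprimes (((Fact.out : q.Prime).coprime_iff_not_dvd.2 hidx).pow_left k)
      (orderOf_dvd_of_pow_eq_one ?_) ?_
    · rw [← QuotientGroup.mk_pow, show (⟨x, hT.le hx⟩ : E) ^ q ^ k = 1 from Subtype.ext (by
        simpa using congrArg Subtype.val hk), QuotientGroup.mk_one]
    · rw [index_eq_card]
      exact orderOf_dvd_natCard _
  have hnilE := isNilpotent_compl_derived hG F hM hE
  haveI : Group.IsNilpotent E₃ := isNilpotent_of_le hder hnilE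
  refine ⟨inferInstance, hder, ?_⟩
  set C := Cfsg.piCoreOf (Cfsg.tau3 M) ⁅E, E⁆ with hC
  have hEC : E₃ = C := le_antisymm (nilpotent_le_piCoreOf hnilE hder hE₃.2.1)
    (le_of_isPiHallOf_le hE₃ (nilpotent_le_piCoreOf hnilE hder hE₃.2.1)
      ((piCoreOf_le _ _).trans (commutator_le_self E)) (isPiSubgroup_piCoreOf _ _))
  rw [hEC]
  exact (le_normalizer_commutator_self E).trans (normalizer_le_normalizer_piCoreOf _ _)

end CfsgLib.OddOrder.BG12
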