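import Cfsg.Agent.OddOrder.BG12.MulNormal

/-!
# BG 12.5, 12.6: planes `A ∈ E_p²(M)` for `p ∈ τ₂(M)`
-/

set_option autoImplicit false
set_option linter.style.haveILetI false
set_option linter.unusedSectionVars false
set_option maxHeartbeats 800000

namespace CfsgLib.OddOrder.BG12

open Cfsg Subgroup CfsgLib.OddOrder.BG11
open CfsgLib.ConjFunctor (IsSylowIn exists_isSylowIn_ge)
open scoped commutatorElement

variable {G : Type*} [Group G] [Finite G] {p : ℕ} {M : Subgroup G}

theorem exists_plane_of_tau2 [Fact p.Prime] (hp : p ∈ Cfsg.tau2 M) :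
    ∃ A : Subgroup G, A ≤ M ∧ Cfsg.IsElementaryAbelian p A ∧ Nat.card A = p ^ 2 :=
  exists_card_sq_of_not_pRankLE_one hp.2.2.2

theorem tau2_of_plane [Fact p.Prime] (F : BG10Facts G) (hM : IsCoatom M) (hp : p ∉ Cfsg.sigma M)
    {A : Subgroup G} (hAM : A ≤ M) (hA : Cfsg.IsElementaryAbelian p A)
    (hc : Nat.card A = p ^ 2) : p ∈ Cfsg.tau2 M :=
  ⟨Fact.out, hp, pRankLE_two_of_not_sigma F hM hp, not_pRankLE_one_of_card_sq hAM hA hc⟩

variable (hG : Cfsg.IsMinSimpleOddOrder G) (F : BG10Facts G)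
include hG F

/-- BG 12.5(e): `M_σ` meets no other maximal subgroup through `A` nontrivially. -/
theorem sigmaCore_inf_eq_bot [Fact p.Prime] {A A₀ L : Subgroup G} (h : Exceptional p M A A₀)
    (hL : IsCoatom L) (hne : L ≠ M) (hAL : A ≤ L) : Cfsg.sigmaCore M ⊓ L = ⊥ := by
  set D := Cfsg.sigmaCore M ⊓ L with hD
  have hM := h.maximal
  have hAp := isPGroup_of_isElementaryAbelian h.elem
  have hAD : A ≤ normalizer (D : Set G) :=
    le_normalizer_inf_of_le (h.le.trans (le_normalizer_sigmaCore M)) (hAL.trans le_normalizer)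
  have hpD : ¬ p ∣ Nat.card D := fun hd =>
    not_dvd_card_sigmaCore h.not_sigma (hd.trans (card_dvd_of_le inf_le_left))
  by_contra hbot
  obtain ⟨q, hq, hqD⟩ := Nat.exists_prime_and_dvd
    (show Nat.card D ≠ 1 from fun h1 => hbot (Subgroup.card_eq_one.1 h1))
  haveI := Fact.mk hq
  haveI := hAp.isNilpotent
  obtain ⟨S, hAS⟩ := Coprime.exists_invariant_sylow hAD (coprime_card_of_not_dvd hAp hpD)
    (Or.inl inferInstance) q
  set U := (S : Subgroup D).map D.subtype with hUdef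
  have hUD : U ≤ D := map_subtype_le _
  have hUne : U ≠ ⊥ := sylowIn_ne_bot (isSylowIn_map_subtype S) hqD
  have hUp : IsPGroup q U := S.2.map _
  have hqM : q ∈ Cfsg.sigma M :=
    isPiSubgroup_sigmaCore M q hq (hqD.trans (card_dvd_of_le inf_le_left))
  have hqp : q ≠ p := fun e => h.not_sigma (e ▸ hqM)
  have hcop : (Nat.card A).Coprime (Nat.card U) :=
    coprime_card_of_not_dvd hAp (ne_of_dvd_sigma hUp hqp)
  have hle : ⁅U, A⁆ ≤ U := commutator_le_of_normalizer hAS
  refine hUne (le_bot_iff.1 ?_)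
  rw [← (h.exists_two_fpf hG F).1]
  refine le_inf (hUD.trans inf_le_left) (le_centralizer_iff.1 ?_)
  refine le_centralizer_of_commutator hAS hcop ?_
  by_cases hpL : p ∈ Cfsg.sigma L
  · have hqb : q ∉ Cfsg.beta L := fun hb => by
      obtain ⟨-, g, hg⟩ := exists_conj_of_alpha F hG hM hL hqM hb.1
      rw [hg, sigma_map_conj] at hpL
      exact h.not_sigma hpL
    exact le_centralizer_of_betaPrime F hG hL
      ((pGroup_le_sigmaCore F hL hpL hAL hAp).trans (sigmaCore_le_derived F hG hL))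
      (commutator_mono (hUD.trans inf_le_right) hAL) le_normalizer_of_commutator
      (isPiSubgroup_of_isPGroup hAp
        ⟨Fact.out, fun hb => not_ideal_of_maxElem h.elem h.card (h.maxElem hG F) hb.2⟩)
      (isPiSubgroup_of_isPGroup (hUp.to_le hle) ⟨hq, hqb⟩)
      (hcop.coprime_dvd_right (card_dvd_of_le hle))
  · obtain ⟨A₁, h', -⟩ := exists_exceptional hG F hL hAL hpL h.elem h.card
    by_cases hqL : q ∈ Cfsg.sigma L
    · refine absurd (le_bot_iff.1 ?_) hUne
      rw [← h'.sigmaCore_inf_sigmaCore hG F hM h.le (Ne.symm hne)]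
      exact le_inf (hUD.trans inf_le_left)
        (pGroup_le_sigmaCore F hL hqL (hUD.trans inf_le_right) hUp)
    · have h1 : ⁅U, A⁆ ≤ Cfsg.sigmaCore L ⊔ A := by
        rw [commutator_le]
        intro x hx a ha
        rw [commutatorElement_def]
        exact mul_mem (conj_mem_of_mem_normalizer
          (le_normalizer_sup_plane hG F h' (hUD hx).2) (mem_sup_right ha))
          (inv_mem (mem_sup_right ha))
      have h2 : IsPiSubgroup {r | r ∈ Cfsg.sigma L ∨ r = p} (Cfsg.sigmaCore L ⊔ A) := by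
        rw [sup_comm]
        exact isPiSubgroup_sup (hAL.trans (le_normalizer_sigmaCore L))
          (isPiSubgroup_of_isPGroup hAp (Or.inr rfl))
          (isPiSubgroup_of_subset (fun r hr => Or.inl hr) (isPiSubgroup_sigmaCore L))
      have h3 : ⁅U, A⁆ ⊓ (Cfsg.sigmaCore L ⊔ A) = ⊥ :=
        inf_eq_bot_of_isPiSubgroup (isPiSubgroup_of_isPGroup (π := ({q} : Set ℕ)) (hUp.to_le hle) rfl)
          h2 (Set.disjoint_singleton_left.2 fun hh => hh.elim hqL hqp)
      rw [inf_eq_left.2 h1] at h3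
      rw [h3]
      intro a _
      rw [mem_centralizer_iff]
      intro x hx
      rw [SetLike.mem_coe, mem_bot] at hx
      rw [hx, one_mul, mul_one]

/-- BG 12.5. -/
theorem exists_exceptional_of_tau2 [Fact p.Prime] (hM : IsCoatom M) (hp : p ∈ Cfsg.tau2 M)
    {A : Subgroup G} (hAM : A ≤ M) (hA : Cfsg.IsElementaryAbelian p A)
    (hc : Nat.card A = p ^ 2) : ∃ A₀, Exceptional p M A A₀ :=
  (exists_exceptional hG F hM hAM hp.2.1 hA hc).imp fun _ h => h.1

theorem isNilpotent_sigmaCore_of_tau2 [Fact p.Prime] (hM : IsCoatom M) (hp : p ∈ Cfsg.tau2 M) :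
    Group.IsNilpotent (Cfsg.sigmaCore M) := by
  obtain ⟨A, hAM, hA, hc⟩ := exists_plane_of_tau2 hp
  obtain ⟨A₀, h⟩ := exists_exceptional_of_tau2 hG F hM hp hAM hA hc
  exact h.isNilpotent_sigmaCore hG F

/-- Every Sylow `p`-subgroup, `p ∈ τ₂(M)`, contains a plane and is abelian. -/
theorem sylow_of_tau2 [Fact p.Prime] (hM : IsCoatom M) (hp : p ∈ Cfsg.tau2 M) {P : Subgroup G}
    (hP : IsSylowIn p P M) : IsMulCommutative P ∧
      ∃ A A₀ : Subgroup G, A ≤ P ∧ Exceptional p M A A₀ := by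
  obtain ⟨A, hAM, hA, hc⟩ := exists_plane_of_tau2 hp
  obtain ⟨T, hAT, hT⟩ := exists_isSylowIn_ge hAM (isPGroup_of_isElementaryAbelian hA)
  obtain ⟨m, hm, he⟩ := hP.exists_cj_eq hT
  have hle : A.map (MulAut.conj m).toMonoidHom ≤ P := he ▸ map_mono hAT
  obtain ⟨A₀, h⟩ := exists_exceptional_of_tau2 hG F hM hp (hle.trans hP.le)
    (isElementaryAbelian_map _ hA) (by rw [card_map_conj, hc])
  exact ⟨h.isMulCommutative_sylow hG F hP hle, _, A₀, hle, h⟩

/-- BG 12.6: `N_M(A)` is a complement through `A`. -/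
theorem inf_normalizer_plane_eq [Fact p.Prime] {E A A₀ : Subgroup G} (h : Exceptional p M A A₀)
    (hE : Cfsg.IsComplIn E (Cfsg.sigmaCore M) M) (hAE : A ≤ E) :
    M ⊓ normalizer (A : Set G) = E := by
  refine le_antisymm (fun m hm => ?_) (le_inf hE.1 (compl_le_normalizer_plane hG F h hE hAE))
  obtain ⟨e, he, s, hs, rfl⟩ := hE.2.2.2 m hm.1
  have hsN : s ∈ normalizer (A : Set G) := by
    have h1 := mul_mem (inv_mem (compl_le_normalizer_plane hG F h hE hAE he)) hm.2
    simpa [← mul_assoc] using h1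
  have h0 : s ∈ Cfsg.sigmaCore M ⊓ centralizer (A : Set G) := by
    refine mem_inf.2 ⟨hs, mem_centralizer_iff.2 fun a ha => ?_⟩
    have h1 : ⁅s, a⁆ ∈ A ⊓ Cfsg.sigmaCore M := by
      refine mem_inf.2 ⟨?_, ?_⟩
      · rw [commutatorElement_def]
        exact mul_mem (conj_mem_of_mem_normalizer hsN ha) (inv_mem ha)
      · rw [commutatorElement_def, show s * a * s⁻¹ * a⁻¹ = s * (a * s⁻¹ * a⁻¹) by group]
        exact mul_mem hs
          (conj_mem_of_mem_normalizer (le_normalizer_sigmaCore M (h.le ha)) (inv_mem hs))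
    rw [pGroup_inf_sigmaCore F h.not_sigma (isPGroup_of_isElementaryAbelian h.elem), mem_bot,
      commutatorElement_eq_one_iff_mul_comm] at h1
    exact h1.symm
  rw [(h.exists_two_fpf hG F).1, mem_bot] at h0
  rw [h0, mul_one]
  exact he

/-- The elements of order dividing `p` of a complement through `A` lie in `A`. -/
theorem mem_plane_of_pow_eq_one [Fact p.Prime] {E A A₀ : Subgroup G} (h : Exceptional p M A A₀)
    (hE : Cfsg.IsComplIn E (Cfsg.sigmaCore M) M) (hAE : A ≤ E) {x : G} (hx : x ∈ E)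
    (hxp : x ^ p = 1) : x ∈ A := by
  have hxG : IsPGroup p (zpowers x) := by
    by_cases hx1 : x = 1
    · subst hx1; rw [zpowers_one_eq_bot]; exact IsPGroup.of_bot
    · exact IsPGroup.iff_card.2 ⟨1, by rw [Nat.card_zpowers, orderOf_eq_prime hxp hx1, pow_one]⟩
  obtain ⟨P, hle, hP⟩ := exists_isSylowIn_ge
    (sup_le (zpowers_le.2 (hE.1 hx)) h.le : zpowers x ⊔ A ≤ M)
    (hxG.to_sup_of_normal_right' (isPGroup_of_isElementaryAbelian h.elem)
      (zpowers_le.2 (compl_le_normalizer_plane hG F h hE hAE hx)))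
  exact (h.pow_eq_one_iff hG F hP (le_sup_right.trans hle)
    (hle (mem_sup_left (mem_zpowers x)))).1 hxp

theorem not_normalizer_plane_le [Fact p.Prime] {A A₀ : Subgroup G} (h : Exceptional p M A A₀) :
    ¬ normalizer (A : Set G) ≤ M := by
  intro hle
  obtain ⟨P, hAP, hP⟩ := exists_isSylowIn_ge h.le (isPGroup_of_isElementaryAbelian h.elem)
  exact h.not_sigma (sigma_of_normalizer_le (h.dvd_card hG F) hP
    ((h.normalizer_sylow_le hG F hP hAP).trans hle))

/-- BG 12.6: `M` is the only maximal subgroup over `C(X)` if `X ≤ A` has fixed points in `M_σ`. -/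
theorem eq_of_centralizer_le_plane [Fact p.Prime] {A A₀ X L : Subgroup G}
    (h : Exceptional p M A A₀) (hXA : X ≤ A)
    (hfix : Cfsg.sigmaCore M ⊓ centralizer (X : Set G) ≠ ⊥) (hL : IsCoatom L)
    (hCL : centralizer (X : Set G) ≤ L) : L = M := by
  by_contra hne
  have hAL : A ≤ L := ((le_centralizer_self h.elem.1).trans (centralizer_le hXA)).trans hCL
  exact hfix (le_bot_iff.1 ((sigmaCore_inf_eq_bot hG F h hL hne hAL) ▸ inf_le_inf_left _ hCL))

theorem centralizer_le_of_fixed [Fact p.Prime] {A A₀ X : Subgroup G} (h : Exceptional p M A A₀)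
    (hXA : X ≤ A) (hX : X ≠ ⊥) (hfix : Cfsg.sigmaCore M ⊓ centralizer (X : Set G) ≠ ⊥) :
    centralizer (X : Set G) ≤ M := by
  obtain ⟨L, hL, hCL⟩ := minSimple_exists_coatom hG (minSimple_centralizer_subgroup_ne_top hG hX)
  exact eq_of_centralizer_le_plane hG F h hXA hfix hL hCL ▸ hCL

end CfsgLib.OddOrder.BG12
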