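import Cfsg.Agent.OddOrder.BG12.Nonabelian
import Cfsg.Agent.OddOrder.BG12.Structure
import Cfsg.Agent.OddOrder.BG3.FrattiniReduce
import Cfsg.Agent.Transfer.Fusion
import Cfsg.Agent.OddOrder.BG10.Cores

/-!
# BG 12.8: `σ(M)'`-subgroups and centralizers of `τ₂`-elements
-/

set_option autoImplicit false
set_option linter.style.haveILetI false
set_option linter.unusedSectionVars false
set_option maxHeartbeats 800000

namespace CfsgLib.OddOrder.BG12

open Cfsg Subgroup CfsgLib.OddOrder.BG11
open CfsgLib.ConjFunctor (IsSylowIn exists_isSylowIn_ge)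
open scoped commutatorElement

variable {G : Type*} [Group G] [Finite G] {p r : ℕ} {M E : Subgroup G}

/-- A nilpotent group with abelian Sylow subgroups is abelian. -/
theorem isMulCommutative_of_nilpotent {N : Subgroup G} (hN : Group.IsNilpotent N)
    (h : ∀ (q : ℕ) [Fact q.Prime], ∀ Q : Subgroup G, Q ≤ N → IsPGroup q Q → IsMulCommutative Q) :
    IsMulCommutative N := by
  rw [← le_centralizer_iff_isMulCommutative]
  refine le_centralizer_of_forall_sylow fun q _ => ⟨default, ?_⟩
  set Q := ((default : Sylow q N) : Subgroup N).map N.subtype with hQ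
  have hQN : Q ≤ N := map_subtype_le _
  have hQp : IsPGroup q Q := (default : Sylow q N).2.map _
  refine BG4.le_of_sylow_le fun r hr => ?_
  haveI := Fact.mk hr
  refine ⟨default, ?_⟩
  set R := ((default : Sylow r N) : Subgroup N).map N.subtype with hR
  have hRN : R ≤ N := map_subtype_le _
  have hRp : IsPGroup r R := (default : Sylow r N).2.map _
  by_cases hqr : r = q
  · subst hqr
    haveI := h r R hRN hRp
    exact le_centralizer_self inferInstance
  · refine le_centralizer_of_coprime_nilpotent hN hRN hQN ?_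
    obtain ⟨i, hi⟩ := IsPGroup.iff_card.1 hRp
    obtain ⟨j, hj⟩ := IsPGroup.iff_card.1 hQp
    rw [hi, hj]
    exact ((Nat.coprime_primes hr Fact.out).2 hqr).pow i j

/-- An abelian Sylow subgroup lies in the derived group of its normalizer. -/
theorem sylow_le_derived_normalizer [Fact p.Prime] (hG : Cfsg.IsMinSimpleOddOrder G)
    {R : Subgroup G} (hR : IsSylowIn p R ⊤) (hab : IsMulCommutative R) :
    R ≤ ⁅normalizer (R : Set G), normalizer (R : Set G)⁆ := by
  let P : Sylow p G := hR.isPGroup.toSylow (show ¬ p ∣ R.index by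
    have := hR.not_dvd
    rwa [relIndex_top_right] at this)
  have hP : (P : Subgroup G) = R := rfl
  have h := Transfer.commutator_inf_eq_of_controlsFusion P (N := normalizer (R : Set G))
    (hP ▸ le_normalizer) (hP ▸ Transfer.controlsFusion_normalizer_of_isMulCommutative P hab)
  rw [hP, minSimple_commutator_eq_top hG, top_inf_eq] at h
  exact h.le.trans inf_le_left

variable (hG : Cfsg.IsMinSimpleOddOrder G) (F : BG10Facts G)
include hG F

/-- `σ(M)'`-subgroups of prime power order of `M` are abelian. -/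
theorem isMulCommutative_pGroup [Fact p.Prime] (hM : IsCoatom M) (hp : p ∉ Cfsg.sigma M)
    {Q : Subgroup G} (hQM : Q ≤ M) (hQ : IsPGroup p Q) : IsMulCommutative Q := by
  obtain ⟨R, hQR, hR⟩ := exists_isSylowIn_ge hQM hQ
  have key : IsMulCommutative R := by
    by_cases hd : p ∣ Nat.card M
    swap
    · have hRb : R = ⊥ := by
        obtain ⟨k, hk⟩ := IsPGroup.iff_card.1 hR.isPGroup
        rcases Nat.eq_zero_or_pos k with rfl | hk0
        · exact Subgroup.card_eq_one.1 (hk.trans (pow_zero p))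
        · exact absurd ((hk ▸ dvd_pow_self p hk0.ne').trans (card_dvd_of_le hR.le)) hd
      rw [hRb]; infer_instance
    by_cases h1 : Cfsg.PRankLE p 1 M
    · haveI := isCyclic_of_pRankLE_one hR.le hR.isPGroup
        (minSimple_prime_ne_two_subgroup hG hd) h1
      infer_instance
    · exact (sylow_of_tau2 hG F hM ⟨Fact.out, hp, pRankLE_two_of_not_sigma F hM hp, h1⟩ hR).1
  haveI := key
  exact ⟨⟨fun a b => Subtype.ext (setLike_mul_comm (s := R) (hQR a.2) (hQR b.2))⟩⟩

/-- BG 12.8(a). -/
theorem isMulCommutative_of_sigma' (hM : IsCoatom M) {N : Subgroup G} (hNM : N ≤ M)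
    (hN : Group.IsNilpotent N)
    (hs : ∀ q : ℕ, q.Prime → q ∣ Nat.card N → q ∉ Cfsg.sigma M) : IsMulCommutative N := by
  refine isMulCommutative_of_nilpotent hN fun q _ Q hQN hQ => ?_
  by_cases hd : q ∣ Nat.card N
  · exact isMulCommutative_pGroup hG F hM (hs q Fact.out hd) (hQN.trans hNM) hQ
  · have hQb : Q = ⊥ := by
      obtain ⟨k, hk⟩ := IsPGroup.iff_card.1 hQ
      rcases Nat.eq_zero_or_pos k with rfl | hk0
      · exact Subgroup.card_eq_one.1 (hk.trans (pow_zero q))
      · exact absurd ((hk ▸ dvd_pow_self q hk0.ne').trans (card_dvd_of_le hQN)) hd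
    rw [hQb]; infer_instance

/-- BG 12.8(b). -/
theorem isMulCommutative_compl_derived (hM : IsCoatom M)
    (hE : Cfsg.IsComplIn E (Cfsg.sigmaCore M) M) : IsMulCommutative (⁅E, E⁆ : Subgroup G) :=
  isMulCommutative_of_sigma' hG F hM ((commutator_le_self E).trans hE.1)
    (isNilpotent_compl_derived hG F hM hE) fun _ hq hd =>
      not_sigma_of_dvd_compl F hM hE hq (hd.trans (card_dvd_of_le (commutator_le_self E)))

/-- BG 12.8(c). -/
theorem normalizer_noncyclic_le [Fact p.Prime] (hM : IsCoatom M) (hp : p ∈ Cfsg.sigma M)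
    {P : Subgroup G} (hP : IsPGroup p P) (hPM : P ≤ M) (hnc : ¬ IsCyclic P) :
    normalizer (P : Set G) ≤ M := by
  have hPne : P ≠ ⊥ := by
    intro h
    subst h
    exact hnc inferInstance
  have hr : ¬ Cfsg.PRankLE p 1 P := fun h => hnc (isCyclic_of_pRankLE_one le_rfl hP
    (minSimple_prime_ne_two_subgroup hG (dvd_card_of_sigma hp)) h)
  obtain ⟨B, hBP, hB, hBc⟩ := exists_card_sq_of_not_pRankLE_one hr
  intro n hn
  obtain ⟨m, hm, c, hc, rfl⟩ := F.fusion M hM p hp P hP hPne hPM n
    ((map_conj_eq_self_iff.2 hn).le.trans hPM)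
  exact mul_mem hm (centralizer_plane_le hG F hM (hBP.trans hPM) hB hBc (centralizer_le hBP hc))

/-- With abelian Sylow subgroups, planes for two primes of `τ₂(M)` are centralized by each other's
Sylow subgroups in `E`. -/
theorem sylow_le_centralizer_plane [Fact p.Prime] [Fact r.Prime] {A A₀ R : Subgroup G}
    (h : Exceptional p M A A₀) (hE : Cfsg.IsComplIn E (Cfsg.sigmaCore M) M) (hAE : A ≤ E)
    (hrp : r ≠ p) (hr : r ∈ Cfsg.tau2 M) (hR : IsSylowIn r R E) : R ≤ centralizer (A : Set G) := by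
  have hM := h.maximal
  have hRM := isSylowIn_of_compl F hE hr.2.1 hR
  obtain ⟨hRab, B, B₀, hBR, hB⟩ := sylow_of_tau2 hG F hM hr hRM
  have hBE : B ≤ E := hBR.trans hR.le
  -- the Sylow subgroups of `G` for both primes are abelian
  have habel : ∀ (q : ℕ) [Fact q.Prime], ∀ (C C₀ : Subgroup G), Exceptional q M C C₀ → C ≤ E →
      (∃ q' ∈ Cfsg.tau2 M, q' ≠ q) → ∀ S : Subgroup G, IsSylowIn q S ⊤ → IsMulCommutative S := by
    intro q _ C C₀ hC hCE hne S hS
    by_contra hab
    obtain ⟨P, Sp, hN⟩ := exists_nonabSylow hC fun T hT => hab (by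
      obtain ⟨g, -, hg⟩ := hS.exists_cj_eq
        (show IsSylowIn q (T : Subgroup G) ⊤ from ⟨le_top, T.2, by
          rw [relIndex_top_right]; exact T.not_dvd_index⟩)
      subst hg
      haveI := hT
      exact Subgroup.map_isMulCommutative _ _)
    obtain ⟨q', hq', hne'⟩ := hne
    rw [hN.tau2_eq hG F hE hCE] at hq'
    exact hne' hq'
  have hBC : B ≤ centralizer (A : Set G) := by
    rw [← commutator_eq_bot_iff_le_centralizer, eq_bot_iff]
    have h0 : B ⊓ A = ⊥ := inf_eq_bot_of_isPiSubgroup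
      (isPiSubgroup_of_isPGroup (π := ({r} : Set ℕ)) (isPGroup_of_isElementaryAbelian hB.elem) rfl)
      (isPiSubgroup_of_isPGroup (π := ({p} : Set ℕ)) (isPGroup_of_isElementaryAbelian h.elem) rfl)
      (Set.disjoint_singleton.2 hrp)
    rw [← h0, commutator_le]
    intro b hb a ha
    refine mem_inf.2 ⟨?_, ?_⟩
    · rw [commutatorElement_def, show b * a * b⁻¹ * a⁻¹ = b * (a * b⁻¹ * a⁻¹) by group]
      exact mul_mem hb (conj_mem_of_mem_normalizer
        (compl_le_normalizer_plane hG F hB hE hBE (hAE ha)) (inv_mem hb))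
    · rw [commutatorElement_def]
      exact mul_mem (conj_mem_of_mem_normalizer
        (compl_le_normalizer_plane hG F h hE hAE (hBE hb)) ha) (inv_mem ha)
  have hCE : centralizer (B : Set G) ≤ E := by
    rw [← inf_normalizer_plane_eq hG F hB hE hBE]
    exact le_inf (hB.centralizer_le_maximal hG F) (centralizer_le_normalizer _)
  obtain ⟨S, hRS, hS⟩ := exists_isSylowIn_ge (le_top : R ≤ ⊤) hR.isPGroup
  haveI := habel r B B₀ hB hBE ⟨p, tau2_of_plane F hM h.not_sigma h.le h.elem h.card, hrp.symm⟩ S hS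
  have hSC : S ≤ centralizer (B : Set G) :=
    (le_centralizer_self inferInstance).trans (centralizer_le (hBR.trans hRS))
  have hSR : S = R := hR.eq_of_le hRS (hSC.trans hCE) hS.isPGroup
  subst hSR
  have hAB : A ≤ centralizer (B : Set G) := le_centralizer_iff.1 hBC
  have hNR : normalizer (S : Set G) ≤ normalizer (A : Set G) := by
    intro n hn
    have hnB := hB.normalizer_sylow_le hG F hRM hBR hn
    exact ConjFunctor.mem_normalizer_of_forall_conj_mem fun a ha =>
      mem_plane_of_pow_eq_one hG F h hE hAE (hCE (conj_mem_centralizer hnB (hAB ha)))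
        (by rw [conj_pow, h.elem.2 a ha]; group)
  refine (sylow_le_derived_normalizer hG hS inferInstance).trans
    ((commutator_mono hNR hNR).trans ?_)
  have hNne : normalizer (A : Set G) ≠ ⊤ := minSimple_normalizer_ne_top hG
    (ne_bot_of_card_sq h.card) (minSimple_ne_top_of_isPGroup hG (isPGroup_of_isElementaryAbelian h.elem))
  refine commutator_le_centralizer_of_not_dvd (minSimple_solvable hG hNne)
    (minSimple_odd_subgroup hG _) h.elem h.card le_rfl fun hd => ?_
  obtain ⟨T, hAT, hT⟩ :=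
    exists_isSylowIn_ge (le_top : A ≤ ⊤) (isPGroup_of_isElementaryAbelian h.elem)
  haveI := habel p A A₀ h hAE ⟨r, hr, hrp⟩ T hT
  have hTC : T ≤ centralizer (A : Set G) :=
    (le_centralizer_self inferInstance).trans (centralizer_le hAT)
  refine (hT.of_le (hTC.trans (centralizer_le_normalizer _)) le_top).not_dvd ?_
  rw [← relIndex_mul_relIndex T _ _ hTC (centralizer_le_normalizer _)]
  exact hd.mul_left _

/-- BG 12.8(d). -/
theorem centralizer_tau2_element (hM : IsCoatom M) {x : G} (hxM : x ∈ M) (hx1 : x ≠ 1)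
    (hτ : ∀ q : ℕ, q.Prime → q ∣ orderOf x → q ∈ Cfsg.tau2 M) (hfix : x ∈ Cfsg.sigmaHat M) :
    centralizer ({x} : Set G) ≤ M ∧
      ∀ L : Subgroup G, IsCoatom L → centralizer ({x} : Set G) ≤ L → L = M := by
  obtain ⟨-, y, hy, hy1, hxy⟩ := hfix
  obtain ⟨E, hxE, hE⟩ := exists_compl_ge F hG hM (zpowers_le.2 hxM) fun q hq hd =>
    ⟨hq, (hτ q hq (Nat.card_zpowers x ▸ hd)).2.1⟩
  obtain ⟨q, hq, hqd⟩ := Nat.exists_prime_and_dvd (show orderOf x ≠ 1 from
    fun h => hx1 (orderOf_eq_one_iff.1 h))
  haveI := Fact.mk hq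
  have hqt := hτ q hq hqd
  obtain ⟨P, hP⟩ := exists_isSylowIn (p := q) E
  obtain ⟨-, A, A₀, hAP, h⟩ := sylow_of_tau2 hG F hM hqt (isSylowIn_of_compl F hE hqt.2.1 hP)
  have hAE : A ≤ E := hAP.trans hP.le
  have hyC : y ∈ centralizer ({x} : Set G) := mem_centralizer_singleton_iff.2 hxy.symm
  have hxA : zpowers x ≤ centralizer (A : Set G) := by
    refine BG4.le_of_sylow_le fun r hr => ?_
    haveI := Fact.mk hr
    refine ⟨default, ?_⟩
    set D := ((default : Sylow r (zpowers x)) : Subgroup (zpowers x)).map (zpowers x).subtype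
      with hDdef
    have hDx : D ≤ zpowers x := map_subtype_le _
    have hDp : IsPGroup r D := (default : Sylow r (zpowers x)).2.map _
    by_cases hd : r ∣ orderOf x
    swap
    · have hDb : D = ⊥ := by
        obtain ⟨k, hk⟩ := IsPGroup.iff_card.1 hDp
        rcases Nat.eq_zero_or_pos k with rfl | hk0
        · exact Subgroup.card_eq_one.1 (hk.trans (pow_zero r))
        · exact absurd ((hk ▸ dvd_pow_self r hk0.ne').trans
            (Nat.card_zpowers x ▸ card_dvd_of_le hDx)) hd
      rw [hDb]; exact bot_le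
    obtain ⟨R, hDR, hR⟩ := exists_isSylowIn_ge (hDx.trans hxE) hDp
    by_cases hrq : r = q
    · subst hrq
      have hRM := isSylowIn_of_compl F hE hqt.2.1 hR
      have hAR : A ≤ R := le_sup_right.trans (le_of_isPGroup_of_le_sylowIn hR
        (hR.isPGroup.to_sup_of_normal_right' (isPGroup_of_isElementaryAbelian h.elem)
          (hR.le.trans (compl_le_normalizer_plane hG F h hE hAE))) le_sup_left (sup_le hR.le hAE))
      exact hDR.trans (h.le_centralizer_sylow hG F hRM hAR)
    · exact hDR.trans (sylow_le_centralizer_plane hG F h hE hAE hrq (hτ r hr hd) hR)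
  have hxA' : x ∈ centralizer (A : Set G) := hxA (mem_zpowers x)
  -- a power of `x` of order `q` lies in `A`
  obtain ⟨m, hm⟩ := hqd
  set z := x ^ m with hz
  have hzq : z ^ q = 1 := by rw [hz, ← pow_mul, mul_comm, ← hm, pow_orderOf_eq_one]
  have hz1 : z ≠ 1 := by
    intro h1
    have hd : orderOf x ∣ m := orderOf_dvd_of_pow_eq_one h1
    rw [hm] at hd
    have hm0 : 0 < m := Nat.pos_of_ne_zero fun h0 => by
      rw [h0, mul_zero] at hm
      exact (orderOf_pos x).ne' hm
    exact absurd (Nat.le_of_dvd hm0 hd) (not_le.2 (lt_mul_of_one_lt_left hm0 hq.one_lt))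
  have hzA : z ∈ A :=
    mem_plane_of_pow_eq_one hG F h hE hAE (pow_mem (hxE (mem_zpowers x)) m) hzq
  have hCz : centralizer ({x} : Set G) ≤ centralizer (zpowers z : Set G) := by
    rw [← centralizer_zpowers]
    exact centralizer_le (zpowers_le.2 (pow_mem (mem_zpowers x) m))
  have hfz : Cfsg.sigmaCore M ⊓ centralizer (zpowers z : Set G) ≠ ⊥ := fun hb => hy1 (by
    have : y ∈ Cfsg.sigmaCore M ⊓ centralizer (zpowers z : Set G) := ⟨hy, hCz hyC⟩
    rwa [hb, mem_bot] at this)
  refine ⟨hCz.trans (centralizer_le_of_fixed hG F h (zpowers_le.2 hzA)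
    (fun hb => hz1 (zpowers_eq_bot.1 hb)) hfz), fun L hL hCL => ?_⟩
  by_contra hne
  have hAL : A ≤ L := fun a ha => hCL (mem_centralizer_singleton_iff.2
    (mem_centralizer_iff.1 hxA' a ha))
  refine hy1 ?_
  have : y ∈ Cfsg.sigmaCore M ⊓ L := ⟨hy, hCL hyC⟩
  rwa [sigmaCore_inf_eq_bot hG F h hL hne hAL, mem_bot] at this

end CfsgLib.OddOrder.BG12
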