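import Cfsg.Agent.OddOrder.BG11.Groups
import Mathlib.NumberTheory.Basic
import Mathlib.FieldTheory.Finite.Basic

/-!
# Invariant cyclic subgroups over an invariant line of top powers
-/

set_option autoImplicit false
set_option linter.style.haveILetI false
set_option linter.unusedSectionVars false

namespace CfsgLib.OddOrder.BG12

open Cfsg Subgroup CfsgLib.OddOrder.BG11
open scoped IsMulCommutative

variable {G : Type*} [Group G] [Finite G] {p : ℕ} [Fact p.Prime]

/-- A `p'`-group `K` acting on an abelian `p`-group `P` of exponent `p ^ (m + 1)` and fixing a line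
`L` of `p ^ m`-th powers fixes a cyclic subgroup of order `p ^ (m + 1)` over `L`. -/
theorem exists_invariant_cyclic_lift {K P L : Subgroup G} (hPc : IsMulCommutative P)
    (hK : ¬ p ∣ Nat.card K) (hKP : K ≤ normalizer (P : Set G)) (hL : Nat.card L = p)
    (hKL : K ≤ normalizer (L : Set G)) {m : ℕ} (hexp : ∀ y ∈ P, y ^ p ^ (m + 1) = 1) {x : G}
    (hx : x ∈ P) (hxL : x ^ p ^ m ∈ L) (hx1 : x ^ p ^ m ≠ 1) :
    ∃ y ∈ P, orderOf y = p ^ (m + 1) ∧ K ≤ normalizer ((zpowers y : Subgroup G) : Set G) ∧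
      y ^ p ^ m ∈ L ∧ y ^ p ^ m ≠ 1 := by
  classical
  haveI := hPc
  haveI := Fintype.ofFinite K
  set l := x ^ p ^ m with hl
  have hgen : zpowers l = L := zpowers_eq_of_card hL hxL hx1
  have hlo : orderOf l = p := by rw [← Nat.card_zpowers, hgen, hL]
  have hex : ∀ k : K, ∃ c : ℤ, (k : G) * l * (k : G)⁻¹ = l ^ c := fun k => by
    have h1 : (k : G) * l * (k : G)⁻¹ ∈ zpowers l := by
      rw [hgen]
      exact (mem_normalizer_iff.1 (hKL k.2) l).1 hxL
    obtain ⟨c, hc⟩ := mem_zpowers_iff.1 h1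
    exact ⟨c, hc.symm⟩
  choose c hc using hex
  have hcong : ∀ a b : ℤ, l ^ a = l ^ b → ((a : ℤ) : ZMod p) = (b : ZMod p) := by
    intro a b hab
    rw [ZMod.intCast_eq_intCast_iff]
    rw [zpow_eq_zpow_iff_modEq, hlo] at hab
    exact hab
  have hmul : ∀ a b : K, ((c (a * b) : ℤ) : ZMod p) = (c a : ZMod p) * (c b : ZMod p) := by
    intro a b
    rw [← Int.cast_mul]
    refine hcong _ _ ?_
    rw [zpow_mul, ← hc a, ← hc (a * b), conj_zpow, ← hc b]
    push_cast
    group
  have hone : ((c 1 : ℤ) : ZMod p) = 1 := by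
    rw [← Int.cast_one]
    refine hcong _ _ ?_
    rw [← hc 1, zpow_one]
    simp
  set n : K → ℤ := fun k => c k⁻¹ ^ p ^ m with hn
  let σ : K → P → P := fun k z =>
    ⟨(k : G) * (z : G) * (k : G)⁻¹, (mem_normalizer_iff.1 (hKP k.2) z).1 z.2⟩
  let x₀ : P := ⟨x, hx⟩
  set y : P := ∏ k : K, σ k x₀ ^ n k with hy
  have hpow : ∀ (z : P) (a b : ℤ), (p : ℤ) ^ (m + 1) ∣ a - b → z ^ a = z ^ b := by
    intro z a b hd
    obtain ⟨t, ht⟩ := hd
    have hz : z ^ ((p : ℤ) ^ (m + 1)) = 1 := by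
      rw [← Nat.cast_pow, zpow_natCast]
      exact Subtype.ext (by simpa using hexp z z.2)
    rw [show a = (p : ℤ) ^ (m + 1) * t + b by rw [← ht]; ring, zpow_add, zpow_mul, hz, one_zpow,
      one_mul]
  let σhom : K → (P →* P) := fun k =>
    { toFun := σ k
      map_one' := Subtype.ext (by simp [σ])
      map_mul' := fun a b => Subtype.ext (by
        show (k : G) * ((a : G) * (b : G)) * (k : G)⁻¹ =
          ((k : G) * a * (k : G)⁻¹) * ((k : G) * b * (k : G)⁻¹)
        group) }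
  have hconj : ∀ h : K, σ h y = y ^ (c h ^ p ^ m) := by
    intro h
    show σhom h y = _
    rw [hy, map_prod]
    rw [← Finset.prod_zpow]
    refine Fintype.prod_equiv (Equiv.mulLeft h) _ _ fun k => ?_
    rw [map_zpow, show (σhom h) (σ k x₀) = σ (h * k) x₀ from Subtype.ext (by
      show (h : G) * ((k : G) * x * (k : G)⁻¹) * (h : G)⁻¹ = _
      simp only [σ, x₀, Subgroup.coe_mul]
      group), Equiv.coe_mulLeft, ← zpow_mul]
    refine hpow _ _ _ ?_
    rw [hn]
    simp only [← mul_pow]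
    refine dvd_sub_pow_of_dvd_sub ?_ m
    rw [← ZMod.intCast_eq_intCast_iff_dvd_sub]
    rw [Int.cast_mul, ← hmul, show (h * k)⁻¹ * h = k⁻¹ by group]
  have hcoe : ∀ (s : Finset K) (f : K → ℤ), (∏ k ∈ s, (⟨l, pow_mem hx _⟩ : P) ^ f k) =
      (⟨l, pow_mem hx _⟩ : P) ^ (∑ k ∈ s, f k) := by
    intro s f
    induction s using Finset.induction_on with
    | empty => simp
    | insert a s ha ih => rw [Finset.prod_insert ha, Finset.sum_insert ha, zpow_add, ih]
  have htop : y ^ p ^ m = (⟨l, pow_mem hx _⟩ : P) ^ (∑ k : K, c k * n k) := by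
    rw [← hcoe, hy, ← Finset.prod_pow]
    refine Finset.prod_congr rfl fun k _ => ?_
    rw [← zpow_natCast, ← zpow_mul, mul_comm, zpow_mul, zpow_natCast, mul_comm (c k) (n k),
      zpow_mul' _ (n k)]
    congr 1
    refine Subtype.ext ?_
    push_cast
    show ((k : G) * x * (k : G)⁻¹) ^ p ^ m = l ^ c k
    rw [conj_pow, ← hc k]
  have hsum : ((∑ k : K, c k * n k : ℤ) : ZMod p) = (Nat.card K : ZMod p) := by
    rw [Int.cast_sum, Nat.card_eq_fintype_card]
    have : ∀ k : K, ((c k * n k : ℤ) : ZMod p) = 1 := fun k => by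
      rw [hn, Int.cast_mul, Int.cast_pow, ZMod.pow_card_pow, ← hmul, mul_inv_cancel, hone]
    rw [Finset.sum_congr rfl fun k _ => this k]
    simp
  have htopL : (y : G) ^ p ^ m = l ^ (∑ k : K, c k * n k) := by
    simpa using congrArg Subtype.val htop
  have htop1 : (y : G) ^ p ^ m ≠ 1 := by
    rw [htopL]
    intro h1
    have h2 : ((∑ k : K, c k * n k : ℤ) : ZMod p) = ((0 : ℤ) : ZMod p) :=
      hcong _ _ (by rw [h1, zpow_zero])
    rw [hsum, Int.cast_zero, CharP.cast_eq_zero_iff (ZMod p) p] at h2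
    exact hK h2
  refine ⟨y, y.2, orderOf_eq_prime_pow htop1 (hexp y y.2), fun h hh => ?_, ?_, htop1⟩
  · rw [← map_conj_eq_self_iff]
    refine Subgroup.eq_of_le_of_card_ge ?_ (card_map_conj _ h).ge
    rw [MonoidHom.map_zpowers, zpowers_le, mem_zpowers_iff]
    exact ⟨c ⟨h, hh⟩ ^ p ^ m, by
      have := congrArg Subtype.val (hconj ⟨h, hh⟩)
      simpa [σ] using this.symm⟩
  · rw [htopL, ← hgen]
    exact zpow_mem (mem_zpowers l) _

end CfsgLib.OddOrder.BG12
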