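import Cfsg.Agent.OddOrder.BG12.GoodLine
import Cfsg.Agent.OddOrder.BG12.CyclicLift
import Cfsg.Agent.OddOrder.BG9.LocalFrattini
import Cfsg.Agent.OddOrder.BG13.Basic
import Cfsg.Agent.OddOrder.BG1Stab
import Cfsg.Agent.OddOrder.BG9.SCNThree
import Cfsg.Agent.OddOrder.BG15.HallTools
import Cfsg.Agent.Solvable.Frattini

/-!
# BG 12.9: the abelian normal subgroup and the free subgroup of the same exponent
-/

set_option autoImplicit false
set_option linter.style.haveILetI false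
set_option linter.unusedSectionVars false
set_option maxHeartbeats 800000

namespace CfsgLib.OddOrder.BG12

open Cfsg Subgroup CfsgLib.OddOrder.BG11
open CfsgLib.ConjFunctor (IsSylowIn exists_isSylowIn_ge)
open scoped commutatorElement

variable {G : Type*} [Group G] [Finite G] {p r : ℕ} {M E A A₀ P Sp : Subgroup G}

/-! ### General group theory -/

theorem mem_of_pow_mem_of_coprime {H : Subgroup G} {x : G} {n : ℕ} (hn : (orderOf x).Coprime n)
    (h : x ^ n ∈ H) : x ∈ H := by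
  obtain ⟨m, hm⟩ := exists_pow_eq_self_of_coprime hn.symm
  rw [← hm]
  exact pow_mem h m

/-- Subgroups normalizing each other and meeting trivially commute. -/
theorem le_centralizer_of_disjoint_normalize {U V : Subgroup G} (hU : U ≤ normalizer (V : Set G))
    (hV : V ≤ normalizer (U : Set G)) (hd : U ⊓ V = ⊥) : U ≤ centralizer (V : Set G) := by
  intro u hu
  refine mem_centralizer_iff.2 fun v hv => ?_
  have h1 : ⁅u, v⁆ ∈ U ⊓ V := by
    refine mem_inf.2 ⟨?_, ?_⟩
    · rw [commutatorElement_def, show u * v * u⁻¹ * v⁻¹ = u * (v * u⁻¹ * v⁻¹) by group]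
      exact mul_mem hu (conj_mem_of_mem_normalizer (hV hv) (inv_mem hu))
    · rw [commutatorElement_def]
      exact mul_mem (conj_mem_of_mem_normalizer (hU hu) hv) (inv_mem hv)
  rw [hd, mem_bot, commutatorElement_eq_one_iff_mul_comm] at h1
  exact h1.symm

/-- A normal Sylow subgroup contains every `p`-subgroup. -/
theorem le_of_normal_sylowIn [Fact p.Prime] {Q U : Subgroup G} (hP : IsSylowIn p P Q)
    (hn : Q ≤ normalizer (P : Set G)) (hUQ : U ≤ Q) (hU : IsPGroup p U) : U ≤ P := by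
  obtain ⟨a, ha, hle⟩ := hP.exists_cj_le hUQ hU
  intro u hu
  have h1 := hle (mem_map_of_mem _ hu)
  exact (mem_normalizer_iff.1 (hn ha) u).2 h1

/-- Exponents agree when the subgroup realises every prime power order. -/
theorem exponent_eq_of_prime_powers {E₀ : Subgroup G} (hle : E₀ ≤ E)
    (h : ∀ (q : ℕ) [Fact q.Prime], ∀ x ∈ E, IsPGroup q (zpowers x) →
      ∃ y ∈ E₀, orderOf x ∣ orderOf y) : Monoid.exponent E₀ = Monoid.exponent E := by
  refine Nat.dvd_antisymm
    (Monoid.exponent_dvd_of_monoidHom (inclusion hle) (inclusion_injective hle)) ?_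
  refine Monoid.exponent_dvd.2 fun x => ?_
  rw [← Subgroup.orderOf_coe]
  refine (Nat.dvd_iff_prime_pow_dvd_dvd _ _).2 fun q k hq hd => ?_
  haveI := Fact.mk hq
  have ho : orderOf ((x : G) ^ (orderOf (x : G) / q ^ k)) = q ^ k :=
    orderOf_pow_orderOf_div (orderOf_pos _).ne' hd
  obtain ⟨y, hy, hyd⟩ := h q _ (pow_mem x.2 _) (IsPGroup.of_card (n := k)
    (by rw [Nat.card_zpowers, ho]))
  rw [ho] at hyd
  refine hyd.trans ?_
  rw [show orderOf y = orderOf (⟨y, hy⟩ : E₀) from Subgroup.orderOf_coe (⟨y, hy⟩ : E₀)]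
  exact Monoid.order_dvd_exponent _

/-- An element of order `p` of a cyclic group lies in its line. -/
theorem mem_line_of_mem_zpowers [Fact p.Prime] {x z : G} {L : Subgroup G} (hLx : L ≤ zpowers x)
    (hL : Nat.card L = p) (hz : z ∈ zpowers x) (hzo : orderOf z = p) : z ∈ L := by
  haveI : IsCyclic (zpowers x) := inferInstance
  have key : L.subgroupOf (zpowers x) = (zpowers z).subgroupOf (zpowers x) := by
    refine eq_of_card_eq_of_isCyclic ?_
    rw [Nat.card_congr (subgroupOfEquivOfLe hLx).toEquiv,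
      Nat.card_congr (subgroupOfEquivOfLe (zpowers_le.2 hz)).toEquiv, hL, Nat.card_zpowers, hzo]
  have h : (⟨z, hz⟩ : zpowers x) ∈ (zpowers z).subgroupOf (zpowers x) :=
    mem_subgroupOf.2 (mem_zpowers z)
  rw [← key] at h
  exact mem_subgroupOf.1 h

/-- A `p'`-element acting on an abelian group as a `p`-element does nothing. -/
theorem commute_of_same_action {R : Subgroup G} {a w : G} (hcop : (orderOf a).Coprime (orderOf w))
    (hw : w ∈ normalizer (R : Set G)) (h : ∀ x ∈ R, a * x * a⁻¹ = w * x * w⁻¹) :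
    ∀ x ∈ R, Commute a x := by
  have hn : ∀ n : ℕ, ∀ x ∈ R, a ^ n * x * (a ^ n)⁻¹ = w ^ n * x * (w ^ n)⁻¹ := by
    intro n
    induction n with
    | zero => intro x _; simp
    | succ n ih =>
      intro x hx
      rw [pow_succ, pow_succ]
      calc a ^ n * a * x * (a ^ n * a)⁻¹ = a ^ n * (a * x * a⁻¹) * (a ^ n)⁻¹ := by group
        _ = a ^ n * (w * x * w⁻¹) * (a ^ n)⁻¹ := by rw [h x hx]
        _ = w ^ n * (w * x * w⁻¹) * (w ^ n)⁻¹ := ih _ ((mem_normalizer_iff.1 hw x).1 hx)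
        _ = w ^ n * w * x * (w ^ n * w)⁻¹ := by group
  intro x hx
  have h1 : a ^ orderOf w ∈ centralizer ({x} : Set G) := by
    have h2 := hn (orderOf w) x hx
    rw [pow_orderOf_eq_one, inv_one, mul_one, one_mul] at h2
    rw [mem_centralizer_singleton_iff]
    exact mul_inv_eq_iff_eq_mul.1 h2
  exact (mem_centralizer_singleton_iff.1 (mem_of_pow_mem_of_coprime hcop h1) :)

/-! ### The primes of a complement -/

variable (hG : Cfsg.IsMinSimpleOddOrder G) (F : BG10Facts G)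
include hG F

theorem tau13_or_tau2 (hM : IsCoatom M) (hE : Cfsg.IsComplIn E (Cfsg.sigmaCore M) M)
    (hr : r.Prime) (hd : r ∣ Nat.card E) :
    (r ∈ Cfsg.tau1 M ∪ Cfsg.tau3 M ∧ Cfsg.PRankLE r 1 M) ∨ r ∈ Cfsg.tau2 M := by
  haveI := Fact.mk hr
  have hs := not_sigma_of_dvd_compl F hM hE hr hd
  by_cases h1 : Cfsg.PRankLE r 1 M
  · by_cases h3 : r ∣ Nat.card ↥⁅M, M⁆
    · exact Or.inl ⟨Or.inr ⟨hr, hs, h3, h1⟩, h1⟩
    · exact Or.inl ⟨Or.inl ⟨hr, hs, hd.trans (card_dvd_of_le hE.1), h3, h1⟩, h1⟩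
  · exact Or.inr ⟨hr, hs, pRankLE_two_of_not_sigma F hM hs, h1⟩

theorem tau2_dvd_compl (hE : Cfsg.IsComplIn E (Cfsg.sigmaCore M) M) [Fact p.Prime]
    (hp : p ∈ Cfsg.tau2 M) : p ∣ Nat.card E := by
  obtain ⟨B, hBM, hB, hBc⟩ := exists_plane_of_tau2 hp
  exact dvd_compl_of_not_sigma F hE Fact.out hp.2.1 (dvd_card_of_le_sq hBc hBM)

/-- An element with fixed points in `M_σ` is a `τ₂`-element. -/
theorem tau2_of_fixed (hM : IsCoatom M) (hE : Cfsg.IsComplIn E (Cfsg.sigmaCore M) M)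
    (hh : ∀ e ∈ E, e ≠ 1 →
      (∀ q : ℕ, q.Prime → q ∣ orderOf e → q ∈ Cfsg.tau1 M ∪ Cfsg.tau3 M) →
      Cfsg.sigmaCore M ⊓ centralizer ({e} : Set G) = ⊥)
    {e : G} (he : e ∈ E) (hfix : Cfsg.sigmaCore M ⊓ centralizer ({e} : Set G) ≠ ⊥) :
    ∀ q : ℕ, q.Prime → q ∣ orderOf e → q ∈ Cfsg.tau2 M := by
  intro q hq hd
  rcases tau13_or_tau2 hG F hM hE hq (hd.trans (Subgroup.orderOf_dvd_natCard E he)) with h1 | h1
  swap
  · exact h1
  exfalso
  set e' := e ^ (orderOf e / q) with he'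
  have ho : orderOf e' = q := orderOf_pow_orderOf_div (orderOf_pos _).ne' hd
  refine hfix (le_bot_iff.1 ?_)
  rw [← hh e' (pow_mem he _) (fun h2 => hq.ne_one (by rw [← ho, h2, orderOf_one]))
    (fun r hr hrd => by rw [ho] at hrd; exact ((Nat.prime_dvd_prime_iff_eq hr hq).1 hrd) ▸ h1.1)]
  refine inf_le_inf_left _ ?_
  rw [← centralizer_zpowers e, ← centralizer_zpowers e']
  exact centralizer_le (zpowers_le.2 (npow_mem_zpowers e _))

theorem free_of_tau13 (hM : IsCoatom M) (hE : Cfsg.IsComplIn E (Cfsg.sigmaCore M) M)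
    (hh : ∀ e ∈ E, e ≠ 1 →
      (∀ q : ℕ, q.Prime → q ∣ orderOf e → q ∈ Cfsg.tau1 M ∪ Cfsg.tau3 M) →
      Cfsg.sigmaCore M ⊓ centralizer ({e} : Set G) = ⊥)
    {q : ℕ} (hq : q.Prime) (h2 : q ∉ Cfsg.tau2 M) {e : G} (he : e ∈ E) (ho : orderOf e = q) :
    Cfsg.sigmaCore M ⊓ centralizer ({e} : Set G) = ⊥ := by
  by_contra hne
  exact h2 (tau2_of_fixed hG F hM hE hh he hne q hq (ho ▸ dvd_refl _))

/-! ### A free cyclic subgroup of full order -/

/-- A cyclic `p`-subgroup of full exponent, normalized by `K`, whose line acts freely. -/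
theorem exists_free_cyclic [Fact p.Prime] {K : Subgroup G} (h : Exceptional p M A A₀)
    (hE : Cfsg.IsComplIn E (Cfsg.sigmaCore M) M) (hAP : A ≤ P) (hP : IsSylowIn p P E)
    (hKp : ¬ p ∣ Nat.card K) (hKP : K ≤ normalizer (P : Set G))
    (hline : ∀ (m : ℕ) (V : Subgroup G), V ≤ A → Nat.card V = p →
      (∀ v, v ∈ V ↔ ∃ t ∈ P, t ^ p ^ (m + 1) = v) →
      Cfsg.sigmaCore M ⊓ centralizer (V : Set G) = ⊥)
    (hinv : ∃ L : Subgroup G, L ≤ A ∧ Nat.card L = p ∧ K ≤ normalizer (L : Set G) ∧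
      Cfsg.sigmaCore M ⊓ centralizer (L : Set G) = ⊥) :
    ∃ y ∈ P, (∀ x ∈ P, orderOf x ∣ orderOf y) ∧
      K ≤ normalizer ((zpowers y : Subgroup G) : Set G) ∧
      ∀ z ∈ zpowers y, orderOf z = p → Cfsg.sigmaCore M ⊓ centralizer ({z} : Set G) = ⊥ := by
  have hp' : p.Prime := Fact.out
  have hPM := isSylowIn_of_compl F hE h.not_sigma hP
  haveI hPc := h.isMulCommutative_sylow hG F hPM hAP
  obtain ⟨x₀, hx₀⟩ := Finite.exists_max (fun x : P => orderOf (x : G))
  obtain ⟨k, hk⟩ : ∃ k, orderOf (x₀ : G) = p ^ k := by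
    obtain ⟨k, hk⟩ := IsPGroup.iff_orderOf.1 hP.isPGroup x₀
    exact ⟨k, by rw [← hk, Subgroup.orderOf_coe]⟩
  have hdvd : ∀ x ∈ P, orderOf x ∣ p ^ k := by
    intro x hx
    obtain ⟨i, hi⟩ := IsPGroup.iff_orderOf.1 hP.isPGroup ⟨x, hx⟩
    rw [← Subgroup.orderOf_coe] at hi
    simp only at hi
    have h1 : orderOf x ≤ orderOf (x₀ : G) := hx₀ ⟨x, hx⟩
    rw [hi, hk, Nat.pow_le_pow_iff_right hp'.one_lt] at h1
    exact hi ▸ pow_dvd_pow p h1
  obtain ⟨a, ha, ha1⟩ : ∃ a ∈ A, a ≠ 1 :=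
    (bot_or_exists_ne_one A).resolve_left (ne_bot_of_card_sq h.card)
  obtain ⟨m, rfl⟩ : ∃ m, k = m + 1 := by
    refine Nat.exists_eq_succ_of_ne_zero ?_
    rintro rfl
    exact ha1 (orderOf_eq_one_iff.1 (Nat.dvd_one.1 (pow_zero p ▸ hdvd a (hAP ha))))
  have hexp : ∀ x ∈ P, x ^ p ^ (m + 1) = 1 := fun x hx =>
    orderOf_dvd_iff_pow_eq_one.1 (hdvd x hx)
  let V : Subgroup G :=
    { carrier := {v | ∃ t ∈ P, t ^ p ^ m = v}
      one_mem' := ⟨1, one_mem _, one_pow _⟩
      mul_mem' := by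
        rintro _ _ ⟨s, hs, rfl⟩ ⟨t, ht, rfl⟩
        exact ⟨s * t, mul_mem hs ht,
          Commute.mul_pow (show Commute s t from setLike_mul_comm (s := P) hs ht) _⟩
      inv_mem' := by
        rintro _ ⟨s, hs, rfl⟩
        exact ⟨s⁻¹, inv_mem hs, inv_pow _ _⟩ }
  have hVA : V ≤ A := by
    rintro _ ⟨t, ht, rfl⟩
    exact (h.pow_eq_one_iff hG F hPM hAP (pow_mem ht _)).1
      (by rw [← pow_mul, ← pow_succ, hexp t ht])
  have hx1 : (x₀ : G) ^ p ^ m ≠ 1 := fun he => by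
    have h1 := orderOf_dvd_of_pow_eq_one he
    rw [hk] at h1
    exact absurd ((Nat.pow_dvd_pow_iff_le_right hp'.one_lt).1 h1) (by omega)
  obtain ⟨L, hLV, hLc, hKL, hLf⟩ : ∃ L : Subgroup G, L ≤ V ∧ Nat.card L = p ∧
      K ≤ normalizer (L : Set G) ∧ Cfsg.sigmaCore M ⊓ centralizer (L : Set G) = ⊥ := by
    rcases hVA.eq_or_lt with hV | hV
    · obtain ⟨L, hLA, hLc, hKL, hLf⟩ := hinv
      exact ⟨L, hLA.trans hV.ge, hLc, hKL, hLf⟩
    · have hVc : Nat.card V = p := card_eq_of_lt_of_ne_bot h.card hV fun hb =>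
        hx1 (mem_bot.1 (hb ▸ (⟨(x₀ : G), x₀.2, rfl⟩ : (x₀ : G) ^ p ^ m ∈ V)))
      obtain ⟨n, rfl⟩ : ∃ n, m = n + 1 := by
        refine Nat.exists_eq_succ_of_ne_zero ?_
        rintro rfl
        exact hV.2 fun b hb => ⟨b, hAP hb, by simp⟩
      refine ⟨V, le_rfl, hVc, fun g hg => ?_, hline n V hVA hVc fun v => Iff.rfl⟩
      refine ConjFunctor.mem_normalizer_of_forall_conj_mem ?_
      rintro _ ⟨t, ht, rfl⟩
      exact ⟨g * t * g⁻¹, (mem_normalizer_iff.1 (hKP hg) t).1 ht, conj_pow⟩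
  obtain ⟨l, hl, hl1⟩ := exists_mem_ne_one_of_card hLc
  obtain ⟨x, hx, hxl⟩ := hLV hl
  obtain ⟨y, hy, hyo, hKy, hyL, hy1⟩ :=
    exists_invariant_cyclic_lift hPc hKp hKP hLc hKL hexp hx (hxl ▸ hl) (hxl ▸ hl1)
  refine ⟨y, hy, fun x hx => hyo ▸ hdvd x hx, hKy, fun z hz hzo => ?_⟩
  have hLy : L ≤ zpowers y := by
    rw [← zpowers_eq_of_card hLc hyL hy1]
    exact zpowers_le.2 (npow_mem_zpowers y _)
  have hzL := mem_line_of_mem_zpowers hLy hLc hz hzo
  rw [← centralizer_zpowers, zpowers_eq_of_card hLc hzL fun h1 => hp'.ne_one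
    (by rw [← hzo, h1, orderOf_one])]
  exact hLf

/-! ### All Sylow subgroups abelian -/

/-- For `p ∈ τ₂(M)` a Sylow `p`-subgroup of `E` is normal if the Sylow subgroups of `G` for the
primes of `τ₂(M)` are abelian. -/
theorem sylow_tau2_normal (hM : IsCoatom M) (hE : Cfsg.IsComplIn E (Cfsg.sigmaCore M) M)
    (hall : ∀ (q : ℕ) [Fact q.Prime], q ∈ Cfsg.tau2 M → ∀ S : Subgroup G, IsSylowIn q S ⊤ →
      IsMulCommutative S)
    [Fact p.Prime] (hp : p ∈ Cfsg.tau2 M) (hP : IsSylowIn p P E) :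
    E ≤ normalizer (P : Set G) := by
  have hPM := isSylowIn_of_compl F hE hp.2.1 hP
  obtain ⟨hPab, A, A₀, hAP, h⟩ := sylow_of_tau2 hG F hM hp hPM
  have hAE : A ≤ E := hAP.trans hP.le
  obtain ⟨-, hPC, hPtop⟩ := sylow_top_of_abelian hG F h hE hAE (hall p hp) hP
  have hEsolv : Group.IsSolvable E :=
    minSimple_solvable hG fun ht => hM.1 (top_le_iff.1 (ht ▸ hE.1))
  set W := Cfsg.piCoreOf (Cfsg.primesNotDvd p) E with hW
  have hWE : W ≤ E := piCoreOf_le _ _
  have hEW : E ≤ normalizer (W : Set G) := le_normalizer_piCoreOf _ _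
  have hWπ : IsPiSubgroup (Cfsg.primesNotDvd p) W := isPiSubgroup_piCoreOf _ _
  have hWp : ¬ p ∣ Nat.card W := fun hd => (hWπ p Fact.out hd).2 dvd_rfl
  have hEA := compl_le_normalizer_plane hG F h hE hAE
  have hWA : W ≤ centralizer (A : Set G) :=
    le_centralizer_of_disjoint_normalize (hWE.trans hEA) (hAE.trans hEW)
      (Coprime.inf_eq_bot_of_coprime
        (coprime_card_of_not_dvd (isPGroup_of_isElementaryAbelian h.elem) hWp).symm)
  -- `E = W N_E(P)`
  obtain ⟨T, hTP, -, hET, hTmax, -⟩ := exists_pPrimePCore_part hEsolv hP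
  have hTP' : T = P := by
    refine le_antisymm hTP (hTmax P le_rfl ?_)
    refine subgroupOf_le_pPrimePCore_of_rank_two hEsolv (minSimple_odd_subgroup hG E)
      (h.ne_two hG F) hP ?_
    exact pRankLE_of_injective' (inclusion (hP.le.trans hE.1)) (inclusion_injective _)
      (pRankLE_two_of_not_sigma F hM hp.2.1)
  rw [hTP', ← hW] at hET
  -- `N(A)` normalizes `W`
  have hCE : centralizer (A : Set G) ≤ E := by
    rw [← inf_normalizer_plane_eq hG F h hE hAE]
    exact le_inf (h.centralizer_le_maximal hG F) (centralizer_le_normalizer _)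
  have hNC : normalizer (A : Set G) ≤ normalizer (centralizer (A : Set G) : Set G) := fun g hg =>
    ConjFunctor.mem_normalizer_of_forall_conj_mem fun c hc => conj_mem_centralizer hg hc
  have hNW : normalizer (A : Set G) ≤ normalizer (W : Set G) := by
    have h1 : W = Cfsg.piCoreOf (Cfsg.primesNotDvd p) (centralizer (A : Set G)) := by
      refine le_antisymm (le_piCoreOf hWA (hCE.trans hEW) hWπ) ?_
      exact le_piCoreOf ((piCoreOf_le _ _).trans hCE)
        ((hEA.trans hNC).trans (normalizer_le_normalizer_piCoreOf _ _))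
        (isPiSubgroup_piCoreOf _ _)
    rw [h1]
    exact hNC.trans (normalizer_le_normalizer_piCoreOf _ _)
  have hPW : P ≤ normalizer (W : Set G) := hP.le.trans hEW
  have hcop : (Nat.card P).Coprime (Nat.card W) := coprime_card_of_not_dvd hP.isPGroup hWp
  have hWP : W ≤ centralizer (P : Set G) := by
    refine BG4.le_of_sylow_le fun r hr => ?_
    haveI := Fact.mk hr
    obtain ⟨R, hPR⟩ := Coprime.exists_invariant_sylow hPW hcop
      (Or.inl (minSimple_solvable hG (minSimple_ne_top_of_isPGroup hG hP.isPGroup))) r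
    refine ⟨R, ?_⟩
    set R' := (R : Subgroup W).map W.subtype with hR'
    have hR'W : R' ≤ W := map_subtype_le _
    have hR'r : IsPGroup r R' := R.2.map _
    rw [le_centralizer_iff]
    intro a ha
    rw [mem_centralizer_iff]
    suffices hcomm : ∀ x ∈ R', Commute a x from fun x hx => (hcomm x hx).eq.symm
    by_cases hd : r ∣ Nat.card W
    swap
    · intro x hx
      have hx1 : x = 1 := by
        obtain ⟨i, hi⟩ := IsPGroup.iff_card.1 hR'r
        rcases Nat.eq_zero_or_pos i with rfl | hi0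
        · exact mem_bot.1 ((Subgroup.card_eq_one.1 (hi.trans (pow_zero r))) ▸ hx)
        · exact absurd ((hi ▸ dvd_pow_self r hi0.ne').trans (card_dvd_of_le hR'W)) hd
      subst hx1
      exact Commute.one_right a
    have hrp : r ≠ p := fun e => hWp (e ▸ hd)
    have hr2 : r ≠ 2 := minSimple_prime_ne_two_subgroup hG hd
    obtain ⟨i, hi⟩ := IsPGroup.iff_orderOf.1 hP.isPGroup ⟨a, ha⟩
    rw [← Subgroup.orderOf_coe] at hi
    simp only at hi
    have hao : (orderOf a).Coprime r :=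
      hi ▸ ((Nat.coprime_primes Fact.out hr).2 hrp.symm).pow_left i
    rcases tau13_or_tau2 hG F hM hE hr (hd.trans (card_dvd_of_le hWE)) with ⟨-, hr1⟩ | hrτ
    · -- `R` is cyclic and `P ≤ N(A)'`
      haveI := isCyclic_of_pRankLE_one ((hR'W.trans hWE).trans hE.1) hR'r hr2 hr1
      set N := normalizer (A : Set G) with hN
      set L := N ⊓ normalizer (R' : Set G) with hL
      have hWN : W ≤ N := hWA.trans (centralizer_le_normalizer _)
      have hNWL : N = W ⊔ L := by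
        refine le_antisymm (fun n hn => ?_) (sup_le hWN inf_le_left)
        have hRW : IsSylowIn r R' W := isSylowIn_map_subtype R
        have h1 := hRW.cj n
        rw [ConjFunctor.cj_eq_of_mem_normalizer (hNW hn)] at h1
        obtain ⟨c, hc, he⟩ := hRW.exists_cj_eq h1
        have hcn : c * n ∈ normalizer (R' : Set G) := by
          rw [← map_conj_eq_self_iff]
          rw [← map_conj_map_conj]
          exact he
        have h2 : c * n ∈ L := ⟨mul_mem (hWN hc) hn, hcn⟩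
        rw [show n = c⁻¹ * (c * n) by group]
        exact mul_mem (mem_sup_left (inv_mem hc)) (mem_sup_right h2)
      have hPN' : P ≤ ⁅N, N⁆ :=
        (sylow_le_derived_normalizer hG hPtop hPab).trans (commutator_mono
          (h.normalizer_sylow_le hG F hPM hAP) (h.normalizer_sylow_le hG F hPM hAP))
      have h3 : P ≤ W ⊔ ⁅L, L⁆ := hPN'.trans (BG13.commutator_le_sup_commutator hNW hNWL)
      have hL'W : ⁅L, L⁆ ≤ normalizer (W : Set G) :=
        ((commutator_le_self L).trans inf_le_left).trans hNW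
      have h4 : a ∈ ((W ⊔ ⁅L, L⁆ : Subgroup G) : Set G) := h3 ha
      rw [coe_mul_of_right_le_normalizer_left _ _ hL'W] at h4
      obtain ⟨w, hw, c, hc, hwc⟩ := h4
      simp only at hwc
      have hcC : c ∈ centralizer (R' : Set G) :=
        CfsgLib.OddOrder.commutator_le_centralizer_of_isCyclic (inf_le_right : L ≤ normalizer (R' : Set G)) hc
      have hwR : w ∈ normalizer (R' : Set G) := by
        rw [show w = a * c⁻¹ by rw [← hwc]; group]
        exact mul_mem (hPR ha) (inv_mem (centralizer_le_normalizer _ hcC))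
      refine commute_of_same_action ?_ hwR fun x hx => ?_
      · exact Nat.Coprime.coprime_dvd_left (Subgroup.orderOf_dvd_natCard P ha)
          (hcop.coprime_dvd_right (Subgroup.orderOf_dvd_natCard W hw))
      · rw [← hwc, show w * c * x * (w * c)⁻¹ = w * (c * x * c⁻¹) * w⁻¹ by group,
          ← mem_centralizer_iff.1 hcC x hx, mul_inv_cancel_right]
    · -- `P` centralizes a plane `B` for `r`
      obtain ⟨T', hR'T, hT'⟩ := exists_isSylowIn_ge (hR'W.trans hWE) hR'r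
      obtain ⟨-, B, B₀, hBT, hB⟩ := sylow_of_tau2 hG F hM hrτ
        (isSylowIn_of_compl F hE hrτ.2.1 hT')
      have hBE : B ≤ E := hBT.trans hT'.le
      have hPB := sylow_le_centralizer_plane hG F hB hE hBE hrp.symm hp hP
      exact Stab.commute_of_fix_prime_order hr2 hR'r hao (hPR ha) fun x hx hxr =>
        (mem_centralizer_iff.1 (hPB ha) x
          (mem_plane_of_pow_eq_one hG F hB hE hBE (hWE (hR'W hx)) hxr)).symm
  exact hET.trans (sup_le (hWP.trans (centralizer_le_normalizer _)) inf_le_right)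

/-- The `τ₂(M)`-elements of `E` lie in `O_{τ₂(M)}(E)`. -/
theorem mem_piCoreOf_tau2 (hM : IsCoatom M) (hE : Cfsg.IsComplIn E (Cfsg.sigmaCore M) M)
    (hall : ∀ (q : ℕ) [Fact q.Prime], q ∈ Cfsg.tau2 M → ∀ S : Subgroup G, IsSylowIn q S ⊤ →
      IsMulCommutative S)
    {e : G} (he : e ∈ E) (hτ : ∀ q : ℕ, q.Prime → q ∣ orderOf e → q ∈ Cfsg.tau2 M) :
    e ∈ Cfsg.piCoreOf (Cfsg.tau2 M) E := by
  suffices h : zpowers e ≤ Cfsg.piCoreOf (Cfsg.tau2 M) E from h (mem_zpowers e)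
  refine BG4.le_of_sylow_le fun q hq => ⟨default, ?_⟩
  haveI := Fact.mk hq
  set Q := ((default : Sylow q (zpowers e)) : Subgroup (zpowers e)).map (zpowers e).subtype with hQ
  have hQe : Q ≤ zpowers e := map_subtype_le _
  have hQq : IsPGroup q Q := (default : Sylow q (zpowers e)).2.map _
  by_cases hQb : Q = ⊥
  · rw [hQb]; exact bot_le
  obtain ⟨i, hi⟩ := IsPGroup.iff_card.1 hQq
  have hi0 : i ≠ 0 := fun h => hQb (Subgroup.card_eq_one.1 (by rw [hi, h, pow_zero]))
  have hq2 : q ∈ Cfsg.tau2 M := hτ q hq (by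
    rw [← Nat.card_zpowers]
    exact (hi ▸ dvd_pow_self q hi0).trans (card_dvd_of_le hQe))
  have hQE : Q ≤ E := hQe.trans (zpowers_le.2 he)
  obtain ⟨T, hQT, hT⟩ := exists_isSylowIn_ge hQE hQq
  exact hQT.trans (le_piCoreOf hT.le (sylow_tau2_normal hG F hM hE hall hq2 hT)
    (isPiSubgroup_of_isPGroup hT.isPGroup hq2))

theorem isMulCommutative_piCoreOf_tau2 (hM : IsCoatom M)
    (hE : Cfsg.IsComplIn E (Cfsg.sigmaCore M) M)
    (hall : ∀ (q : ℕ) [Fact q.Prime], q ∈ Cfsg.tau2 M → ∀ S : Subgroup G, IsSylowIn q S ⊤ →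
      IsMulCommutative S) :
    IsMulCommutative (Cfsg.piCoreOf (Cfsg.tau2 M) E) := by
  set O := Cfsg.piCoreOf (Cfsg.tau2 M) E with hO
  rw [← le_centralizer_iff_isMulCommutative]
  -- the Sylow subgroups of `O` lie in commuting normal subgroups
  have hsyl : ∀ q : ℕ, q.Prime → ∃ T : Subgroup G, IsPGroup q T ∧ T ≤ E ∧
      E ≤ normalizer (T : Set G) ∧ IsMulCommutative T ∧
      ((default : Sylow q O) : Subgroup O).map O.subtype ≤ T := by
    intro q hq
    haveI := Fact.mk hq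
    set Q := ((default : Sylow q O) : Subgroup O).map O.subtype with hQ
    have hQO : Q ≤ O := map_subtype_le _
    have hQq : IsPGroup q Q := (default : Sylow q O).2.map _
    by_cases hQb : Q = ⊥
    · refine ⟨⊥, IsPGroup.of_bot, bot_le, fun x _ => ?_, inferInstance, hQb.le⟩
      refine ConjFunctor.mem_normalizer_of_forall_conj_mem fun t ht => ?_
      rw [mem_bot] at ht ⊢
      rw [ht]
      group
    obtain ⟨i, hi⟩ := IsPGroup.iff_card.1 hQq
    have hi0 : i ≠ 0 := fun h => hQb (Subgroup.card_eq_one.1 (by rw [hi, h, pow_zero]))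
    have hq2 : q ∈ Cfsg.tau2 M := isPiSubgroup_piCoreOf _ E q hq
      ((hi ▸ dvd_pow_self q hi0).trans (card_dvd_of_le hQO))
    obtain ⟨T, hQT, hT⟩ := exists_isSylowIn_ge (hQO.trans (piCoreOf_le _ _)) hQq
    exact ⟨T, hT.isPGroup, hT.le, sylow_tau2_normal hG F hM hE hall hq2 hT,
      (sylow_of_tau2 hG F hM hq2 (isSylowIn_of_compl F hE hq2.2.1 hT)).1, hQT⟩
  choose T hTp hTE hTn hTab hQT using hsyl
  refine le_centralizer_of_forall_sylow fun q _ => ⟨default, ?_⟩
  refine le_trans ?_ (centralizer_le (hQT q Fact.out))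
  refine BG4.le_of_sylow_le fun r hr => ⟨default, (hQT r hr).trans ?_⟩
  by_cases hrq : r = q
  · subst hrq
    haveI := hTab r hr
    exact le_centralizer_self inferInstance
  · haveI := Fact.mk hr
    refine le_centralizer_of_disjoint_normalize ((hTE r hr).trans (hTn q Fact.out))
      ((hTE q Fact.out).trans (hTn r hr)) (Coprime.inf_eq_bot_of_coprime ?_)
    obtain ⟨i, hi⟩ := IsPGroup.iff_card.1 (hTp r hr)
    obtain ⟨j, hj⟩ := IsPGroup.iff_card.1 (hTp q Fact.out)
    rw [hi, hj]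
    exact ((Nat.coprime_primes hr Fact.out).2 hrq).pow i j

/-- BG 12.9 when all Sylow subgroups of `G` for primes in `τ₂(M)` are abelian. -/
theorem frobenius_type_abelian (hM : IsCoatom M) (hE : Cfsg.IsComplIn E (Cfsg.sigmaCore M) M)
    (hh : ∀ e ∈ E, e ≠ 1 →
      (∀ q : ℕ, q.Prime → q ∣ orderOf e → q ∈ Cfsg.tau1 M ∪ Cfsg.tau3 M) →
      Cfsg.sigmaCore M ⊓ centralizer ({e} : Set G) = ⊥)
    (hall : ∀ (q : ℕ) [Fact q.Prime], q ∈ Cfsg.tau2 M → ∀ S : Subgroup G, IsSylowIn q S ⊤ →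
      IsMulCommutative S) :
    (∃ N : Subgroup G, N ≤ E ∧ E ≤ normalizer (N : Set G) ∧ IsMulCommutative N ∧
        ∀ x ∈ Cfsg.sigmaCore M, x ≠ 1 → E ⊓ centralizer ({x} : Set G) ≤ N) ∧
      ∃ E₀ : Subgroup G, E₀ ≤ E ∧ Monoid.exponent E₀ = Monoid.exponent E ∧
        ∀ e ∈ E₀, e ≠ 1 → Cfsg.sigmaCore M ⊓ centralizer ({e} : Set G) = ⊥ := by
  set O := Cfsg.piCoreOf (Cfsg.tau2 M) E with hO
  haveI hOab := isMulCommutative_piCoreOf_tau2 hG F hM hE hall
  have hmem : ∀ e ∈ E, Cfsg.sigmaCore M ⊓ centralizer ({e} : Set G) ≠ ⊥ → e ∈ O := fun e he hf =>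
    mem_piCoreOf_tau2 hG F hM hE hall he (tau2_of_fixed hG F hM hE hh he hf)
  refine ⟨⟨O, piCoreOf_le _ _, le_normalizer_piCoreOf _ _, hOab, ?_⟩, ?_⟩
  · intro x hx hx1 e he
    obtain ⟨he, hec⟩ := mem_inf.1 he
    refine hmem e he fun hb => hx1 (mem_bot.1 (hb ▸ mem_inf.2 ⟨hx, ?_⟩))
    exact mem_centralizer_singleton_iff.2 (mem_centralizer_singleton_iff.1 hec).symm
  have hEsolv : Group.IsSolvable E :=
    minSimple_solvable hG fun ht => hM.1 (top_le_iff.1 (ht ▸ hE.1))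
  obtain ⟨K, hK⟩ := exists_isPiHallOf {q | q.Prime ∧ q ∉ Cfsg.tau2 M} hEsolv
  have hKE : K ≤ E := hK.1
  have hK2 : ∀ q : ℕ, q.Prime → q ∣ Nat.card K → q ∉ Cfsg.tau2 M := fun q hq hd =>
    (hK.2.1 q hq hd).2
  -- the cyclic subgroups
  have hex : ∀ q ∈ Cfsg.tau2 M, ∃ y ∈ O, (∀ x ∈ E, IsPGroup q (zpowers x) →
      orderOf x ∣ orderOf y) ∧ K ≤ normalizer ((zpowers y : Subgroup G) : Set G) ∧
      IsPGroup q (zpowers y) ∧
      ∀ z ∈ zpowers y, orderOf z = q → Cfsg.sigmaCore M ⊓ centralizer ({z} : Set G) = ⊥ := by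
    intro q hq
    haveI := Fact.mk hq.1
    obtain ⟨P, hP⟩ := exists_isSylowIn (p := q) E
    have hPM := isSylowIn_of_compl F hE hq.2.1 hP
    obtain ⟨-, A, A₀, hAP, h⟩ := sylow_of_tau2 hG F hM hq hPM
    have hAE : A ≤ E := hAP.trans hP.le
    have hEP := sylow_tau2_normal hG F hM hE hall hq hP
    obtain ⟨y, hy, hmax, hKy, hfree⟩ := exists_free_cyclic hG F h hE hAP hP
      (fun hd => hK2 q hq.1 hd hq) (hKE.trans hEP)
      (fun m V hVA hVc hV => by
        obtain ⟨g, hg, hgM⟩ := not_normalizer_le (h.dvd_card hG F) h.not_sigma hPM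
        refine fixed_eq_bot_of_moved hG F h hVA hVc hgM
          (ConjFunctor.mem_normalizer_of_forall_conj_mem fun v hv => ?_)
        obtain ⟨t, ht, rfl⟩ := (hV v).1 hv
        exact (hV _).2 ⟨g * t * g⁻¹, (mem_normalizer_iff.1 hg t).1 ht, conj_pow⟩)
      (exists_invariant_free_line hG F h hE hAE (hall q hq) hKE fun r hr hd =>
        ⟨fun e => hK2 r hr hd (e ▸ hq),
          ((tau13_or_tau2 hG F hM hE hr (hd.trans (card_dvd_of_le hKE))).resolve_right
            (hK2 r hr hd)).2,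
          fun e he ho => free_of_tau13 hG F hM hE hh hr (hK2 r hr hd) he ho⟩)
    have hyP : IsPGroup q (zpowers y) := hP.isPGroup.to_le (zpowers_le.2 hy)
    refine ⟨y, le_piCoreOf hP.le hEP (isPiSubgroup_of_isPGroup hP.isPGroup hq) hy,
      fun x hx hxq => hmax x ?_, hKy, hyP, hfree⟩
    exact le_of_normal_sylowIn hP hEP (zpowers_le.2 hx) hxq (mem_zpowers x)
  choose y hyO hymax hKy hyp hyfree using hex
  set C := ⨆ (q : ℕ) (hq : q ∈ Cfsg.tau2 M), zpowers (y q hq) with hC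
  have hCO : C ≤ O := iSup_le fun q => iSup_le fun hq => zpowers_le.2 (hyO q hq)
  have hKC : K ≤ normalizer (C : Set G) := fun k hk => by
    rw [← map_conj_eq_self_iff, hC, Subgroup.map_iSup]
    refine iSup_congr fun q => ?_
    rw [Subgroup.map_iSup]
    exact iSup_congr fun hq => map_conj_eq_self_iff.2 (hKy q hq hk)
  have hCE₀ : ∀ q (hq : q ∈ Cfsg.tau2 M), y q hq ∈ C := fun q hq =>
    le_iSup₂ (f := fun q hq => zpowers (y q hq)) q hq (mem_zpowers _)
  refine ⟨C ⊔ K, sup_le (hCO.trans (piCoreOf_le _ _)) hKE, ?_, ?_⟩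
  · refine exponent_eq_of_prime_powers (sup_le (hCO.trans (piCoreOf_le _ _)) hKE) fun q _ x hx hxq => ?_
    by_cases hq : q ∈ Cfsg.tau2 M
    · exact ⟨y q hq, mem_sup_left (hCE₀ q hq), hymax q hq x hx hxq⟩
    obtain ⟨m, hm, hle⟩ := exists_conj_le_isPiHallOf hEsolv (zpowers_le.2 hx)
      (isPiSubgroup_of_isPGroup (π := {q | q.Prime ∧ q ∉ Cfsg.tau2 M}) hxq ⟨Fact.out, hq⟩) hK
    refine ⟨_, mem_sup_right (hle (mem_map_of_mem _ (mem_zpowers x))), ?_⟩
    rw [orderOf_injective _ (MulAut.conj m).injective]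
  intro e he he1
  by_contra hne
  have heE : e ∈ E := sup_le (hCO.trans (piCoreOf_le _ _)) hKE he
  have hτ := tau2_of_fixed hG F hM hE hh heE hne
  obtain ⟨q, hq, hqd⟩ := Nat.exists_prime_and_dvd (mt orderOf_eq_one_iff.1 he1)
  haveI := Fact.mk hq
  have hq2 := hτ q hq hqd
  set z := e ^ (orderOf e / q) with hz
  have hzo : orderOf z = q := orderOf_pow_orderOf_div (orderOf_pos _).ne' hqd
  have hzf : Cfsg.sigmaCore M ⊓ centralizer ({z} : Set G) ≠ ⊥ := by
    refine fun hb => hne (le_bot_iff.1 (hb ▸ inf_le_inf_left _ ?_))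
    rw [← centralizer_zpowers e, ← centralizer_zpowers z]
    exact centralizer_le (zpowers_le.2 (npow_mem_zpowers e _))
  refine hzf (hyfree q hq2 z ?_ hzo)
  -- `z` lies in `C`
  have hzO : z ∈ O := hmem z (pow_mem heE _) hzf
  have hzC : z ∈ C := by
    have hz' : z ∈ ((C ⊔ K : Subgroup G) : Set G) := pow_mem he _
    rw [coe_mul_of_right_le_normalizer_left _ _ hKC] at hz'
    obtain ⟨c, hc, k, hk, hck⟩ := hz'
    simp only at hck
    have hk1 : k ∈ O ⊓ K := by
      refine mem_inf.2 ⟨?_, hk⟩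
      rw [show k = c⁻¹ * z by rw [← hck]; group]
      exact mul_mem (inv_mem (hCO hc)) hzO
    rw [inf_eq_bot_of_isPiSubgroup (isPiSubgroup_piCoreOf _ _) hK.2.1
      (Set.disjoint_left.2 fun r h1 h2 => h2.2 h1), mem_bot] at hk1
    rw [hk1, mul_one] at hck
    exact hck ▸ hc
  -- its `q`-part
  set N := Nat.card O / q ^ (Nat.card O).factorization q with hN
  have hqN : q.Coprime N := Nat.coprime_ordCompl hq Nat.card_pos.ne'
  let H : Subgroup G :=
    { carrier := {x | x ∈ O ∧ x ^ N ∈ zpowers (y q hq2)}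
      one_mem' := ⟨one_mem _, by rw [one_pow]; exact one_mem _⟩
      mul_mem' := fun {a b} ha hb => ⟨mul_mem ha.1 hb.1, by
        rw [Commute.mul_pow (show Commute a b from setLike_mul_comm (s := O) ha.1 hb.1)]
        exact mul_mem ha.2 hb.2⟩
      inv_mem' := fun {a} ha => ⟨O.inv_mem ha.1, by rw [inv_pow]; exact Subgroup.inv_mem _ ha.2⟩ }
  have hCH : C ≤ H := iSup_le fun r => iSup_le fun hr => zpowers_le.2 ⟨hyO r hr, by
    by_cases hrq : r = q
    · subst hrq
      exact pow_mem (mem_zpowers _) _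
    · haveI := Fact.mk hr.1
      obtain ⟨i, hi⟩ := IsPGroup.iff_card.1 (hyp r hr)
      rw [Nat.card_zpowers] at hi
      have h1 : orderOf (y r hr) ∣ N * q ^ (Nat.card O).factorization q := by
        rw [hN, mul_comm, Nat.ordProj_mul_ordCompl_eq_self]
        exact Subgroup.orderOf_dvd_natCard O (hyO r hr)
      have h2 : orderOf (y r hr) ∣ N := Nat.Coprime.dvd_of_dvd_mul_right
        (hi ▸ ((Nat.coprime_primes hr.1 hq).2 hrq).pow _ _) h1
      rw [orderOf_dvd_iff_pow_eq_one.1 h2]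
      exact one_mem _⟩
  exact mem_of_pow_mem_of_coprime (hzo ▸ hqN) (hCH hzC).2

/-! ### A nonabelian Sylow subgroup -/

theorem NonabSylow.of_complement [Fact p.Prime] (h : Exceptional p M A A₀)
    (hE : Cfsg.IsComplIn E (Cfsg.sigmaCore M) M) (hAP : A ≤ P) (hP : IsSylowIn p P E)
    {S : Subgroup G} (hS : IsSylowIn p S ⊤) (hna : ¬ IsMulCommutative S) :
    ∃ T, NonabSylow p M A A₀ P T := by
  obtain ⟨T, hPT, hT⟩ := exists_isSylowIn_ge (_root_.le_top : P ≤ ⊤) hP.isPGroup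
  refine ⟨T, h, hAP, isSylowIn_of_compl F hE h.not_sigma hP, hPT, hT, fun hab => hna ?_⟩
  obtain ⟨g, -, hg⟩ := hT.exists_cj_eq hS
  haveI := hab
  refine ⟨⟨fun a b => Subtype.ext ((MulAut.conj g).injective ?_)⟩⟩
  show MulAut.conj g ((a : G) * b) = MulAut.conj g ((b : G) * a)
  rw [map_mul, map_mul]
  exact setLike_mul_comm (s := T) (hg ▸ mem_map_of_mem _ a.2) (hg ▸ mem_map_of_mem _ b.2)

/-- BG 12.9 when a Sylow subgroup of `G` for a prime in `τ₂(M)` is nonabelian. -/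
theorem frobenius_type_nonabelian [Fact p.Prime] (hM : IsCoatom M)
    (hE : Cfsg.IsComplIn E (Cfsg.sigmaCore M) M)
    (hh : ∀ e ∈ E, e ≠ 1 →
      (∀ q : ℕ, q.Prime → q ∣ orderOf e → q ∈ Cfsg.tau1 M ∪ Cfsg.tau3 M) →
      Cfsg.sigmaCore M ⊓ centralizer ({e} : Set G) = ⊥)
    (hp : p ∈ Cfsg.tau2 M) {S : Subgroup G} (hS : IsSylowIn p S ⊤) (hna : ¬ IsMulCommutative S) :
    (∃ N : Subgroup G, N ≤ E ∧ E ≤ normalizer (N : Set G) ∧ IsMulCommutative N ∧
        ∀ x ∈ Cfsg.sigmaCore M, x ≠ 1 → E ⊓ centralizer ({x} : Set G) ≤ N) ∧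
      ∃ E₀ : Subgroup G, E₀ ≤ E ∧ Monoid.exponent E₀ = Monoid.exponent E ∧
        ∀ e ∈ E₀, e ≠ 1 → Cfsg.sigmaCore M ⊓ centralizer ({e} : Set G) = ⊥ := by
  have hp' : p.Prime := Fact.out
  obtain ⟨P, hP⟩ := exists_isSylowIn (p := p) E
  have hPM := isSylowIn_of_compl F hE hp.2.1 hP
  obtain ⟨hPab, A, A₀, hAP, h⟩ := sylow_of_tau2 hG F hM hp hPM
  have hAE : A ≤ E := hAP.trans hP.le
  obtain ⟨Sp, hN⟩ := NonabSylow.of_complement hG F h hE hAP hP hS hna
  have hEA := compl_le_normalizer_plane hG F h hE hAE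
  have hτ2 : Cfsg.tau2 M = {p} := hN.tau2_eq hG F hE hAE
  have hEA₀ : E ≤ normalizer (A₀ : Set G) := by
    rw [← hN.inf_centralizer_eq hG F]
    intro e he
    refine ConjFunctor.mem_normalizer_of_forall_conj_mem fun x hx => mem_inf.2 ⟨?_, ?_⟩
    · exact conj_mem_of_mem_normalizer (hEA he) hx.1
    · exact conj_mem_centralizer (le_normalizer_sigmaCore M (hE.1 he)) hx.2
  -- an element with fixed points lies in `A₀`
  have hmem : ∀ e ∈ E, Cfsg.sigmaCore M ⊓ centralizer ({e} : Set G) ≠ ⊥ → e ∈ A₀ := by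
    intro e he hf
    by_cases he1 : e = 1
    · rw [he1]; exact one_mem _
    have hτ := tau2_of_fixed hG F hM hE hh he hf
    set o := orderOf e with ho
    have hpo : ∀ q : ℕ, q.Prime → q ∣ o → q = p := fun q hq hd => by
      simpa [hτ2] using hτ q hq hd
    obtain ⟨q, hq, hqd⟩ := Nat.exists_prime_and_dvd (mt orderOf_eq_one_iff.1 he1)
    obtain rfl := hpo q hq hqd
    set e₀ := e ^ (o / q) with he₀
    have he₀o : orderOf e₀ = q := orderOf_pow_orderOf_div (orderOf_pos _).ne' hqd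
    have he₀E : e₀ ∈ E := pow_mem he _
    have he₀A : e₀ ∈ A :=
      mem_plane_of_pow_eq_one hG F h hE hAE he₀E (he₀o ▸ pow_orderOf_eq_one e₀)
    have hline : zpowers e₀ = A₀ := by
      by_contra hne
      refine hf (le_bot_iff.1 ?_)
      rw [← (hN.other_line hG F (zpowers_le.2 he₀A) (by rw [Nat.card_zpowers, he₀o]) hne).1,
        ← centralizer_zpowers e]
      exact inf_le_inf_left _ (centralizer_le (zpowers_le.2 (npow_mem_zpowers e _)))
    by_cases heq : o = q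
    · rw [← hline, show e₀ = e by rw [he₀, heq, Nat.div_self hq.pos, pow_one]]
      exact mem_zpowers e
    exfalso
    have hqq : q ∣ o / q := by
      obtain ⟨t, ht⟩ := hqd
      replace ht : o = q * t := ht
      rw [ht, Nat.mul_div_cancel_left _ hq.pos]
      have ht1 : t ≠ 1 := fun h1 => heq (by rw [ht, h1, mul_one])
      obtain ⟨s, hs, hsd⟩ := Nat.exists_prime_and_dvd ht1
      exact hpo s hs (ht ▸ hsd.mul_left q) ▸ hsd
    set f := e ^ (o / q / q) with hf'
    have hfq : f ^ q = e₀ := by rw [hf', he₀, ← pow_mul, Nat.div_mul_cancel hqq]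
    have hzf : IsPGroup q (zpowers f) := IsPGroup.of_card (n := (orderOf f).primeFactorsList.length) (by
      rw [Nat.card_zpowers]
      exact Nat.eq_prime_pow_of_unique_prime_dvd (orderOf_pos _).ne'
        fun {d} hd hdd => hpo d hd (hdd.trans (orderOf_pow_dvd _)))
    obtain ⟨g, hg, hgf⟩ := hP.exists_cj_le (zpowers_le.2 (pow_mem he _)) hzf
    refine hN.not_le_frattini hG F ?_
    have hfP : g * f * g⁻¹ ∈ P := hgf ⟨f, mem_zpowers f, rfl⟩
    have h0 : g * e₀ * g⁻¹ ∈ A₀ :=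
      (mem_normalizer_iff.1 (hEA₀ hg) e₀).1 (hline ▸ mem_zpowers e₀)
    have h1 : g * e₀ * g⁻¹ ≠ 1 := fun h1 => hq.ne_one (by
      rw [← he₀o, conj_eq_one_iff.1 h1, orderOf_one])
    rw [← zpowers_eq_of_card h.line_card h0 h1, zpowers_le, ← hfq, ← conj_pow]
    exact ⟨(⟨_, hfP⟩ : P) ^ q, CfsgLib.Solvable.pow_mem_frattini hP.isPGroup _, rfl⟩
  refine ⟨⟨A₀, h.line_le.trans hAE, hEA₀, ?_, ?_⟩, ?_⟩
  · haveI := h.elem.1
    exact ⟨⟨fun a b => Subtype.ext
      (setLike_mul_comm (s := A) (h.line_le a.2) (h.line_le b.2))⟩⟩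
  · intro x hx hx1 e he
    obtain ⟨he, hec⟩ := mem_inf.1 he
    refine hmem e he fun hb => hx1 (mem_bot.1 (hb ▸ mem_inf.2 ⟨hx, ?_⟩))
    exact mem_centralizer_singleton_iff.2 (mem_centralizer_singleton_iff.1 hec).symm
  have hEsolv : Group.IsSolvable E :=
    minSimple_solvable hG fun ht => hM.1 (top_le_iff.1 (ht ▸ hE.1))
  set W := Cfsg.piCoreOf (Cfsg.primesNotDvd p) E with hW
  have hWE : W ≤ E := piCoreOf_le _ _
  have hEW : E ≤ normalizer (W : Set G) := le_normalizer_piCoreOf _ _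
  have hWπ : IsPiSubgroup (Cfsg.primesNotDvd p) W := isPiSubgroup_piCoreOf _ _
  have hWp : ¬ p ∣ Nat.card W := fun hd => (hWπ p hp' hd).2 dvd_rfl
  have hWA : W ≤ centralizer (A : Set G) :=
    le_centralizer_of_disjoint_normalize (hWE.trans hEA) (hAE.trans hEW)
      (Coprime.inf_eq_bot_of_coprime
        (coprime_card_of_not_dvd (isPGroup_of_isElementaryAbelian h.elem) hWp).symm)
  obtain ⟨T, hTP, -, hET, hTmax, -⟩ := exists_pPrimePCore_part hEsolv hP
  have hTP' : T = P := by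
    refine le_antisymm hTP (hTmax P le_rfl ?_)
    refine subgroupOf_le_pPrimePCore_of_rank_two hEsolv (minSimple_odd_subgroup hG E)
      (h.ne_two hG F) hP ?_
    exact pRankLE_of_injective' (inclusion (hP.le.trans hE.1)) (inclusion_injective _)
      (pRankLE_two_of_not_sigma F hM hp.2.1)
  rw [hTP', ← hW] at hET
  set N := E ⊓ normalizer (P : Set G) with hNdef
  have hNsolv : Group.IsSolvable N := minSimple_solvable hG fun ht =>
    hM.1 (top_le_iff.1 (ht ▸ (inf_le_left.trans hE.1 : N ≤ M)))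
  obtain ⟨K, hK⟩ := exists_isPiHallOf (Cfsg.primesNotDvd p) hNsolv
  have hKE : K ≤ E := hK.1.trans inf_le_left
  have hKP : K ≤ normalizer (P : Set G) := hK.1.trans inf_le_right
  have hKp : ¬ p ∣ Nat.card K := fun hd => (hK.2.1 p hp' hd).2 dvd_rfl
  -- the invariant line `A ∩ Z(Sp)`
  have hlt : P < Sp := lt_of_le_of_ne hN.le_top fun e => hN.not_le hG F (e ▸ hPM.le)
  obtain ⟨u, hu, huP⟩ :=
    SetLike.exists_of_lt (ConjFunctor.lt_inf_normalizer hN.sylow.isPGroup hlt)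
  have huA : u ∈ normalizer (A : Set G) := h.normalizer_sylow_le hG F hPM hAP hu.2
  have huC : u ∉ centralizer (A : Set G) := fun hc =>
    huP (hN.inf_eq hG F ▸ mem_inf.2 ⟨hu.1, hc⟩)
  have hup : IsPGroup p (zpowers u) := hN.sylow.isPGroup.to_le (zpowers_le.2 hu.1)
  have hNAne : normalizer (A : Set G) ≠ ⊤ := minSimple_normalizer_ne_top hG
    (ne_bot_of_card_sq h.card)
    (minSimple_ne_top_of_isPGroup hG (isPGroup_of_isElementaryAbelian h.elem))
  have hZeq : A ⊓ centralizer (Sp : Set G) = A ⊓ centralizer ({u} : Set G) := by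
    refine Subgroup.eq_of_le_of_card_ge (inf_le_inf_left _ ?_) ?_
    · rw [← centralizer_zpowers]; exact centralizer_le (zpowers_le.2 hu.1)
    · rw [hN.card_center hG F, card_inf_centralizer_eq h.elem h.card huA hup huC]
  have hKZ : K ≤ normalizer ((A ⊓ centralizer (Sp : Set G) : Subgroup G) : Set G) := by
    rw [hZeq]
    exact (hKE.trans hEA).trans (le_normalizer_inf_centralizer (minSimple_solvable hG hNAne)
      (minSimple_odd_subgroup hG _) h.elem h.card le_rfl huA hup huC)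
  obtain ⟨y, hy, hmax, hKy, hfree⟩ := exists_free_cyclic hG F h hE hAP hP hKp hKP
    (fun m V hVA hVc hV => (hN.other_line hG F hVA hVc fun e => hN.not_le_frattini hG F (by
      intro a ha
      obtain ⟨t, ht, rfl⟩ := (hV a).1 (e.symm ▸ ha)
      rw [pow_succ, pow_mul]
      exact ⟨(⟨t ^ p ^ m, pow_mem ht _⟩ : P) ^ p,
        CfsgLib.Solvable.pow_mem_frattini hP.isPGroup _, rfl⟩)).1)
    ⟨_, inf_le_left, hN.card_center hG F, hKZ, hN.inf_centralizer_center hG F⟩
  have hyE : zpowers y ≤ E := zpowers_le.2 (hP.le hy)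
  set V := W ⊔ zpowers y with hV
  have hVE : V ≤ E := sup_le hWE hyE
  have hKV : K ≤ normalizer (V : Set G) := fun k hk => by
    rw [← map_conj_eq_self_iff, hV, Subgroup.map_sup, map_conj_eq_self_iff.2 (hEW (hKE hk)),
      map_conj_eq_self_iff.2 (hKy hk)]
  refine ⟨V ⊔ K, sup_le hVE hKE, ?_, ?_⟩
  · refine exponent_eq_of_prime_powers (sup_le hVE hKE) fun q _ x hx hxq => ?_
    by_cases hqp : q = p
    · subst hqp
      obtain ⟨g, hg, hle⟩ := hP.exists_cj_le (zpowers_le.2 hx) hxq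
      refine ⟨y, mem_sup_left (mem_sup_right (mem_zpowers y)), ?_⟩
      have := hmax _ (hle (mem_map_of_mem _ (mem_zpowers x)))
      rwa [orderOf_injective _ (MulAut.conj g).injective] at this
    -- `W K` has index a power of `p` in `E`
    haveI : (W.subgroupOf E).Normal := (normal_subgroupOf_iff_le_normalizer hWE).2 hEW
    set φ := (QuotientGroup.mk' (W.subgroupOf E)).comp (inclusion (inf_le_left : N ≤ E)) with hφ
    have hEWN : W.subgroupOf E ⊔ N.subgroupOf E = ⊤ := by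
      rw [← subgroupOf_sup hWE inf_le_left, subgroupOf_eq_top]
      exact hET
    have hφs : Function.Surjective φ := by
      intro t
      obtain ⟨e, rfl⟩ := QuotientGroup.mk'_surjective (W.subgroupOf E) t
      have he : e ∈ ((W.subgroupOf E ⊔ N.subgroupOf E : Subgroup E) : Set E) := by
        rw [hEWN]; exact mem_top _
      rw [Subgroup.normal_mul] at he
      obtain ⟨w, hw, n, hn, rfl⟩ := he
      refine ⟨⟨n, mem_subgroupOf.1 hn⟩, ?_⟩
      simp only [hφ, MonoidHom.coe_comp, Function.comp_apply, map_mul]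
      rw [show QuotientGroup.mk' (W.subgroupOf E) w = 1 from
        (QuotientGroup.eq_one_iff w).2 hw, one_mul]
      rfl
    have hidx : (W ⊔ K).relIndex E ∣ K.relIndex N := by
      have h1 : ((K.subgroupOf N).map φ) =
          ((W ⊔ K).subgroupOf E).map (QuotientGroup.mk' (W.subgroupOf E)) := by
        rw [subgroupOf_sup hWE hKE, Subgroup.map_sup,
          (Subgroup.map_eq_bot_iff _).2 (QuotientGroup.ker_mk' _).ge, bot_sup_eq, hφ,
          ← Subgroup.map_map]
        congr 1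
        ext t
        constructor
        · rintro ⟨s, hs, rfl⟩
          exact hs
        · intro ht
          exact ⟨⟨t, hK.1 ht⟩, ht, rfl⟩
      have h2 := index_map_dvd (H := K.subgroupOf N) hφs
      rw [h1, index_map_eq _ (QuotientGroup.mk'_surjective _) (by
        rw [QuotientGroup.ker_mk']; exact comap_mono le_sup_left)] at h2
      exact h2
    obtain ⟨R, hR⟩ := exists_isSylowIn (p := q) (W ⊔ K)
    have hWKE : W ⊔ K ≤ E := sup_le hWE hKE
    have hRE : IsSylowIn q R E := ⟨hR.le.trans hWKE, hR.isPGroup, fun hd => by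
      rw [← relIndex_mul_relIndex R _ E hR.le hWKE] at hd
      rcases (Fact.out : q.Prime).dvd_mul.1 hd with hd | hd
      · exact hR.not_dvd hd
      · exact hK.2.2 q Fact.out ⟨Fact.out, fun hqd =>
          hqp ((Nat.prime_dvd_prime_iff_eq Fact.out hp').1 hqd)⟩ (hd.trans hidx)⟩
    obtain ⟨g, hg, hle⟩ := hRE.exists_cj_le (zpowers_le.2 hx) hxq
    refine ⟨_, (sup_le_sup_right le_sup_left K : W ⊔ K ≤ V ⊔ K)
      (hR.le (hle (mem_map_of_mem _ (mem_zpowers x)))), ?_⟩
    rw [orderOf_injective _ (MulAut.conj g).injective]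
  intro e he he1
  by_contra hne
  have heA : e ∈ A₀ := hmem e (sup_le hVE hKE he) hne
  have heo : orderOf e = p := by
    rw [← Nat.card_zpowers, zpowers_eq_of_card h.line_card heA he1, h.line_card]
  have hep : IsPGroup p (zpowers e) :=
    IsPGroup.of_card (n := 1) (by rw [Nat.card_zpowers, heo, pow_one])
  -- `e` lies in `W⟨y⟩`
  have heV : e ∈ V := by
    have hn : V ⊔ K ≤ normalizer (V : Set G) := sup_le le_normalizer hKV
    haveI : (V.subgroupOf (V ⊔ K)).Normal := (normal_subgroupOf_iff_le_normalizer le_sup_left).2 hn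
    have h1 : (⟨e, he⟩ : ↥(V ⊔ K)) ^ (V.subgroupOf (V ⊔ K)).index ∈ V.subgroupOf (V ⊔ K) :=
      pow_index_mem _ _
    refine mem_of_pow_mem_of_coprime ?_ (mem_subgroupOf.1 h1)
    rw [heo]
    refine Nat.Coprime.coprime_dvd_right ?_ (hp'.coprime_iff_not_dvd.2 hKp)
    show V.relIndex (V ⊔ K) ∣ Nat.card K
    have h3 : V.subgroupOf (V ⊔ K) ⊔ K.subgroupOf (V ⊔ K) = ⊤ := by
      rw [← subgroupOf_sup le_sup_left le_sup_right, subgroupOf_self]
    have h4 := relIndex_sup_right (K.subgroupOf (V ⊔ K)) (V.subgroupOf (V ⊔ K))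
    rw [sup_comm (K.subgroupOf (V ⊔ K)), h3, relIndex_top_right] at h4
    rw [Subgroup.relIndex, h4, ← Nat.card_congr
      (subgroupOfEquivOfLe (le_sup_right : K ≤ V ⊔ K)).toEquiv]
    exact relIndex_dvd_card _ _
  have h' : e ∈ ((W ⊔ zpowers y : Subgroup G) : Set G) := heV
  rw [coe_mul_of_right_le_normalizer_left _ _ (hyE.trans hEW)] at h'
  obtain ⟨w, hw, c, hc, hwc⟩ := h'
  simp only at hwc
  have hew : Commute e w :=
    (mem_centralizer_iff.1 (hWA hw) e (h.line_le heA) : e * w = w * e)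
  have hwc' : Commute w c := by
    show w * c = c * w
    have : c = w⁻¹ * e := by rw [← hwc]; group
    rw [this, ← mul_assoc, mul_inv_cancel, one_mul, mul_assoc, hew.eq, inv_mul_cancel_left]
  have h2 : w ^ p ∈ W ⊓ zpowers y := by
    refine mem_inf.2 ⟨pow_mem hw _, ?_⟩
    have h3 : w ^ p * c ^ p = 1 := by rw [← hwc'.mul_pow, hwc, ← heo, pow_orderOf_eq_one]
    rw [eq_inv_of_mul_eq_one_left h3]
    exact inv_mem (pow_mem hc _)
  rw [Coprime.inf_eq_bot_of_coprime (Nat.Coprime.coprime_dvd_right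
    (card_dvd_of_le (zpowers_le.2 hy)) (coprime_card_of_not_dvd hP.isPGroup hWp).symm),
    mem_bot] at h2
  have hw1 : w = 1 := orderOf_eq_one_iff.1 (Nat.eq_one_of_dvd_coprimes
    (hp'.coprime_iff_not_dvd.2 hWp) (orderOf_dvd_of_pow_eq_one h2)
    (Subgroup.orderOf_dvd_natCard W hw))
  rw [hw1, one_mul] at hwc
  exact hne (hfree e (hwc ▸ hc) heo)

/-- BG 12.9. -/
theorem frobenius_type_criterion (hM : IsCoatom M) (hE : Cfsg.IsComplIn E (Cfsg.sigmaCore M) M)
    (hh : ∀ e ∈ E, e ≠ 1 →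
      (∀ q : ℕ, q.Prime → q ∣ orderOf e → q ∈ Cfsg.tau1 M ∪ Cfsg.tau3 M) →
      Cfsg.sigmaCore M ⊓ centralizer ({e} : Set G) = ⊥) :
    (∃ N : Subgroup G, N ≤ E ∧ E ≤ normalizer (N : Set G) ∧ IsMulCommutative N ∧
        ∀ x ∈ Cfsg.sigmaCore M, x ≠ 1 → E ⊓ centralizer ({x} : Set G) ≤ N) ∧
      ∃ E₀ : Subgroup G, E₀ ≤ E ∧ Monoid.exponent E₀ = Monoid.exponent E ∧
        ∀ e ∈ E₀, e ≠ 1 → Cfsg.sigmaCore M ⊓ centralizer ({e} : Set G) = ⊥ := by
  by_cases hall : ∀ (q : ℕ) [Fact q.Prime], q ∈ Cfsg.tau2 M → ∀ S : Subgroup G, IsSylowIn q S ⊤ →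
      IsMulCommutative S
  · exact frobenius_type_abelian hG F hM hE hh hall
  push Not at hall
  obtain ⟨q, hq, hq2, S, hS, hna⟩ := hall
  exact frobenius_type_nonabelian hG F hM hE hh hq2 hS hna

end CfsgLib.OddOrder.BG12
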