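import Cfsg.Agent.OddOrder.BG12.Abelian
import Cfsg.Agent.Coprime.Generation

/-!
# BG 12.10: a nonabelian `p`-subgroup lies in one maximal subgroup
-/

set_option autoImplicit false
set_option linter.style.haveILetI false
set_option linter.unusedSectionVars false
set_option maxHeartbeats 800000

namespace CfsgLib.OddOrder.BG12

open Cfsg Subgroup CfsgLib.OddOrder.BG11
open CfsgLib.ConjFunctor (IsSylowIn exists_isSylowIn_ge)
open scoped commutatorElement

variable {G : Type*} [Group G] [Finite G] {p : ℕ} [Fact p.Prime]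

/-- Coprime generation by the action of `P / Z` for `P` of order `p ^ 3` and exponent `p`. -/
theorem le_of_forall_inf_centralizer_quotient {P Z C W : Subgroup G} (hPc : Nat.card P = p ^ 3)
    (hexp : ∀ a ∈ P, a ^ p = 1) (hZP : Z ≤ P) (hZc : Nat.card Z = p)
    (hPZ : P ≤ centralizer (Z : Set G)) (hCZ : C ≤ centralizer (Z : Set G))
    (hPC : P ≤ normalizer (C : Set G)) (hcop : ¬ p ∣ Nat.card C) (hZW : Z ≤ W)
    (hW : ∀ b ∈ P, b ∉ Z → C ⊓ centralizer ({b} : Set G) ≤ W) : C ≤ W := by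
  set L := centralizer (Z : Set G) with hL
  haveI : (Z.subgroupOf L).Normal := by
    constructor
    intro n hn g
    rw [mem_subgroupOf] at hn ⊢
    have h1 := mem_centralizer_iff.1 g.2 _ hn
    simp only [Subgroup.coe_mul, Subgroup.coe_inv]
    rw [← h1, mul_inv_cancel_right]
    exact hn
  set φ := QuotientGroup.mk' (Z.subgroupOf L) with hφ
  set A' := (P.subgroupOf L).map φ with hA'
  set C' := (C.subgroupOf L).map φ with hC'
  have hA'c : Nat.card A' = p ^ 2 := by
    rw [hA', ← relIndex_ker, QuotientGroup.ker_mk', relIndex_subgroupOf hPZ]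
    have h1 := PLocal.card_mul_relIndex hZP
    rw [hZc, hPc, show p ^ 3 = p * p ^ 2 by ring] at h1
    exact Nat.eq_of_mul_eq_mul_left (Fact.out : p.Prime).pos h1
  haveI : IsMulCommutative A' := IsPGroup.isMulCommutative_of_card_eq_prime_sq hA'c
  have hA'e : Cfsg.IsElementaryAbelian p A' := by
    refine ⟨inferInstance, ?_⟩
    rintro _ ⟨a, ha, rfl⟩
    rw [← map_pow, show a ^ p = 1 from Subtype.ext (by simpa using hexp a ha), map_one]
  have hA'n : A' ≤ normalizer (C' : Set (L ⧸ Z.subgroupOf L)) :=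
    (map_mono (subgroupOf_le_normalizer_subgroupOf hPC)).trans (le_normalizer_map φ)
  have hcop' : (Nat.card A').Coprime (Nat.card C') := by
    rw [hA'c]
    refine ((Fact.out : p.Prime).coprime_iff_not_dvd.2 fun hd => hcop ?_).pow_left 2
    exact (hd.trans (card_map_dvd (C.subgroupOf L) φ)).trans
      (dvd_of_eq (Nat.card_congr (subgroupOfEquivOfLe hCZ).toEquiv))
  have key : C' ≤ (W.subgroupOf L).map φ := by
    refine Coprime.le_of_forall_inf_centralizer_le (not_isCyclic_of_card_sq hA'e hA'c) hA'n hcop'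
      fun a ha ha1 => ?_
    obtain ⟨b, hb, rfl⟩ := ha
    rintro _ ⟨⟨c, hc, rfl⟩, hcb⟩
    have hbZ : (b : G) ∉ Z := fun hbZ => ha1 ((QuotientGroup.eq_one_iff b).2 hbZ)
    refine mem_map_of_mem φ (show c ∈ W.subgroupOf L from hW b hb hbZ ⟨hc, ?_⟩)
    show (c : G) ∈ centralizer ({(b : G)} : Set G)
    rw [mem_centralizer_singleton_iff]
    replace hcb : φ c ∈ centralizer ({φ b} : Set (L ⧸ Z.subgroupOf L)) := hcb
    rw [mem_centralizer_singleton_iff, ← map_mul, ← map_mul] at hcb
    have h1 : (b * c)⁻¹ * (c * b) ∈ Z.subgroupOf L := QuotientGroup.eq.1 hcb.symm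
    rw [mem_subgroupOf] at h1
    have h2 : ((b * c)⁻¹ * (c * b) : L).1 = (c : G)⁻¹ * ((b : G)⁻¹ * (c : G) * (b : G)) := by
      simp [mul_assoc]
    rw [h2] at h1
    have hCb : (b : G)⁻¹ * (c : G) * (b : G) ∈ C := by
      simpa using conj_mem_of_mem_normalizer (inv_mem (hPC hb)) hc
    have h3 : (c : G)⁻¹ * ((b : G)⁻¹ * (c : G) * (b : G)) ∈ C ⊓ Z :=
      mem_inf.2 ⟨mul_mem (inv_mem hc) hCb, h1⟩
    rw [inf_eq_bot_of_coprime ((coprime_card_of_not_dvd
      (IsPGroup.of_card (n := 1) (by rw [hZc, pow_one])) hcop).symm), mem_bot,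
      inv_mul_eq_one] at h3
    calc (c : G) * b = b * ((b : G)⁻¹ * c * b) := by group
      _ = b * c := by rw [← h3]
  intro c hc
  obtain ⟨w, hw, hwc⟩ := key (mem_map_of_mem φ (show (⟨c, hCZ hc⟩ : L) ∈ C.subgroupOf L from hc))
  have h1 : (w : G)⁻¹ * c ∈ Z := (QuotientGroup.eq.1 hwc :)
  have h2 := mul_mem (show (w : G) ∈ W from hw) (hZW h1)
  simpa using h2

variable (hG : Cfsg.IsMinSimpleOddOrder G) (F : BG10Facts G)
include hG F

/-- If `O_{p'}(M_σ) ≤ H` for a Sylow `S` of `G` in both, then `M ≤ H`. -/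
theorem le_of_core_le {M H S : Subgroup G} (hM : IsCoatom M) (hpM : p ∈ Cfsg.sigma M)
    (hb : p ∉ Cfsg.beta M) (hS : IsSylowIn p S ⊤) (hSM : S ≤ M) (hSH : S ≤ H)
    (hNS : normalizer (S : Set G) ≤ H)
    (hK : Cfsg.piCoreOf {s | s ≠ p} (Cfsg.sigmaCore M) ≤ H) : M ≤ H := by
  have hSs : S ≤ Cfsg.sigmaCore M := pGroup_le_sigmaCore F hM hpM hSM hS.isPGroup
  have hSsyl : IsSylowIn p S (Cfsg.sigmaCore M) := hS.of_le hSs le_top
  have hnc := (F.betaHall M hM).2 p Fact.out (dvd_card_of_sigma hpM) hb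
  have hcore : Cfsg.sigmaCore M ≤ H := by
    refine BG4.le_of_sylow_le fun r hr => ?_
    haveI := Fact.mk hr
    by_cases hrp : r = p
    · subst hrp
      let Q : Sylow r (Cfsg.sigmaCore M) := (hS.isPGroup.comap_subtype).toSylow hSsyl.not_dvd
      refine ⟨Q, ?_⟩
      change (S.subgroupOf _).map _ ≤ H
      rw [map_subgroupOf_eq_of_le hSs]
      exact hSH
    · refine ⟨default, (le_piCoreOf_of_normalPComplement hnc (map_subtype_le _)
        (ne_of_dvd_sigma ((default : Sylow r (Cfsg.sigmaCore M)).2.map _) hrp)).trans hK⟩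
  intro m hm
  have hle : S.map (MulAut.conj m).toMonoidHom ≤ Cfsg.sigmaCore M :=
    (map_mono hSs).trans (map_conj_eq_self_iff.2 (le_normalizer_sigmaCore M hm)).le
  have hS' : IsSylowIn p (S.map (MulAut.conj m).toMonoidHom) (Cfsg.sigmaCore M) := by
    have h1 := hS.cj m
    rw [Subgroup.map_top_of_surjective _ (MulAut.conj m).surjective] at h1
    exact h1.of_le hle le_top
  obtain ⟨a, ha, he⟩ := hS'.exists_cj_eq hSsyl
  have hn : a⁻¹ * m ∈ normalizer (S : Set G) := by
    rw [← map_conj_eq_self_iff, ← map_conj_map_conj, ← he, map_conj_map_conj, inv_mul_cancel,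
      map_conj_one]
  simpa using mul_mem (hcore ha) (hNS hn)

/-- BG 12.10. -/
theorem eq_of_nonabelian {M H P : Subgroup G} (hP : IsPGroup p P) (hna : ¬ IsMulCommutative P)
    (hM : IsCoatom M) (hH : IsCoatom H) (hPM : P ≤ M) (hPH : P ≤ H) : H = M := by
  by_contra hne
  have hσ : ∀ L : Subgroup G, IsCoatom L → P ≤ L → p ∈ Cfsg.sigma L := fun L hL hPL =>
    not_not.1 fun hs => hna (isMulCommutative_pGroup hG F hL hs hPL hP)
  have hpM := hσ M hM hPM
  have hpH := hσ H hH hPH
  obtain ⟨R, hPR, hR⟩ := exists_isSylowIn_ge (le_inf hPM hPH) hP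
  have hRna : ¬ IsMulCommutative R := fun h => hna
    ⟨⟨fun a b => Subtype.ext (haveI := h; setLike_mul_comm (s := R) (hPR a.2) (hPR b.2))⟩⟩
  have hRnc : ¬ IsCyclic R := fun h => hRna (haveI := h; inferInstance)
  have hNRM := normalizer_noncyclic_le hG F hM hpM hR.isPGroup (hR.le.trans inf_le_left) hRnc
  have hNRH := normalizer_noncyclic_le hG F hH hpH hR.isPGroup (hR.le.trans inf_le_right) hRnc
  obtain ⟨T, hRT, hT⟩ := exists_isSylowIn_ge (le_top : R ≤ ⊤) hR.isPGroup
  have hTR : T = R := by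
    by_contra hne'
    refine (ConjFunctor.lt_inf_normalizer hT.isPGroup (lt_of_le_of_ne hRT (Ne.symm hne'))).ne ?_
    exact (hR.eq_of_le (le_inf hRT le_normalizer) (inf_le_right.trans (le_inf hNRM hNRH))
      (hT.isPGroup.to_le inf_le_left)).symm
  subst hTR
  have hRM : T ≤ M := hR.le.trans inf_le_left
  have hRH : T ≤ H := hR.le.trans inf_le_right
  by_cases hr : Cfsg.PRankLE p 2 T
  swap
  · obtain ⟨W, hWT, hW, hWc⟩ := exists_elementary_of_not_pRankLE hr
    refine hne (inUniqueMaximal_eq (F.uniqueness T (minSimple_ne_top_of_isPGroup hG hT.isPGroup)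
      (fun h1 => not_pRankLE_of_le hWT hW
        ((Nat.pow_le_pow_right (Fact.out : p.Prime).pos (by omega)).trans hWc) (h1 p Fact.out))
      (Or.inl (not_rankLE_of_not_pRankLE hr))) hM hRM hH hRH)
  let T' : Sylow p G := hT.isPGroup.toSylow (show ¬ p ∣ T.index by
    have := hT.not_dvd
    rwa [relIndex_top_right] at this)
  obtain hab | ⟨P₁, P₂, hgen, hcomm, hna₁, hc₁, hexp₁, hcyc, hclo⟩ := F.rankTwoSylow p T' hr
  · exact hRna hab
  change P₁ ⊔ P₂ = T at hgen
  have hP₁T : P₁ ≤ T := hgen ▸ le_sup_left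
  have hexp : ∀ a ∈ P₁, a ^ p = 1 := fun a ha => by
    have := Monoid.pow_exponent_eq_one (⟨a, ha⟩ : P₁)
    rw [hexp₁] at this
    simpa using congrArg Subtype.val this
  set Z := P₁ ⊓ centralizer (P₁ : Set G) with hZdef
  have hZP₂ : Z ≤ P₂ := hclo ▸ (closure_le _).2 fun x hx => hx.1
  have hZc : Nat.card Z = p := by
    haveI := hcyc
    haveI : IsCyclic Z := isCyclic_of_le hZP₂
    obtain ⟨g, hg⟩ := IsCyclic.exists_ofOrder_eq_natCard (α := Z)
    have hd : Nat.card Z ∣ p := by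
      rw [← hg]
      exact orderOf_dvd_of_pow_eq_one (Subtype.ext (by simpa using hexp _ g.2.1))
    refine ((Nat.dvd_prime Fact.out).1 hd).resolve_left fun h1 => ?_
    obtain ⟨z, hz, hzc, hzo⟩ := exists_central_of_isPGroup (IsPGroup.of_card hc₁) (fun hb => by
      rw [hb, card_bot] at hc₁
      exact (Nat.one_lt_pow three_ne_zero (Fact.out : p.Prime).one_lt).ne hc₁)
    have : z ∈ Z := ⟨hz, hzc⟩
    rw [Subgroup.card_eq_one.1 h1, mem_bot] at this
    rw [this, orderOf_one] at hzo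
    exact (Fact.out : p.Prime).one_lt.ne hzo
  have hTZ : T ≤ centralizer (Z : Set G) := by
    rw [← hgen]
    refine sup_le (le_centralizer_iff.1 inf_le_right) fun b hb => ?_
    rw [mem_centralizer_iff]
    intro z hz
    haveI := hcyc
    exact setLike_mul_comm (s := P₂) (hZP₂ hz) hb
  obtain ⟨a, ha, haZ⟩ : ∃ a ∈ P₁, a ∉ Z := SetLike.not_le_iff_exists.1 fun hle =>
    absurd (Nat.le_of_dvd Nat.card_pos (card_dvd_of_le hle)) (by
      rw [hZc, hc₁]
      exact not_le.2 (lt_self_pow₀ (Fact.out : p.Prime).one_lt (by norm_num)))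
  set A := Z ⊔ zpowers a with hAdef
  have hZe : Cfsg.IsElementaryAbelian p Z :=
    ⟨le_centralizer_iff_isMulCommutative.1 (inf_le_right.trans (centralizer_le inf_le_left)),
      fun x hx => hexp x hx.1⟩
  have hac : a ∈ centralizer (Z : Set G) := hTZ (hP₁T ha)
  have hAe : Cfsg.IsElementaryAbelian p A := elem_sup_zpowers hZe (hexp a ha) hac
  have hAc : Nat.card A = p ^ 2 := card_sup_eq_sq hZc
    (by rw [Nat.card_zpowers]; exact orderOf_eq_prime (hexp a ha) fun e => haZ (e ▸ one_mem _))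
    ((zpowers_le.2 hac).trans (centralizer_le_normalizer _)) fun e => haZ (e ▸ mem_zpowers a)
  have hAP₁ : A ≤ P₁ := sup_le inf_le_left (zpowers_le.2 ha)
  have hAM : A ≤ M := (hAP₁.trans hP₁T).trans hRM
  have hAH : A ≤ H := (hAP₁.trans hP₁T).trans hRH
  have hmax : MaxElem p A := by
    intro B hB hAB
    by_contra hBA
    obtain ⟨g, -, hg⟩ := hT.exists_cj_le le_top (isPGroup_of_isElementaryAbelian hB)
    refine not_pRankLE_of_le hg (isElementaryAbelian_map _ hB) ?_ hr
    rw [ConjFunctor.card_cj]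
    obtain ⟨k, hk⟩ := IsPGroup.iff_card.1 (isPGroup_of_isElementaryAbelian hB)
    rw [hk]
    refine Nat.pow_le_pow_right (Fact.out : p.Prime).pos ?_
    by_contra hk3
    refine hBA (Subgroup.eq_of_le_of_card_ge hAB ?_).symm
    rw [hAc, hk]
    exact Nat.pow_le_pow_right (Fact.out : p.Prime).pos (by omega)
  have hrank : ∀ L : Subgroup G, T ≤ L → p ∉ Cfsg.beta L := by
    intro L hTL hb
    obtain ⟨B, -, hB, hBc⟩ := exists_elementary_of_not_pRankLE hb.1.2
    obtain ⟨g, -, hg⟩ := hT.exists_cj_le le_top (isPGroup_of_isElementaryAbelian hB)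
    exact not_pRankLE_of_le hg (isElementaryAbelian_map _ hB)
      (by rw [ConjFunctor.card_cj]; exact hBc) hr
  -- no maximal subgroup over `T` has only bad lines
  have hline : ∀ L L' : Subgroup G, IsCoatom L → IsCoatom L' → T ≤ L → T ≤ L' → L' ≠ L →
      p ∈ Cfsg.sigma L → p ∈ Cfsg.sigma L' → normalizer (T : Set G) ≤ L' →
      ∃ X : Subgroup G, X ≤ A ∧ Nat.card X = p ∧ normalizer (X : Set G) ≤ L ∧
        ∀ K : Subgroup G, IsCoatom K → normalizer (X : Set G) ≤ K → K = L := by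
    intro L L' hL hL' hTL hTL' hLL' hpL hpL' hN
    by_contra hno
    have hb : BadPlane p L A := badPlane_of_no_line hG hL ((hAP₁.trans hP₁T).trans hTL) hAe hAc
      fun X hX hXc hh => hno ⟨X, hX, hXc, hh.1, hh.2⟩
    refine hLL' ((hL.le_iff.1 (le_of_core_le hG F hL hpL (hrank L hTL) hT hTL hTL' hN ?_)).resolve_left
      hL'.1)
    exact (le_centralizer_iff.1 (hb.le_centralizer_core hG F)).trans
      (centralizer_plane_le hG F hL' ((hAP₁.trans hP₁T).trans hTL') hAe hAc)
  obtain ⟨X, hXA, hXc, hXM, hXu⟩ := hline M H hM hH hRM hRH hne hpM hpH hNRH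
  obtain ⟨Y, hYA, hYc, hYH, hYu⟩ := hline H M hH hM hRH hRM (Ne.symm hne) hpH hpM hNRM
  have aux : ∀ (L L' : Subgroup G) (W : Subgroup G), IsCoatom L → IsCoatom L' → T ≤ L → T ≤ L' →
      L' ≠ L → p ∈ Cfsg.sigma L → normalizer (T : Set G) ≤ L' → W ≤ A → Nat.card W = p →
      W ≠ Z → normalizer (W : Set G) ≤ L' → False := by
    intro L L' W hL hL' hTL hTL' hLL' hpL hN hWA hWc hWZ hNW
    refine hLL' ((hL.le_iff.1 (le_of_core_le hG F hL hpL (hrank L hTL) hT hTL hTL' hN ?_)).resolve_left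
      hL'.1)
    set K := Cfsg.piCoreOf {s | s ≠ p} (Cfsg.sigmaCore L) with hK
    have hLK : L ≤ normalizer (K : Set G) :=
      (le_normalizer_sigmaCore L).trans (normalizer_le_normalizer_piCoreOf _ _)
    have hpK : ¬ p ∣ Nat.card K := fun hd => isPiSubgroup_piCoreOf _ _ p Fact.out hd rfl
    have hAL : A ≤ L := (hAP₁.trans hP₁T).trans hTL
    haveI := hAe.1
    refine Coprime.le_of_forall_inf_centralizer_le (not_isCyclic_of_card_sq hAe hAc)
      (hAL.trans hLK) (coprime_card_of_not_dvd (isPGroup_of_isElementaryAbelian hAe) hpK)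
      fun b hb hb1 => ?_
    have hbc := card_zpowers_of_mem hAe.2 hb hb1
    by_cases hbZ : zpowers b = Z
    · rw [← centralizer_zpowers, hbZ]
      refine le_of_forall_inf_centralizer_quotient hc₁ hexp inf_le_left hZc (hP₁T.trans hTZ)
        inf_le_right ?_ (fun hd => hpK (hd.trans (card_dvd_of_le inf_le_left)))
        (inf_le_left.trans (hP₁T.trans hTL')) fun c hc hcZ => ?_
      · exact le_normalizer_inf_of_le ((hP₁T.trans hTL).trans hLK)
          ((hP₁T.trans hTZ).trans (le_normalizer.trans le_rfl))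
      · have hcc : c ∈ centralizer (Z : Set G) := hTZ (hP₁T hc)
        set B := Z ⊔ zpowers c with hB
        have hBe : Cfsg.IsElementaryAbelian p B := elem_sup_zpowers hZe (hexp c hc) hcc
        have hBc : Nat.card B = p ^ 2 := card_sup_eq_sq hZc
          (by rw [Nat.card_zpowers]
              exact orderOf_eq_prime (hexp c hc) fun e => hcZ (e ▸ one_mem _))
          ((zpowers_le.2 hcc).trans (centralizer_le_normalizer _)) fun e => hcZ (show c ∈ Z from e.symm ▸ mem_zpowers c)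
        refine le_trans ?_ (centralizer_plane_le hG F hL'
          ((sup_le inf_le_left (zpowers_le.2 hc) : B ≤ P₁).trans (hP₁T.trans hTL')) hBe hBc)
        rw [le_centralizer_iff]
        refine sup_le (le_centralizer_iff.1 (inf_le_left.trans inf_le_right)) ?_
        rw [le_centralizer_iff, centralizer_zpowers]
        exact inf_le_right
    · have hP₁A : ¬ P₁ ≤ centralizer (A : Set G) := fun hle => haZ
        (mem_inf.2 ⟨ha, (le_centralizer_iff.1 hle) (mem_sup_right (mem_zpowers a))⟩)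
      obtain ⟨u, hu, hue⟩ := exists_conj_line (IsPGroup.of_card hc₁) hAP₁ hAe hAc hmax hP₁A hZc
        le_sup_left (hP₁T.trans hTZ) hWc hWA hWZ hbc (zpowers_le.2 hb) hbZ
      refine (inf_le_right : K ⊓ _ ≤ _).trans ?_
      rw [← centralizer_zpowers, ← hue]
      refine (centralizer_le_normalizer _).trans ?_
      rw [← map_conj_normalizer, ← map_conj_eq_self_of_mem (hTL' (hP₁T hu))]
      exact map_mono hNW
  by_cases hXZ : X = Z
  · by_cases hYZ : Y = Z
    · subst hXZ hYZ
      exact hne (hXu H hH hYH)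
    · exact aux M H Y hM hH hRM hRH hne hpM hNRH hYA hYc hYZ hYH
  · exact aux H M X hH hM hRH hRM (Ne.symm hne) hpH hNRM hXA hXc hXZ hXM

theorem inUniqueMaximal_of_nonabelian {P : Subgroup G} (hP : IsPGroup p P)
    (hna : ¬ IsMulCommutative P) : Cfsg.InUniqueMaximal P := by
  obtain ⟨M, hM, hPM⟩ := minSimple_exists_coatom hG (minSimple_ne_top_of_isPGroup hG hP)
  exact inUniqueMaximal_iff.2
    ⟨M, hM, hPM, fun L hL hPL => eq_of_nonabelian hG F hP hna hM hL hPM hPL⟩

end CfsgLib.OddOrder.BG12
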