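import Cfsg.Agent.OddOrder.BG11.Basic
import Cfsg.Agent.OddOrder.BG15.HallTools
import Cfsg.Agent.OddOrder.TypePBasic

/-!
# BG 12: complements of `M_σ`
-/

set_option autoImplicit false
set_option linter.style.haveILetI false
set_option linter.unusedSectionVars false

namespace CfsgLib.OddOrder.BG12

open Cfsg Subgroup CfsgLib.OddOrder.BG11
open CfsgLib.ConjFunctor (IsSylowIn exists_isSylowIn_ge)

variable {G : Type*} [Group G] [Finite G] {p : ℕ} {M E : Subgroup G}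

theorem le_sigmaCore_sup_compl (hE : Cfsg.IsComplIn E (Cfsg.sigmaCore M) M) :
    M ≤ Cfsg.sigmaCore M ⊔ E := fun m hm => by
  obtain ⟨a, ha, b, hb, rfl⟩ := hE.2.2.2 m hm
  exact mul_mem (mem_sup_right ha) (mem_sup_left hb)

theorem card_compl_eq_relIndex (hE : Cfsg.IsComplIn E (Cfsg.sigmaCore M) M) :
    Nat.card E = (Cfsg.sigmaCore M).relIndex M := by
  have h1 := PLocal.card_mul_relIndex (sigmaCore_le M)
  rw [← compl_card hE, mul_comm (Nat.card E)] at h1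
  exact (Nat.eq_of_mul_eq_mul_left Nat.card_pos h1).symm

theorem relIndex_compl_eq_card (hE : Cfsg.IsComplIn E (Cfsg.sigmaCore M) M) :
    E.relIndex M = Nat.card (Cfsg.sigmaCore M) := by
  have h1 := PLocal.card_mul_relIndex hE.1
  rw [← compl_card hE] at h1
  exact Nat.eq_of_mul_eq_mul_left Nat.card_pos h1

variable (F : BG10Facts G)
include F

theorem not_sigma_of_dvd_compl (hM : IsCoatom M) (hE : Cfsg.IsComplIn E (Cfsg.sigmaCore M) M)
    {r : ℕ} (hr : r.Prime) (hd : r ∣ Nat.card E) : r ∉ Cfsg.sigma M := fun hs =>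
  (F.sigmaHall M hM).1.2.2 r hr hs (card_compl_eq_relIndex hE ▸ hd)

theorem dvd_compl_of_not_sigma (hE : Cfsg.IsComplIn E (Cfsg.sigmaCore M) M)
    {r : ℕ} (hr : r.Prime) (hs : r ∉ Cfsg.sigma M) (hd : r ∣ Nat.card M) : r ∣ Nat.card E := by
  rw [← compl_card hE] at hd
  exact (hr.dvd_mul.1 hd).resolve_right fun h => hs (isPiSubgroup_sigmaCore M r hr h)

theorem isSylowIn_of_compl [Fact p.Prime] (hE : Cfsg.IsComplIn E (Cfsg.sigmaCore M) M)
    (hp : p ∉ Cfsg.sigma M) {R : Subgroup G} (hR : IsSylowIn p R E) : IsSylowIn p R M := by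
  refine ⟨hR.le.trans hE.1, hR.isPGroup, fun hd => ?_⟩
  rw [← relIndex_mul_relIndex R E M hR.le hE.1, relIndex_compl_eq_card hE] at hd
  exact ((Fact.out : p.Prime).dvd_mul.1 hd).elim hR.not_dvd
    fun h => hp (isPiSubgroup_sigmaCore M p Fact.out h)

theorem isPiHallOf_compl (hM : IsCoatom M) (hE : Cfsg.IsComplIn E (Cfsg.sigmaCore M) M) :
    Cfsg.IsPiHallOf {r | r.Prime ∧ r ∉ Cfsg.sigma M} E M :=
  ⟨hE.1, fun r hr hd => ⟨hr, not_sigma_of_dvd_compl F hM hE hr hd⟩, fun r hr hrs hd =>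
    hrs.2 (isPiSubgroup_sigmaCore M r hr (relIndex_compl_eq_card hE ▸ hd))⟩

variable (hG : Cfsg.IsMinSimpleOddOrder G)
include hG

/-- Every `σ(M)'`-subgroup of `M` lies in a complement of `M_σ`. -/
theorem exists_compl_ge (hM : IsCoatom M) {U : Subgroup G} (hU : U ≤ M)
    (hs : IsPiSubgroup {r | r.Prime ∧ r ∉ Cfsg.sigma M} U) :
    ∃ E, U ≤ E ∧ Cfsg.IsComplIn E (Cfsg.sigmaCore M) M := by
  obtain ⟨E, hE, hUE⟩ := exists_isPiHallOf_ge (minSimple_coatom_solvable hG hM) hU hs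
  exact ⟨E, hUE, isComplIn_of_isPiHallOf (le_normalizer_sigmaCore M) (F.sigmaHall M hM).1 hE
    fun r hr => ⟨fun h => h.2, fun h => ⟨hr, h⟩⟩⟩

theorem exists_compl_ge_of_pGroup [Fact p.Prime] (hM : IsCoatom M) (hp : p ∉ Cfsg.sigma M)
    {U : Subgroup G} (hU : U ≤ M) (hUp : IsPGroup p U) :
    ∃ E, U ≤ E ∧ Cfsg.IsComplIn E (Cfsg.sigmaCore M) M :=
  exists_compl_ge F hG hM hU (isPiSubgroup_of_isPGroup hUp ⟨Fact.out, hp⟩)

end CfsgLib.OddOrder.BG12
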