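import Cfsg.Agent.OddOrder.BG11.KeyCore
import Cfsg.Agent.OddOrder.BG1Stab
import Cfsg.Agent.Coprime.Generation
import Mathlib.GroupTheory.Transfer

/-!
# BG 12: planes `A ∈ E_p²(M)` none of whose lines determines `M` (S1416)

`BadPlane p M A`: for every line `X` of `A` some maximal subgroup other than `M` contains `N(X)`.
Then `A` centralizes `O_{p'}(M_σ)`, `M_α = 1`, `M'` is nilpotent and `p ∈ σ(M)`.
-/

set_option autoImplicit false
set_option linter.style.haveILetI false
set_option linter.unusedSectionVars false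
set_option maxHeartbeats 800000

namespace CfsgLib.OddOrder.BG12

open Cfsg Subgroup CfsgLib.OddOrder.BG11
open CfsgLib.ConjFunctor (IsSylowIn exists_isSylowIn_ge)
open scoped commutatorElement

/-- Every line of the plane `A` has its normalizer in a maximal subgroup other than `M`. -/
structure BadPlane {G : Type*} [Group G] (p : ℕ) (M A : Subgroup G) : Prop where
  maximal : IsCoatom M
  le : A ≤ M
  elem : Cfsg.IsElementaryAbelian p A
  card : Nat.card A = p ^ 2
  bad : ∀ X : Subgroup G, X ≤ A → Nat.card X = p →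
    ∃ H, IsCoatom H ∧ normalizer (X : Set G) ≤ H ∧ H ≠ M

variable {G : Type*} [Group G] [Finite G] {p q : ℕ}

theorem not_rankLE_of_not_pRankLE {H : Subgroup G} {k : ℕ} [Fact p.Prime]
    (h : ¬ Cfsg.PRankLE p k H) : ¬ Cfsg.RankLE k H := fun h' => h (h' p Fact.out)

theorem not_ideal_of_maxElem [Fact p.Prime] {A : Subgroup G} (hA : Cfsg.IsElementaryAbelian p A)
    (hc : Nat.card A = p ^ 2) (hmax : MaxElem p A) : ¬ Cfsg.IsIdealPrime p G := by
  rintro ⟨-, -, h⟩
  obtain ⟨P, hP⟩ := (isPGroup_of_isElementaryAbelian hA).exists_le_sylow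
  obtain ⟨B, -, hB, hlt⟩ := h P A hP hA hc
  exact hlt.ne (hmax B hB hlt.le).symm

theorem ne_of_dvd_sigma [Fact p.Prime] [Fact q.Prime] {D : Subgroup G} (hD : IsPGroup q D)
    (hqp : q ≠ p) : ¬ p ∣ Nat.card D := by
  intro hd
  obtain ⟨k, hk⟩ := IsPGroup.iff_card.1 hD
  rw [hk] at hd
  exact hqp ((Nat.prime_dvd_prime_iff_eq Fact.out Fact.out).1
    ((Fact.out : p.Prime).dvd_of_dvd_pow hd)).symm

/-- A coprime group centralizing `[D, A]` centralizes `D`. -/
theorem le_centralizer_of_commutator {A D : Subgroup G} (hn : A ≤ normalizer (D : Set G))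
    (hcop : (Nat.card A).Coprime (Nat.card D))
    (hc : A ≤ centralizer ((⁅D, A⁆ : Subgroup G) : Set G)) : A ≤ centralizer (D : Set G) := by
  rw [← le_centralizer_iff, ← commutator_eq_bot_iff_le_centralizer,
    ← Coprime.commutator_commutator_eq hn hcop, commutator_eq_bot_iff_le_centralizer,
    le_centralizer_iff]
  exact hc

theorem commutator_le_of_normalizer {A D : Subgroup G} (hn : A ≤ normalizer (D : Set G)) :
    ⁅D, A⁆ ≤ D := by
  rw [commutator_le]
  intro x hx a ha
  rw [commutatorElement_def, show x * a * x⁻¹ * a⁻¹ = x * (a * x⁻¹ * a⁻¹) by group]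
  exact mul_mem hx (conj_mem_of_mem_normalizer (hn ha) (inv_mem hx))

theorem le_normalizer_of_commutator {A D : Subgroup G} :
    A ≤ normalizer ((⁅D, A⁆ : Subgroup G) : Set G) :=
  Subgroup.normalizer_commutator_ge_right D A

/-- A plane acting on a group of prime order has a line centralizing it. -/
theorem exists_centralizing_line [Fact p.Prime] [Fact q.Prime] {A Y : Subgroup G}
    (hA : Cfsg.IsElementaryAbelian p A) (hc : Nat.card A = p ^ 2)
    (hn : A ≤ normalizer (Y : Set G)) (hY : Nat.card Y = q) (hqp : q ≠ p) :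
    ∃ X : Subgroup G, X ≤ A ∧ Nat.card X = p ∧ Y ≤ centralizer (X : Set G) := by
  haveI := hA.1
  obtain ⟨a, ha, ha1, hne⟩ : ∃ a ∈ A, a ≠ 1 ∧ Y ⊓ centralizer ({a} : Set G) ≠ ⊥ := by
    by_contra hno
    refine ne_bot_of_card_prime hY (le_bot_iff.1 ?_)
    refine Coprime.le_of_forall_inf_centralizer_le (not_isCyclic_of_card_sq hA hc) hn ?_
      fun a ha ha1 => ?_
    · rw [hc, hY]
      exact ((Nat.coprime_primes Fact.out Fact.out).2 hqp.symm).pow_left 2
    · exact le_of_eq (not_not.1 fun hne => hno ⟨a, ha, ha1, hne⟩)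
  refine ⟨zpowers a, zpowers_le.2 ha, card_zpowers_of_mem hA.2 ha ha1, ?_⟩
  obtain ⟨y, hy, hy1⟩ := (bot_or_exists_ne_one _).resolve_left hne
  rw [centralizer_zpowers, ← zpowers_eq_of_card hY hy.1 hy1, zpowers_le]
  exact hy.2

/-- A normal `p'`-subgroup carrying the `p'`-part of a group with a normal `p`-complement. -/
theorem le_piCoreOf_of_normalPComplement [Fact p.Prime] {S D : Subgroup G}
    (h : Cfsg.HasNormalPComplement p S) (hDS : D ≤ S) (hD : ¬ p ∣ Nat.card D) :
    D ≤ Cfsg.piCoreOf {s | s ≠ p} S := by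
  obtain ⟨P, N, hN, hc⟩ := h
  haveI := hN
  have hNp : IsPiSubgroup {s | s ≠ p} N := fun r hr hd e => by
    refine P.not_dvd_index ?_
    rw [hc.index_eq_card]
    exact e ▸ hd
  have hle : D.subgroupOf S ≤ N := by
    intro x hx
    have h1 : (QuotientGroup.mk' N x) ∈ (D.subgroupOf S).map (QuotientGroup.mk' N) :=
      mem_map_of_mem _ hx
    have h2 : IsPGroup p (S ⧸ N) := by
      obtain ⟨k, hk⟩ := IsPGroup.iff_card.1 P.2
      exact IsPGroup.iff_card.2 ⟨k, by rw [← Subgroup.index_eq_card, hc.symm.index_eq_card, hk]⟩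
    have h3 : (D.subgroupOf S).map (QuotientGroup.mk' N) = ⊥ := by
      rw [← card_eq_one]
      refine Nat.eq_one_of_dvd_coprimes ?_ (card_map_dvd (H := D.subgroupOf S) (QuotientGroup.mk' N))
        (card_subgroup_dvd_card _)
      rw [Nat.card_congr (subgroupOfEquivOfLe hDS).toEquiv]
      obtain ⟨k, hk⟩ := IsPGroup.iff_card.1 h2
      rw [hk]
      exact (((Fact.out : p.Prime).coprime_iff_not_dvd.2 hD).pow_left k).symm
    rw [h3, mem_bot] at h1
    exact (QuotientGroup.eq_one_iff x).1 h1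
  rw [← map_subgroupOf_eq_of_le hDS]
  exact map_mono (hle.trans (le_piCore hNp))

variable (hG : Cfsg.IsMinSimpleOddOrder G) (F : BG10Facts G)
include hG F

/-- A plane centralizes its invariant `q`-subgroups of an overgroup `H` of some `N(X)`, `X` a
line, when `p ∈ σ(H)` and `q ∈ σ(M)`. -/
theorem le_centralizer_of_sigma_line [Fact p.Prime] [Fact q.Prime] {M H A X D : Subgroup G}
    (hM : IsCoatom M) (hA : Cfsg.IsElementaryAbelian p A) (hc : Nat.card A = p ^ 2)
    (hmax : MaxElem p A) (hXA : X ≤ A) (hX : Nat.card X = p) (hAM : A ≤ M) (hH : IsCoatom H)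
    (hNX : normalizer (X : Set G) ≤ H) (hne : H ≠ M) (hpH : p ∈ Cfsg.sigma H)
    (hqM : q ∈ Cfsg.sigma M) (hqp : q ≠ p) (hD : IsPGroup q D) (hDH : D ≤ H)
    (hDA : A ≤ normalizer (D : Set G)) : A ≤ centralizer (D : Set G) := by
  have hAp := isPGroup_of_isElementaryAbelian hA
  have hAH : A ≤ H := ((le_centralizer_self hA.1).trans
    ((centralizer_le hXA).trans (centralizer_le_normalizer _))).trans hNX
  have hqb : q ∉ Cfsg.beta H := by
    intro hb
    obtain ⟨-, g, hg⟩ := exists_conj_of_alpha F hG hM hH hqM hb.1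
    rw [hg, sigma_map_conj] at hpH
    exact hne (eq_of_conj_of_normalizer_le F hG hM hpH (hAp.to_le hXA) (ne_bot_of_card_prime hX)
      (hXA.trans hAM) hNX hg)
  have hle : ⁅D, A⁆ ≤ D := commutator_le_of_normalizer hDA
  have hcop : (Nat.card A).Coprime (Nat.card D) :=
    coprime_card_of_not_dvd hAp (ne_of_dvd_sigma hD hqp)
  refine le_centralizer_of_commutator hDA hcop (le_centralizer_of_betaPrime F hG hH
    ((pGroup_le_sigmaCore F hH hpH hAH hAp).trans (sigmaCore_le_derived F hG hH))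
    (commutator_mono hDH hAH) le_normalizer_of_commutator
    (isPiSubgroup_of_isPGroup hAp ⟨Fact.out, fun hb => not_ideal_of_maxElem hA hc hmax hb.2⟩)
    (isPiSubgroup_of_isPGroup (hD.to_le hle) ⟨Fact.out, hqb⟩)
    (hcop.coprime_dvd_right (card_dvd_of_le hle)))

theorem BadPlane.inUniqueMaximal_absurd {M A K : Subgroup G} [Fact p.Prime] (h : BadPlane p M A)
    {X : Subgroup G} (hXA : X ≤ A) (hX : Nat.card X = p) (hK : Cfsg.InUniqueMaximal K)
    (hKM : K ≤ M) (hKX : K ≤ normalizer (X : Set G)) : False := by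
  obtain ⟨H, hH, hNH, hne⟩ := h.bad X hXA hX
  exact hne (inUniqueMaximal_eq hK h.maximal hKM hH (hKX.trans hNH))

theorem BadPlane.rankLE_two_centralizer [Fact p.Prime] {M A : Subgroup G} (h : BadPlane p M A) :
    Cfsg.RankLE 2 (centralizer (A : Set G)) := by
  by_contra hr
  have hU : Cfsg.InUniqueMaximal A := F.uniqueness A
    (minSimple_ne_top_of_isPGroup hG (isPGroup_of_isElementaryAbelian h.elem))
    (fun h1 => not_pRankLE_one_of_card_sq le_rfl h.elem h.card (h1 p Fact.out)) (Or.inr hr)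
  obtain ⟨a, ha, ha1⟩ := (bot_or_exists_ne_one A).resolve_left (ne_bot_of_card_sq h.card)
  exact h.inUniqueMaximal_absurd hG F (zpowers_le.2 ha) (card_zpowers_of_mem h.elem.2 ha ha1) hU
    h.le ((le_centralizer_self h.elem.1).trans
      ((centralizer_le (zpowers_le.2 ha)).trans (centralizer_le_normalizer _)))

theorem BadPlane.maxElem [Fact p.Prime] {M A : Subgroup G} (h : BadPlane p M A) :
    MaxElem p A := by
  intro B hB hAB
  by_contra hne
  refine not_rankLE_of_not_pRankLE (p := p) ?_ (h.rankLE_two_centralizer hG F)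
  have hlt : A < B := lt_of_le_of_ne hAB (Ne.symm hne)
  refine not_pRankLE_of_le ((le_centralizer_self hB.1).trans (centralizer_le hAB)) hB ?_
  obtain ⟨k, hk⟩ := IsPGroup.iff_card.1 (isPGroup_of_isElementaryAbelian hB)
  rw [hk]
  refine Nat.pow_le_pow_right (Fact.out : p.Prime).pos ?_
  by_contra hk3
  refine hne (Subgroup.eq_of_le_of_card_ge hAB ?_).symm
  rw [h.card, hk]
  exact Nat.pow_le_pow_right (Fact.out : p.Prime).pos (by omega)

theorem BadPlane.not_alpha [Fact p.Prime] {M A : Subgroup G} (h : BadPlane p M A) :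
    p ∉ Cfsg.alpha M := by
  intro ha
  have hAp := isPGroup_of_isElementaryAbelian h.elem
  obtain ⟨P, hAP, hP⟩ := exists_isSylowIn_ge h.le hAp
  obtain ⟨B, hBM, hB, hBc⟩ := exists_elementary_of_not_pRankLE ha.2
  obtain ⟨T, hBT, hT⟩ := exists_isSylowIn_ge hBM (isPGroup_of_isElementaryAbelian hB)
  obtain ⟨m, hm, he⟩ := hP.exists_cj_eq hT
  have hle : B.map (MulAut.conj m).toMonoidHom ≤ P := he ▸ map_mono hBT
  have hr : ¬ Cfsg.RankLE 2 P := not_rankLE_of_not_pRankLE (p := p)
    (not_pRankLE_of_le hle (isElementaryAbelian_map _ hB) (by rw [card_map_conj]; exact hBc))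
  have hU : Cfsg.InUniqueMaximal P := F.uniqueness P (minSimple_ne_top_of_isPGroup hG hP.isPGroup)
    (fun h1 => not_pRankLE_one_of_card_sq hAP h.elem h.card (h1 p Fact.out)) (Or.inl hr)
  have hPne : P ≠ ⊥ := fun hb => ne_bot_of_card_sq h.card (le_bot_iff.1 (hb ▸ hAP))
  obtain ⟨z, hzP, hzc, hzo⟩ := exists_central_of_isPGroup hP.isPGroup hPne
  have hzA := (h.maxElem hG F).central_mem h.elem hAP hzc hzo
  exact h.inUniqueMaximal_absurd hG F (X := zpowers z) (zpowers_le.2 hzA.1)
    (by rw [Nat.card_zpowers, hzo]) hU hP.le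
    ((le_centralizer_iff.1 (zpowers_le.2 hzc)).trans (centralizer_le_normalizer _))

/-- An invariant Sylow subgroup of `O_{p'}(M_σ)` is one of `G`. -/
theorem BadPlane.exists_invariant_sylow [Fact p.Prime] [Fact q.Prime] {M A D : Subgroup G}
    (h : BadPlane p M A) (hq : q ∈ Cfsg.sigma M) (hqp : q ≠ p) (hD : IsPGroup q D)
    (hDS : D ≤ Cfsg.sigmaCore M) (hDA : A ≤ normalizer (D : Set G)) :
    ∃ Q, D ≤ Q ∧ Q ≤ Cfsg.sigmaCore M ∧ IsSylowIn q Q M ∧ IsSylowIn q Q ⊤ ∧
      A ≤ normalizer (Q : Set G) := by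
  have hAp := isPGroup_of_isElementaryAbelian h.elem
  set K := Cfsg.piCoreOf {s | s ≠ p} (Cfsg.sigmaCore M) with hKdef
  have hK : ∀ E : Subgroup G, E ≤ Cfsg.sigmaCore M → IsPGroup q E → E ≤ K := by
    intro E hE hEq
    by_cases hps : p ∣ Nat.card M
    · exact le_piCoreOf_of_normalPComplement ((F.betaHall M h.maximal).2 p Fact.out hps
        (fun hb => h.not_alpha hG F hb.1)) hE (ne_of_dvd_sigma hEq hqp)
    · exact absurd (dvd_card_of_le_sq h.card h.le) hps
  have hKS : K ≤ Cfsg.sigmaCore M := piCoreOf_le _ _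
  have hAK : A ≤ normalizer (K : Set G) :=
    (h.le.trans (le_normalizer_sigmaCore M)).trans (normalizer_le_normalizer_piCoreOf _ _)
  have hpK : ¬ p ∣ Nat.card K := fun hd => isPiSubgroup_piCoreOf _ _ p Fact.out hd rfl
  haveI := hAp.isNilpotent
  obtain ⟨S, hDS', hAS⟩ := Coprime.exists_invariant_sylow_ge hAK
    (coprime_card_of_not_dvd hAp hpK) (Or.inl inferInstance) (hK D hDS hD) hD hDA
  set Q := (S : Subgroup K).map K.subtype with hQ
  have hQK : Q ≤ K := map_subtype_le _
  obtain ⟨T, hQT, hT⟩ := exists_isSylowIn_ge (hQK.trans (hKS.trans (sigmaCore_le M))) (S.2.map _)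
  have hTS : T ≤ Cfsg.sigmaCore M := pGroup_le_sigmaCore F h.maximal hq hT.le hT.isPGroup
  have hTQ : T = Q := (isSylowIn_map_subtype S).eq_of_le hQT (hK T hTS hT.isPGroup) hT.isPGroup
  subst hTQ
  exact ⟨_, hDS', hTS, hT, isSylowIn_top_of_sigma F h.maximal hq hT, hAS⟩

/-- The main step: `A` centralizes the invariant `q`-subgroups of `M_σ ∩ H`. -/
theorem BadPlane.le_centralizer_of_le_inf [Fact p.Prime] [Fact q.Prime] {M A X H D : Subgroup G}
    (h : BadPlane p M A) (hXA : X ≤ A) (hX : Nat.card X = p) (hH : IsCoatom H)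
    (hNX : normalizer (X : Set G) ≤ H) (hne : H ≠ M) (hqp : q ≠ p) (hD : IsPGroup q D)
    (hDS : D ≤ Cfsg.sigmaCore M) (hDH : D ≤ H) (hDA : A ≤ normalizer (D : Set G)) :
    A ≤ centralizer (D : Set G) := by
  by_contra hnc
  have hAp := isPGroup_of_isElementaryAbelian h.elem
  have hmax := h.maxElem hG F
  have hM := h.maximal
  have hDne : D ≠ ⊥ := by
    rintro rfl
    exact hnc fun a _ => mem_centralizer_iff.2 fun x hx => by
      rw [SetLike.mem_coe, mem_bot] at hx
      simp [hx]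
  have hqM : q ∈ Cfsg.sigma M := by
    refine isPiSubgroup_sigmaCore M q Fact.out (dvd_trans ?_ (card_dvd_of_le hDS))
    obtain ⟨k, hk⟩ := IsPGroup.iff_card.1 hD
    rcases Nat.eq_zero_or_pos k with rfl | hk0
    · exact absurd (Subgroup.card_eq_one.1 (hk.trans (pow_zero q))) hDne
    · exact hk ▸ dvd_pow_self q hk0.ne'
  have hAH : A ≤ H := ((le_centralizer_self h.elem.1).trans
    ((centralizer_le hXA).trans (centralizer_le_normalizer _))).trans hNX
  by_cases hpH : p ∈ Cfsg.sigma H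
  · exact hnc (le_centralizer_of_sigma_line hG F hM h.elem h.card hmax hXA hX h.le hH hNX hne hpH
      hqM hqp hD hDH hDA)
  have hE : Exceptional p H A X := ⟨hH, hpH, hAH, h.elem, h.card, hXA, hX, hNX⟩
  by_cases hqH : q ∈ Cfsg.sigma H
  · refine hDne (le_bot_iff.1 ?_)
    rw [← hE.sigmaCore_inf_sigmaCore hG F hM h.le (Ne.symm hne)]
    exact le_inf hDS (pGroup_le_sigmaCore F hH hqH hDH hD)
  have hDO : ⁅D, A⁆ ≤ keyCore q H := hE.commutator_le_keyCore hG F hqH hD hDH hDA
  have hcopD : (Nat.card A).Coprime (Nat.card D) :=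
    coprime_card_of_not_dvd hAp (ne_of_dvd_sigma hD hqp)
  have hDAne : ⁅D, A⁆ ≠ ⊥ := fun hb => hnc
    (le_centralizer_iff.1 ((commutator_eq_bot_iff_le_centralizer).1 hb))
  obtain ⟨Y, hYO, hYc, hHY, hNY, hYmin, hYuniq, hYsyl, hYB⟩ :=
    hE.exists_keyLine hG F hqH fun hb => hDAne (le_bot_iff.1 (hb ▸ hDO))
  have hYD : Y ≤ D := (hYmin _ hDO hDAne).trans (commutator_le_of_normalizer hDA)
  have hqd : q ∣ Nat.card H := hYc ▸ card_dvd_of_le (hYO.trans (keyCore_le q H))
  have hq2 : q ≠ 2 := minSimple_prime_ne_two_subgroup hG hqd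
  have hAq : ∀ a ∈ A, (orderOf a).Coprime q := fun a ha =>
    ((Nat.coprime_primes Fact.out Fact.out).2 hqp.symm).coprime_dvd_left
      (orderOf_dvd_of_pow_eq_one (h.elem.2 a ha))
  -- `A` is nontrivial on `Y`
  have hAY : ¬ A ≤ centralizer (Y : Set G) := by
    intro hc
    refine hnc (le_centralizer_of_commutator hDA hcopD fun a ha =>
      mem_centralizer_iff.2 fun x hx => ?_)
    exact (Stab.commute_of_fix_prime_order hq2 (isPGroup_keyCore q H) (hAq a ha)
      (le_normalizer_keyCore q H (hAH ha))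
      (fun z hz hzq => (mem_centralizer_iff.1 (hc ha) z (hYuniq z hz hzq)).symm) x (hDO hx)).eq.symm
  obtain ⟨Q, hDQ, hQS, hQM, hQtop, hAQ⟩ := h.exists_invariant_sylow hG F hqM hqp hD hDS hDA
  have hCYH : centralizer (Y : Set G) ≤ H := (centralizer_le_normalizer _).trans hNY
  have hYQ : Y ≤ Q := hYD.trans hDQ
  have hQne : Q ≠ ⊥ := fun hb => hDne (le_bot_iff.1 (hb ▸ hDQ))
  have habel : ∀ R : Subgroup G, IsSylowIn q R H → IsMulCommutative R := fun R hR => by
    obtain ⟨-, B, hBR, hB⟩ := hYsyl R hR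
    exact hB.isMulCommutative_sylow hG F hR hBR
  by_cases hQH : Q ≤ H
  · -- `Q` is an abelian Sylow subgroup of `H`, so `q ∈ σ(H)`
    have hQHs : IsSylowIn q Q H := isSylowIn_sylowTop_le hQtop hQH
    obtain ⟨-, B, hBQ, hB⟩ := hYsyl Q hQHs
    haveI := habel Q hQHs
    have hNQB := hB.normalizer_sylow_le hG F hQHs hBQ
    have hAB : A ≤ normalizer (B : Set G) := hAQ.trans hNQB
    have hQC : Q ≤ centralizer (B : Set G) := (le_centralizer_self (habel Q hQHs)).trans
      (centralizer_le hBQ)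
    set N := normalizer (B : Set G) with hN
    have hNne : N ≠ ⊤ := minSimple_normalizer_ne_top hG (ne_bot_of_card_sq hB.card)
      (minSimple_ne_top_of_isPGroup hG (isPGroup_of_isElementaryAbelian hB.elem))
    have hnd : ¬ q ∣ (centralizer (B : Set G)).relIndex N := by
      intro hd
      refine (hQtop.of_le (hQC.trans (centralizer_le_normalizer _)) le_top).not_dvd ?_
      rw [← relIndex_mul_relIndex Q _ N hQC (centralizer_le_normalizer _)]
      exact hd.mul_left _
    have hder : ⁅N, N⁆ ≤ centralizer (B : Set G) :=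
      commutator_le_centralizer_of_not_dvd (minSimple_solvable hG hNne)
        (minSimple_odd_subgroup hG N) hB.elem hB.card le_rfl hnd
    have hBO : ⁅B, A⁆ ≤ Y := by
      intro x hx
      refine hYuniq x (hE.commutator_le_keyCore hG F hqH
        (isPGroup_of_isElementaryAbelian hB.elem) hB.le hAB hx) ?_
      exact hB.elem.2 x (commutator_le_of_normalizer hAB hx)
    obtain ⟨a, ha, y, hy, hay⟩ : ∃ a ∈ A, ∃ y ∈ Y, ⁅y, a⁆ ≠ 1 := by
      by_contra hno
      refine hAY fun a ha => mem_centralizer_iff.2 fun y hy => ?_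
      exact commutatorElement_eq_one_iff_mul_comm.1 (not_not.1 fun hne' =>
        hno ⟨a, ha, y, hy, hne'⟩)
    have hcY : ⁅y, a⁆ ∈ Y := hBO (commutator_mem_commutator (hB.line_le hy) ha)
    have hgen : zpowers ⁅y, a⁆ = Y := zpowers_eq_of_card hYc hcY hay
    have hNNY : N ≤ normalizer (Y : Set G) := by
      intro n hn
      have hc : ⁅n, a⁆ ∈ centralizer (B : Set G) :=
        hder (commutator_mem_commutator hn (hAB ha))
      have hb : n * y * n⁻¹ ∈ B := conj_mem_of_mem_normalizer hn (hB.line_le hy)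
      have key : n * ⁅y, a⁆ * n⁻¹ = ⁅n * y * n⁻¹, a⁆ := by
        set c := ⁅n, a⁆ with hcdef
        set b := n * y * n⁻¹ with hbdef
        have hw : a * b⁻¹ * a⁻¹ ∈ B := conj_mem_of_mem_normalizer (hAB ha) (inv_mem hb)
        have e1 : n * a * n⁻¹ = c * a := by
          rw [hcdef, commutatorElement_def]; group
        have e2 : n * ⁅y, a⁆ * n⁻¹ = b * ((n * a * n⁻¹) * b⁻¹ * (n * a * n⁻¹)⁻¹) := by
          rw [hbdef, commutatorElement_def]; group
        rw [e2, e1, show (c * a) * b⁻¹ * (c * a)⁻¹ = c * (a * b⁻¹ * a⁻¹) * c⁻¹ by group,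
          ← mem_centralizer_iff.1 hc _ hw, commutatorElement_def]
        group
      rw [← map_conj_eq_self_iff]
      refine Subgroup.eq_of_le_of_card_ge ?_ (card_map_conj Y n).ge
      rw [← hgen, MonoidHom.map_zpowers, zpowers_le, hgen]
      simp only [MulEquiv.coe_toMonoidHom, MulAut.conj_apply]
      rw [key]
      exact hBO (commutator_mem_commutator hb ha)
    exact hqH (sigma_of_sylow_top F hQtop hQH hQne (hNQB.trans (hNNY.trans hNY)))
  -- otherwise `Q` does not centralize `Y`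
  have hQY : ¬ Q ≤ centralizer (Y : Set G) := fun hc => hQH (hc.trans hCYH)
  obtain ⟨R, hQR, hR⟩ := exists_isSylowIn_ge (inf_le_right.trans hCYH : Q ⊓ centralizer (Y : Set G) ≤ H)
    (hQtop.isPGroup.to_le inf_le_left)
  obtain ⟨-, B, hBR, hB⟩ := hYsyl R hR
  obtain ⟨z, hzQ, hzc, hzo⟩ := exists_central_of_isPGroup hQtop.isPGroup hQne
  have hzR : z ∈ R := hQR ⟨hzQ, centralizer_le hYQ hzc⟩
  have hzB : z ∈ B := (hB.pow_eq_one_iff hG F hR hBR hzR).1 (hzo ▸ pow_orderOf_eq_one z)
  have hzY : z ∉ Y := fun hzY => hQY (by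
    rw [← zpowers_eq_of_card hYc hzY (fun e => by
      rw [e, orderOf_one] at hzo
      exact (Fact.out : q.Prime).one_lt.ne hzo), centralizer_zpowers]
    exact fun x hx => mem_centralizer_singleton_iff.2 (mem_centralizer_iff.1 hzc x hx))
  have hBeq : Y ⊔ zpowers z = B := sup_zpowers_eq_of_not_mem hB.card hB.line_le hYc hzB hzY
  have hBQ : B ≤ Q := hBeq ▸ sup_le hYQ (zpowers_le.2 hzQ)
  set Zl := B ⊓ centralizer (Q : Set G) with hZl
  have hzZl : z ∈ Zl := ⟨hzB, hzc⟩
  have hAZn : A ≤ normalizer (Zl : Set G) :=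
    hAQ.trans (le_normalizer_inf_centralizer_self hB.elem (hB.maxElem hG F) hBQ)
  have hZY : ∀ w ∈ Zl, w ∈ Y → w = 1 := by
    intro w hw hwY
    by_contra hw1
    refine hQY ?_
    rw [← zpowers_eq_of_card hYc hwY hw1, centralizer_zpowers]
    exact fun x hx => mem_centralizer_singleton_iff.2 (mem_centralizer_iff.1 hw.2 x hx)
  have hAZ : A ≤ centralizer (Zl : Set G) := by
    rw [← le_centralizer_iff, ← commutator_eq_bot_iff_le_centralizer, eq_bot_iff]
    intro x hx
    have hxZ := commutator_le_of_normalizer hAZn hx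
    have hxO := hE.commutator_le_keyCore hG F hqH
      ((isPGroup_of_isElementaryAbelian hB.elem).to_le inf_le_left)
      ((inf_le_left : Zl ≤ B).trans hB.le) hAZn hx
    exact hZY x hxZ (hYuniq x hxO (hB.elem.2 x hxZ.1))
  obtain ⟨A₃, hA₃, hA₃c, hYA₃⟩ := exists_centralizing_line h.elem h.card (hAH.trans hHY) hYc hqp
  have hA₃B : A₃ ≤ centralizer (B : Set G) := by
    rw [le_centralizer_iff, ← hBeq]
    exact sup_le hYA₃ (zpowers_le.2 ((le_centralizer_iff.1 (hA₃.trans hAZ)) hzZl))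
  have hA₃Q : A₃ ≤ centralizer (Q : Set G) := by
    refine Stab.le_centralizer_of_nilpotent_faithful hQtop.isPGroup.isNilpotent (hA₃.trans hAQ)
      (coprime_card_of_not_dvd (hAp.to_le hA₃) (ne_of_dvd_sigma hQtop.isPGroup hqp)) ?_
    refine le_inf inf_le_left fun x hx => ?_
    have hx' : x ∈ Q ⊓ centralizer (B : Set G) :=
      ⟨hx.1, centralizer_le (le_inf hBQ (le_centralizer_iff.1 hA₃B)) hx.2⟩
    rw [mem_centralizer_iff]
    intro a ha
    refine (Stab.commute_of_fix_prime_order hq2 (P := Q ⊓ centralizer (B : Set G))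
      (hQtop.isPGroup.to_le inf_le_left) (hAq a (hA₃ ha)) ?_ (fun w hw hwq => ?_) x hx').eq
    · exact ConjFunctor.mem_normalizer_of_forall_conj_mem fun w hw =>
        mem_inf.2 ⟨conj_mem_of_mem_normalizer (hAQ (hA₃ ha)) hw.1,
          conj_mem_centralizer (centralizer_le_normalizer _ (hA₃B ha)) hw.2⟩
    · have hwR : w ∈ R := hQR ⟨hw.1, centralizer_le hB.line_le hw.2⟩
      exact (mem_centralizer_iff.1 (hA₃B ha) w
        ((hB.pow_eq_one_iff hG F hR hBR hwR).1 hwq)).symm
  obtain ⟨H₃, hH₃, hNA₃, hH₃ne⟩ := h.bad A₃ hA₃ hA₃c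
  have hQH₃ : Q ≤ H₃ :=
    ((le_centralizer_iff.1 hA₃Q).trans (centralizer_le_normalizer _)).trans hNA₃
  have hAH₃ : A ≤ H₃ := ((le_centralizer_self h.elem.1).trans
    ((centralizer_le hA₃).trans (centralizer_le_normalizer _))).trans hNA₃
  by_cases hpH₃ : p ∈ Cfsg.sigma H₃
  · exact hnc ((le_centralizer_of_sigma_line hG F hM h.elem h.card hmax hA₃ hA₃c h.le hH₃ hNA₃
      hH₃ne hpH₃ hqM hqp hQtop.isPGroup hQH₃ hAQ).trans (centralizer_le hDQ))
  have hE₃ : Exceptional p H₃ A A₃ := ⟨hH₃, hpH₃, hAH₃, h.elem, h.card, hA₃, hA₃c, hNA₃⟩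
  by_cases hqH₃ : q ∈ Cfsg.sigma H₃
  · refine hQne (le_bot_iff.1 ?_)
    rw [← hE₃.sigmaCore_inf_sigmaCore hG F hM h.le (Ne.symm hH₃ne)]
    exact le_inf hQS (pGroup_le_sigmaCore F hH₃ hqH₃ hQH₃ hQtop.isPGroup)
  have hO₃ := hE₃.commutator_le_keyCore hG F hqH₃ hQtop.isPGroup hQH₃ hAQ
  have hQAne : ⁅Q, A⁆ ≠ ⊥ := fun hb => hnc
    ((le_centralizer_iff.1 ((commutator_eq_bot_iff_le_centralizer).1 hb)).trans (centralizer_le hDQ))
  obtain ⟨Y₃, -, -, -, -, -, -, hY₃, -⟩ :=
    hE₃.exists_keyLine hG F hqH₃ fun hb => hQAne (le_bot_iff.1 (hb ▸ hO₃))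
  have hQ₃ : IsSylowIn q Q H₃ := isSylowIn_sylowTop_le hQtop hQH₃
  obtain ⟨-, B₃, hB₃Q, hB₃⟩ := hY₃ Q hQ₃
  haveI := hB₃.isMulCommutative_sylow hG F hQ₃ hB₃Q
  exact hQY ((le_centralizer_self inferInstance).trans (centralizer_le hYQ))

/-- `A` centralizes `O_{p'}(M_σ)`. -/
theorem BadPlane.le_centralizer_core [Fact p.Prime] {M A : Subgroup G} (h : BadPlane p M A) :
    A ≤ centralizer ((Cfsg.piCoreOf {s | s ≠ p} (Cfsg.sigmaCore M) : Subgroup G) : Set G) := by
  set K := Cfsg.piCoreOf {s | s ≠ p} (Cfsg.sigmaCore M) with hKdef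
  have hAp := isPGroup_of_isElementaryAbelian h.elem
  have hKS : K ≤ Cfsg.sigmaCore M := piCoreOf_le _ _
  have hAK : A ≤ normalizer (K : Set G) :=
    (h.le.trans (le_normalizer_sigmaCore M)).trans (normalizer_le_normalizer_piCoreOf _ _)
  have hpK : ¬ p ∣ Nat.card K := fun hd => isPiSubgroup_piCoreOf _ _ p Fact.out hd rfl
  haveI := h.elem.1
  haveI := hAp.isNilpotent
  rw [le_centralizer_iff]
  refine Coprime.le_of_forall_inf_centralizer_le (not_isCyclic_of_card_sq h.elem h.card) hAK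
    (coprime_card_of_not_dvd hAp hpK) fun a ha ha1 => ?_
  set C := K ⊓ centralizer ({a} : Set G) with hC
  obtain ⟨H, hH, hNH, hne⟩ :=
    h.bad (zpowers a) (zpowers_le.2 ha) (card_zpowers_of_mem h.elem.2 ha ha1)
  have hAC : A ≤ normalizer (C : Set G) := by
    intro b hb
    refine ConjFunctor.mem_normalizer_of_forall_conj_mem fun x hx => mem_inf.2
      ⟨conj_mem_of_mem_normalizer (hAK hb) hx.1, ?_⟩
    rw [← centralizer_zpowers]
    refine conj_mem_centralizer ?_ (by rw [centralizer_zpowers]; exact hx.2)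
    refine centralizer_le_normalizer _ ?_
    rw [centralizer_zpowers, mem_centralizer_singleton_iff]
    exact setLike_mul_comm (s := A) hb ha
  refine BG4.le_of_sylow_le fun q hq => ?_
  haveI := Fact.mk hq
  obtain ⟨S, hAS⟩ := Coprime.exists_invariant_sylow hAC
    ((coprime_card_of_not_dvd hAp hpK).coprime_dvd_right (card_dvd_of_le inf_le_left))
    (Or.inl inferInstance) q
  refine ⟨S, ?_⟩
  set D := (S : Subgroup C).map C.subtype with hD
  by_cases hqp : q = p
  · subst hqp
    have : D = ⊥ := by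
      refine Subgroup.inf_eq_bot_of_coprime (H := D) (K := D) ?_ ▸ (inf_idem D).symm
      obtain ⟨k, hk⟩ := IsPGroup.iff_card.1 (S.2.map C.subtype)
      have hd : Nat.card D ∣ Nat.card K :=
        (card_dvd_of_le (map_subtype_le _)).trans (card_dvd_of_le inf_le_left)
      rcases Nat.eq_zero_or_pos k with rfl | hk0
      · rw [hk, pow_zero]; exact Nat.coprime_one_left _
      · exact absurd ((hk ▸ dvd_pow_self q hk0.ne').trans hd) hpK
    rw [this]
    exact bot_le
  rw [← le_centralizer_iff]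
  refine h.le_centralizer_of_le_inf hG F (zpowers_le.2 ha)
    (card_zpowers_of_mem h.elem.2 ha ha1) hH hNH hne hqp (S.2.map _)
    ((map_subtype_le _).trans (inf_le_left.trans hKS)) ?_ hAS
  refine (map_subtype_le _).trans (inf_le_right.trans ?_)
  rw [← centralizer_zpowers]
  exact (centralizer_le_normalizer _).trans hNH

/-- `M_α = 1`. -/
theorem BadPlane.alphaCore_eq_bot [Fact p.Prime] {M A : Subgroup G} (h : BadPlane p M A) :
    Cfsg.alphaCore M = ⊥ := by
  obtain ⟨hHall, haσ, -⟩ := F.alphaHall M h.maximal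
  by_contra hne
  obtain ⟨r, hr, hrd⟩ := Nat.exists_prime_and_dvd
    (show Nat.card (Cfsg.alphaCore M) ≠ 1 from fun h1 => hne (Subgroup.card_eq_one.1 h1))
  haveI := Fact.mk hr
  have hra : r ∈ Cfsg.alpha M := hHall.2.1 r hr hrd
  obtain ⟨W, hWM, hW, hWc⟩ := exists_elementary_of_not_pRankLE hra.2
  have hWp := isPGroup_of_isElementaryAbelian hW
  have hWa : W ≤ Cfsg.alphaCore M :=
    le_of_isPiHallOf_normal hHall (le_normalizer_piCoreOf (Cfsg.alpha M) M) hWM
      (isPiSubgroup_of_isPGroup hWp hra)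
  have hrp : r ≠ p := fun e => h.not_alpha hG F (e ▸ hra)
  have hWK : W ≤ Cfsg.piCoreOf {s | s ≠ p} (Cfsg.sigmaCore M) :=
    le_piCoreOf_of_normalPComplement ((F.betaHall M h.maximal).2 p Fact.out
      (dvd_card_of_le_sq h.card h.le) (fun hb => h.not_alpha hG F hb.1)) (hWa.trans haσ)
      (ne_of_dvd_sigma hWp hrp)
  exact not_rankLE_of_not_pRankLE (p := r)
    (not_pRankLE_of_le (hWK.trans (le_centralizer_iff.1 (h.le_centralizer_core hG F))) hW hWc)
    (h.rankLE_two_centralizer hG F)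

/-- `M'` is nilpotent. -/
theorem BadPlane.isNilpotent_derived [Fact p.Prime] {M A : Subgroup G} (h : BadPlane p M A) :
    Group.IsNilpotent (⁅M, M⁆ : Subgroup G) := by
  have h0 : Cfsg.piCore (Cfsg.alpha M) M = ⊥ :=
    (map_eq_bot_iff_of_injective _ M.subtype_injective).1 (h.alphaCore_eq_bot hG F)
  obtain ⟨-, -, hnil⟩ := F.alphaHall M h.maximal
  haveI := hnil
  have hinj : Function.Injective (QuotientGroup.mk' (Cfsg.piCore (Cfsg.alpha M) M)) := by
    rw [← MonoidHom.ker_eq_bot_iff, QuotientGroup.ker_mk', h0]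
  haveI : Group.IsNilpotent (commutator M) :=
    Group.nilpotent_of_mulEquiv ((commutator M).equivMapOfInjective _ hinj).symm
  rw [← map_subtype_commutator]
  exact Group.nilpotent_of_mulEquiv ((commutator M).equivMapOfInjective _ M.subtype_injective)

theorem BadPlane.isNilpotent_sigmaCore [Fact p.Prime] {M A : Subgroup G} (h : BadPlane p M A) :
    Group.IsNilpotent (Cfsg.sigmaCore M) :=
  isNilpotent_of_le (sigmaCore_le_derived F hG h.maximal) (h.isNilpotent_derived hG F)

/-- No line of `A` is normal in `M`. -/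
theorem BadPlane.not_normal_line [Fact p.Prime] {M A X : Subgroup G} (h : BadPlane p M A)
    (hXA : X ≤ A) (hX : Nat.card X = p) : ¬ M ≤ normalizer (X : Set G) := by
  intro hn
  obtain ⟨H, hH, hNH, hne⟩ := h.bad X hXA hX
  exact hne (h.maximal.le_iff.1 (hn.trans hNH) |>.resolve_left hH.1)

/-- A central element of order `p` of a Sylow subgroup through `A` does not give a normal line. -/
theorem BadPlane.not_normal_central [Fact p.Prime] {M A P L : Subgroup G} (h : BadPlane p M A)
    (hP : IsSylowIn p P M) (hAP : A ≤ P) (hLP : L ≤ P) (hL : Nat.card L = p) :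
    ¬ M ≤ normalizer (L : Set G) := by
  intro hn
  refine h.not_normal_line hG F (fun x hx => ?_) hL hn
  by_cases hx1 : x = 1
  · exact hx1 ▸ one_mem _
  refine ((h.maxElem hG F).central_mem h.elem hAP ?_ ?_).1
  · exact le_centralizer_iff.1 (le_centralizer_of_card_prime hP.isPGroup hL (hP.le.trans hn)) hx
  · rw [← Nat.card_zpowers, zpowers_eq_of_card hL hx hx1, hL]

theorem BadPlane.centralizer_le_of_sigma [Fact p.Prime] {M A : Subgroup G} (h : BadPlane p M A)
    (hp : p ∈ Cfsg.sigma M) : centralizer (A : Set G) ≤ M := by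
  obtain ⟨P, hAP, hP⟩ := exists_isSylowIn_ge h.le (isPGroup_of_isElementaryAbelian h.elem)
  have hPS : P ≤ Cfsg.sigmaCore M := pGroup_le_sigmaCore F h.maximal hp hP.le hP.isPGroup
  set O := Cfsg.piCoreOf ({p} : Set ℕ) (Cfsg.sigmaCore M) with hO
  have hPO : P ≤ O := nilpotent_le_piCoreOf (h.isNilpotent_sigmaCore hG F) hPS
    (isPiSubgroup_of_isPGroup hP.isPGroup rfl)
  have hOP : O = P := hP.eq_of_le hPO ((piCoreOf_le _ _).trans (sigmaCore_le M))
    (isPGroup_of_isPiSubgroup (isPiSubgroup_piCoreOf _ _))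
  have hMP : M ≤ normalizer (P : Set G) :=
    hOP ▸ (le_normalizer_sigmaCore M).trans (normalizer_le_normalizer_piCoreOf _ _)
  set W := A ⊓ centralizer (P : Set G) with hW
  have hMW : M ≤ normalizer (W : Set G) :=
    hMP.trans (le_normalizer_inf_centralizer_self h.elem (h.maxElem hG F) hAP)
  have hPne : P ≠ ⊥ := fun hb => ne_bot_of_card_sq h.card (le_bot_iff.1 (hb ▸ hAP))
  obtain ⟨z, hzP, hzc, hzo⟩ := exists_central_of_isPGroup hP.isPGroup hPne
  have hzW : z ∈ W := (h.maxElem hG F).central_mem h.elem hAP hzc hzo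
  have hWne : W ≠ ⊥ := fun hb => by
    rw [hb, mem_bot] at hzW
    rw [hzW, orderOf_one] at hzo
    exact (Fact.out : p.Prime).one_lt.ne hzo
  have hWA : W = A := by
    refine (inf_le_left : W ≤ A).eq_or_lt.resolve_right fun hlt => ?_
    exact h.not_normal_line hG F hlt.le (card_eq_of_lt_of_ne_bot h.card hlt hWne) hMW
  rw [hWA] at hMW
  exact (centralizer_le_normalizer _).trans ((h.maximal.le_iff.1 hMW).resolve_left
    (minSimple_normalizer_ne_top hG (ne_bot_of_card_sq h.card)
      (minSimple_ne_top_of_isPGroup hG (isPGroup_of_isElementaryAbelian h.elem)))).le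

/-- `p ∈ σ(M)` for a plane none of whose lines determines `M`. -/
theorem BadPlane.sigma [Fact p.Prime] {M A : Subgroup G} (h : BadPlane p M A) :
    p ∈ Cfsg.sigma M := by
  by_contra hp
  have hM := h.maximal
  have hAp := isPGroup_of_isElementaryAbelian h.elem
  have hmax := h.maxElem hG F
  have hpM : p ∣ Nat.card M := dvd_card_of_le_sq h.card h.le
  have hp2 : p ≠ 2 := minSimple_prime_ne_two_subgroup hG hpM
  set S := Cfsg.sigmaCore M with hS
  have hSne : S ≠ ⊥ := sigmaCore_ne_bot F hG hM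
  have hAS : A ≤ centralizer (S : Set G) := by
    refine (h.le_centralizer_core hG F).trans (centralizer_le ?_)
    refine le_piCoreOf le_rfl le_normalizer fun r hr hd e => ?_
    exact not_dvd_card_sigmaCore hp (show p ∣ Nat.card S from e ▸ hd)
  obtain ⟨P, hAP, hP⟩ := exists_isSylowIn_ge h.le hAp
  set O := Cfsg.piCoreOf ({p} : Set ℕ) M with hO
  have hOp : IsPGroup p O := isPGroup_of_isPiSubgroup (isPiSubgroup_piCoreOf _ _)
  have hMO : M ≤ normalizer (O : Set G) := le_normalizer_piCoreOf _ M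
  have hOP : O ≤ P := le_sup_right.trans (le_of_isPGroup_of_le_sylowIn hP
    (hP.isPGroup.to_sup_of_normal_right' hOp (hP.le.trans hMO)) le_sup_left
    (sup_le hP.le (piCoreOf_le _ M)))
  have hMne : M ≠ ⊤ := hM.1
  by_cases hOne : O = ⊥
  swap
  · -- the elements of order `p` in the centre of `O`
    set Z := O ⊓ centralizer (O : Set G) with hZdef
    haveI hZcomm : IsMulCommutative Z := le_centralizer_iff_isMulCommutative.1
      (inf_le_right.trans (centralizer_le inf_le_left))
    let B : Subgroup G :=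
      { carrier := {x | x ∈ Z ∧ x ^ p = 1}
        one_mem' := ⟨one_mem _, one_pow p⟩
        mul_mem' := fun {a b} ha hb => ⟨mul_mem ha.1 hb.1, by
          rw [Commute.mul_pow (setLike_mul_comm (s := Z) ha.1 hb.1), ha.2, hb.2, one_mul]⟩
        inv_mem' := fun {a} ha => ⟨inv_mem ha.1, by rw [inv_pow, ha.2, inv_one]⟩ }
    have hBZ : B ≤ Z := fun x hx => hx.1
    have hBP : B ≤ P := (hBZ.trans inf_le_left).trans hOP
    have hBM : B ≤ M := hBP.trans hP.le
    have hBe : Cfsg.IsElementaryAbelian p B :=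
      ⟨⟨⟨fun a b => Subtype.ext (setLike_mul_comm (s := Z) a.2.1 b.2.1)⟩⟩, fun x hx => hx.2⟩
    have hBn : M ≤ normalizer (B : Set G) := by
      intro g hg
      refine ConjFunctor.mem_normalizer_of_forall_conj_mem fun x hx => ⟨⟨?_, ?_⟩, ?_⟩
      · exact conj_mem_of_mem_normalizer (hMO hg) hx.1.1
      · exact conj_mem_centralizer (hMO hg) hx.1.2
      · rw [conj_pow, hx.2]; group
    obtain ⟨z, hz, hzc, hzo⟩ := exists_central_of_isPGroup hOp hOne
    have hzB : z ∈ B := ⟨⟨hz, hzc⟩, hzo ▸ pow_orderOf_eq_one z⟩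
    have hBne : B ≠ ⊥ := fun hb => by
      rw [hb, mem_bot] at hzB
      rw [hzB, orderOf_one] at hzo
      exact (Fact.out : p.Prime).one_lt.ne hzo
    obtain ⟨k, hk⟩ := IsPGroup.iff_card.1 (isPGroup_of_isElementaryAbelian hBe)
    have h0 : k ≠ 0 := fun h0 => hBne (Subgroup.card_eq_one.1 (by rw [hk, h0, pow_zero]))
    have h1 : k ≠ 1 := fun h1 =>
      h.not_normal_central hG F hP hAP hBP (by rw [hk, h1, pow_one]) hBn
    have h2 : k ≤ 2 := by
      by_contra h3
      exact not_pRankLE_of_le hBM hBe (hk ▸ Nat.pow_le_pow_right (Fact.out : p.Prime).pos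
        (by omega : 2 + 1 ≤ k)) (pRankLE_two_of_not_sigma F hM hp)
    have hBc : Nat.card B = p ^ 2 := by rw [hk, show k = 2 by omega]
    have hNB : normalizer (B : Set G) = M :=
      (hM.le_iff.1 hBn).resolve_left (minSimple_normalizer_ne_top hG hBne
        fun ht => hMne (top_le_iff.1 (ht ▸ hBM)))
    by_cases hPB : P ≤ centralizer (B : Set G)
    · have hBA : B = A := by
        refine Subgroup.eq_of_le_of_card_ge (fun x hx => ?_) (hBc.trans h.card.symm).ge
        exact hmax.mem h.elem hx.2 (le_centralizer_iff.1 (hAP.trans hPB) hx)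
      obtain ⟨g, hg, hgM⟩ := not_normalizer_le hpM hp hP
      refine hgM (hNB.le ?_)
      have := le_normalizer_inf_centralizer_self h.elem hmax hAP hg
      rwa [inf_eq_left.2 (hBA ▸ le_centralizer_iff.1 hPB), ← hBA] at this
    · obtain ⟨u, hu, hun⟩ := SetLike.not_le_iff_exists.1 hPB
      have hup : IsPGroup p (zpowers u) := hP.isPGroup.to_le (zpowers_le.2 hu)
      refine h.not_normal_central hG F hP hAP ((inf_le_left : B ⊓ _ ≤ B).trans hBP)
        (card_inf_centralizer_eq hBe hBc (hBn (hP.le hu)) hup hun) ?_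
      exact le_normalizer_inf_centralizer (minSimple_solvable hG hMne)
        (minSimple_odd_subgroup hG M) hBe hBc hBn (hP.le hu) hup hun
  -- now `p` does not divide `|M'|`
  have hder := h.isNilpotent_derived hG F
  have hAder : A ⊓ ⁅M, M⁆ = ⊥ := by
    rw [eq_bot_iff, ← hOne]
    have h1 : Cfsg.piCoreOf ({p} : Set ℕ) ⁅M, M⁆ ≤ O :=
      le_piCoreOf ((piCoreOf_le _ _).trans (commutator_le_self M))
        ((le_normalizer_commutator_self M).trans (normalizer_le_normalizer_piCoreOf _ _))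
        (isPiSubgroup_piCoreOf _ _)
    exact (nilpotent_le_piCoreOf hder inf_le_right
      (isPiSubgroup_of_isPGroup (π := ({p} : Set ℕ)) (hAp.to_le inf_le_left) rfl)).trans h1
  have hNMA : ∀ n ∈ M, n ∈ normalizer (A : Set G) → n ∈ centralizer (A : Set G) := by
    intro n hnM hn
    rw [mem_centralizer_iff]
    intro a ha
    have h1 : ⁅n, a⁆ ∈ A ⊓ ⁅M, M⁆ := mem_inf.2 ⟨by
      rw [commutatorElement_def]
      exact mul_mem (conj_mem_of_mem_normalizer hn ha) (inv_mem ha),
      commutator_mem_commutator hnM (h.le ha)⟩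
    rw [hAder, mem_bot] at h1
    exact (commutatorElement_eq_one_iff_mul_comm.1 h1).symm
  -- `N(A) = C(A)` by transitivity
  obtain ⟨q, hq, hqS⟩ := Nat.exists_prime_and_dvd
    (show Nat.card S ≠ 1 from fun h1 => hSne (Subgroup.card_eq_one.1 h1))
  haveI := Fact.mk hq
  have hqM : q ∈ Cfsg.sigma M := isPiSubgroup_sigmaCore M q hq hqS
  have hqp : q ≠ p := fun e => hp (e ▸ hqM)
  set Q := Cfsg.piCoreOf ({q} : Set ℕ) S with hQdef
  obtain ⟨T, hT⟩ := exists_isSylowIn (p := q) M
  have hTQ : T ≤ Q := nilpotent_le_piCoreOf (h.isNilpotent_sigmaCore hG F)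
    (pGroup_le_sigmaCore F hM hqM hT.le hT.isPGroup) (isPiSubgroup_of_isPGroup hT.isPGroup rfl)
  have hQT : Q = T := hT.eq_of_le hTQ ((piCoreOf_le _ _).trans (sigmaCore_le M))
    (isPGroup_of_isPiSubgroup (isPiSubgroup_piCoreOf _ _))
  have hQne : Q ≠ ⊥ := hQT ▸ sylowIn_ne_bot hT (dvd_card_of_sigma hqM)
  have hQtop : IsSylowIn q Q ⊤ := hQT ▸ isSylowIn_top_of_sigma F hM hqM hT
  have hMQ : M ≤ normalizer (Q : Set G) :=
    (le_normalizer_sigmaCore M).trans (normalizer_le_normalizer_piCoreOf _ _)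
  have hNQ : normalizer (Q : Set G) ≤ M := ((hM.le_iff.1 hMQ).resolve_left
    (minSimple_normalizer_ne_top hG hQne (minSimple_ne_top_of_isPGroup hG hQtop.isPGroup))).le
  have hQC : Q ≤ centralizer (A : Set G) :=
    (piCoreOf_le _ _).trans (le_centralizer_iff.1 hAS)
  have hAne : A ≠ ⊥ := ne_bot_of_card_sq h.card
  have hCne : centralizer (A : Set G) ≠ ⊤ := minSimple_centralizer_subgroup_ne_top hG hAne
  have hNC : normalizer (A : Set G) ≤ centralizer (A : Set G) := by
    intro n hn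
    set Q₂ := Q.map (MulAut.conj n).toMonoidHom with hQ₂
    have hQ₂C : Q₂ ≤ centralizer (A : Set G) := by
      refine (map_mono hQC).trans (le_of_eq ?_)
      rw [map_conj_centralizer]
      congr 1
      have := congrArg (fun K : Subgroup G => (K : Set G)) (map_conj_eq_self_iff.2 hn)
      simp only [coe_map] at this
      exact this
    have hQ₂top : IsSylowIn q Q₂ ⊤ := by
      have := hQtop.cj n
      rwa [Subgroup.map_top_of_surjective _ (MulAut.conj n).surjective] at this
    have hnQ : A ≤ normalizer (Q : Set G) := h.le.trans hMQ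
    have hnQ₂ : A ≤ normalizer (Q₂ : Set G) :=
      (le_centralizer_iff.1 hQ₂C).trans (centralizer_le_normalizer _)
    have hqA : ¬ q ∣ Nat.card A := by
      rw [h.card]
      exact fun hd => hqp ((Nat.prime_dvd_prime_iff_eq Fact.out Fact.out).1
        (hq.dvd_of_dvd_pow hd))
    obtain ⟨c, hc, e⟩ := transHyp_meet_conj hG
      (transitivityHypothesis_of_maxElem hG F h.elem hmax (hpM.trans (card_subgroup_dvd_card M)))
      hq hqA (mem_maxInv_of_sylow hQtop hnQ) (mem_maxInv_of_sylow hQ₂top hnQ₂) hCne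
      (le_centralizer_self h.elem.1) (by rw [inf_eq_right.2 hQC]; exact hQne)
      (by rw [inf_eq_right.2 hQ₂C]; exact fun hb => hQne (by
        rwa [hQ₂, map_eq_bot_iff_of_injective _ (MulAut.conj n).injective] at hb))
    have hcA : c ∈ centralizer (A : Set G) := piCoreOf_le _ _ hc
    have hm : c⁻¹ * n ∈ normalizer (Q : Set G) := by
      rw [← map_conj_eq_self_iff, ← map_conj_map_conj, ← hQ₂, e, map_conj_map_conj,
        inv_mul_cancel, map_conj_one]
    have := hNMA _ (hNQ hm) (mul_mem (inv_mem (centralizer_le_normalizer _ hcA)) hn)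
    simpa using mul_mem hcA this
  -- the Sylow subgroup of `G` has all its elements of order `p` in its centre
  obtain ⟨Sp, hPSp, hSp⟩ := exists_isSylowIn_ge (le_top : P ≤ ⊤) hP.isPGroup
  have hASp : A ≤ Sp := hAP.trans hPSp
  have hcent : Sp ≤ centralizer (A : Set G) := by
    have heq : Sp ⊓ centralizer (A : Set G) = Sp := by
      refine (inf_le_left : Sp ⊓ centralizer (A : Set G) ≤ Sp).eq_or_lt.resolve_right fun hlt => ?_
      refine (ConjFunctor.lt_inf_normalizer hSp.isPGroup hlt).not_ge fun n hn => ?_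
      refine mem_inf.2 ⟨hn.1, hNC (ConjFunctor.mem_normalizer_of_forall_conj_mem fun a ha => ?_)⟩
      have h1 := conj_mem_of_mem_normalizer hn.2
        (mem_inf.2 ⟨hASp ha, le_centralizer_self h.elem.1 ha⟩)
      exact hmax.mem h.elem (by rw [conj_pow, h.elem.2 a ha]; group) (mem_inf.1 h1).2
    rw [← heq]
    exact inf_le_right
  have homega : ∀ x ∈ Sp, x ^ p = 1 → x ∈ A := fun x hx hxp => hmax.mem h.elem hxp (hcent hx)
  have hrk : Cfsg.PRankLE p 2 Sp := by
    by_contra hr
    obtain ⟨B, hBS, hB, hBc⟩ := exists_elementary_of_not_pRankLE hr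
    have hd := card_dvd_of_le (fun x hx => homega x (hBS hx) (hB.2 x hx) : B ≤ A)
    have hle := hBc.trans (Nat.le_of_dvd Nat.card_pos hd)
    rw [h.card] at hle
    have := (Nat.pow_le_pow_iff_right (Fact.out : p.Prime).one_lt).1 hle
    omega
  let P' : Sylow p G := hSp.isPGroup.toSylow (show ¬ p ∣ Sp.index by
    have := hSp.not_dvd
    rwa [relIndex_top_right] at this)
  have hP' : (P' : Subgroup G) = Sp := rfl
  haveI hab : IsMulCommutative Sp := by
    rcases F.rankTwoSylow p P' hrk with h1 | ⟨P₁, P₂, hsup, -, hnab, -, hexp, -, -⟩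
    · exact h1
    · refine absurd ⟨⟨fun a b => Subtype.ext ?_⟩⟩ hnab
      have hmem : ∀ x : P₁, (x : G) ∈ A := fun x => by
        refine homega x (hP' ▸ hsup ▸ mem_sup_left x.2) ?_
        have := Monoid.pow_exponent_eq_one x
        rw [hexp] at this
        simpa using congrArg Subtype.val this
      haveI := h.elem.1
      exact setLike_mul_comm (s := A) (hmem a) (hmem b)
  have hPA : normalizer (Sp : Set G) ≤ normalizer (A : Set G) := by
    have := le_normalizer_inf_centralizer_self h.elem hmax hASp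
    rwa [inf_eq_left.2 (le_centralizer_iff.1 hcent)] at this
  have hburn : normalizer ((P' : Subgroup G) : Set G) ≤ centralizer (P' : Set G) := by
    intro n hn
    change n ∈ normalizer (Sp : Set G) at hn
    obtain ⟨k, m, hm, hkm⟩ := Nat.exists_eq_pow_mul_and_not_dvd (orderOf_pos n).ne' p
      (Fact.out : p.Prime).ne_one
    have hy : n ^ p ^ k ∈ centralizer (Sp : Set G) := by
      rw [mem_centralizer_iff]
      intro x hx
      have hco : (orderOf (n ^ p ^ k)).Coprime p := by
        rw [orderOf_pow, hkm, Nat.gcd_eq_right (dvd_mul_right _ _),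
          Nat.mul_div_cancel_left _ (pow_pos (Fact.out : p.Prime).pos k)]
        exact ((Fact.out : p.Prime).coprime_iff_not_dvd.2 hm).symm
      refine (Stab.commute_of_fix_prime_order hp2 hSp.isPGroup hco (pow_mem hn _)
        (fun y hy hyp => ?_) x hx).eq.symm
      exact (mem_centralizer_iff.1 (hNC (hPA (pow_mem hn _))) y (homega y hy hyp)).symm
    have hz : n ^ m ∈ centralizer (Sp : Set G) := by
      have hzp : IsPGroup p (zpowers (n ^ m)) := by
        refine IsPGroup.iff_card.2 ⟨k, ?_⟩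
        rw [Nat.card_zpowers, orderOf_pow, hkm, Nat.gcd_eq_right (dvd_mul_left _ _),
          Nat.mul_div_cancel _ (Nat.pos_of_ne_zero fun h0 => hm (by rw [h0]; exact dvd_zero p))]
      have hle := le_of_isPGroup_of_le_sylowIn hSp
        (hzp.to_sup_of_normal_right' hSp.isPGroup (zpowers_le.2 (pow_mem hn _))) le_sup_right le_top
      exact le_centralizer_self hab (hle (mem_sup_left (mem_zpowers _)))
    have hb := Nat.gcd_eq_gcd_ab (p ^ k) m
    rw [(((Fact.out : p.Prime).coprime_iff_not_dvd.2 hm).pow_left k).gcd_eq_one] at hb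
    have : n = (n ^ p ^ k) ^ Nat.gcdA (p ^ k) m * (n ^ m) ^ Nat.gcdB (p ^ k) m := by
      rw [← zpow_natCast n (p ^ k), ← zpow_natCast n m, ← zpow_mul, ← zpow_mul, ← zpow_add, ← hb]
      simp
    rw [this]
    exact mul_mem (zpow_mem hy _) (zpow_mem hz _)
  have hcompl := MonoidHom.ker_transferSylow_isComplement' P' hburn
  rcases minSimple_normal_eq_bot_or_top hG
    (inferInstance : (MonoidHom.transferSylow P' hburn).ker.Normal) with hb | ht
  · rw [hb, isComplement'_bot_left] at hcompl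
    exact minSimple_ne_top_of_isPGroup hG hSp.isPGroup hcompl
  · rw [ht, isComplement'_top_left] at hcompl
    exact hAne (le_bot_iff.1 ((hP'.symm.trans hcompl) ▸ hASp))

omit F in
theorem badPlane_of_no_line [Fact p.Prime] {M A : Subgroup G} (hM : IsCoatom M) (hAM : A ≤ M)
    (hA : Cfsg.IsElementaryAbelian p A) (hc : Nat.card A = p ^ 2)
    (h : ∀ A₀ : Subgroup G, A₀ ≤ A → Nat.card A₀ = p →
      ¬ (normalizer (A₀ : Set G) ≤ M ∧
        ∀ L : Subgroup G, IsCoatom L → normalizer (A₀ : Set G) ≤ L → L = M)) :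
    BadPlane p M A := by
  refine ⟨hM, hAM, hA, hc, fun X hX hXc => ?_⟩
  obtain ⟨H, hH, hNH⟩ := minSimple_exists_coatom hG
    (minSimple_normalizer_ne_top hG (ne_bot_of_card_prime hXc)
      (minSimple_ne_top_of_isPGroup hG ((isPGroup_of_isElementaryAbelian hA).to_le hX)))
  by_cases hN : normalizer (X : Set G) ≤ M
  · by_contra hno
    exact h X hX hXc ⟨hN, fun L hL hNL => not_not.1 fun hne => hno ⟨L, hL, hNL, hne⟩⟩
  · exact ⟨H, hH, hNH, fun e => hN (e ▸ hNH)⟩

/-- BG 12.4(a): `C(A) ≤ M`. -/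
theorem centralizer_plane_le [Fact p.Prime] {M A : Subgroup G} (hM : IsCoatom M) (hAM : A ≤ M)
    (hA : Cfsg.IsElementaryAbelian p A) (hc : Nat.card A = p ^ 2) :
    centralizer (A : Set G) ≤ M := by
  by_cases hl : ∃ A₀ : Subgroup G, A₀ ≤ A ∧ Nat.card A₀ = p ∧ normalizer (A₀ : Set G) ≤ M
  · obtain ⟨A₀, hA₀, -, hN⟩ := hl
    exact ((centralizer_le hA₀).trans (centralizer_le_normalizer _)).trans hN
  · have h : BadPlane p M A := badPlane_of_no_line hG hM hAM hA hc
      fun A₀ hA₀ hA₀c hh => hl ⟨A₀, hA₀, hA₀c, hh.1⟩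
    exact h.centralizer_le_of_sigma hG F (h.sigma hG F)

/-- For `p ∉ σ(M)` every plane of `M` makes `M` exceptional. -/
theorem exists_exceptional [Fact p.Prime] {M A : Subgroup G} (hM : IsCoatom M) (hAM : A ≤ M)
    (hp : p ∉ Cfsg.sigma M) (hA : Cfsg.IsElementaryAbelian p A) (hc : Nat.card A = p ^ 2) :
    ∃ A₀, Exceptional p M A A₀ ∧
      ∀ L : Subgroup G, IsCoatom L → normalizer (A₀ : Set G) ≤ L → L = M := by
  by_contra hno
  refine hp (BadPlane.sigma hG F (badPlane_of_no_line hG hM hAM hA hc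
    fun A₀ hA₀ hA₀c hh => hno ⟨A₀, ⟨hM, hp, hAM, hA, hc, hA₀, hA₀c, hh.1⟩, hh.2⟩))

end CfsgLib.OddOrder.BG12
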