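import Cfsg.Agent.OddOrder.BG12.Abelian
import Cfsg.Agent.OddOrder.BG12.OtherMaximal
import Cfsg.Agent.Coprime.Generation
import Cfsg.Agent.OddOrder.BG13.Fixed

/-!
# BG 12.9: invariant lines acting freely on `M_σ`, abelian Sylow case
-/

set_option autoImplicit false
set_option linter.style.haveILetI false
set_option linter.unusedSectionVars false
set_option maxHeartbeats 800000

namespace CfsgLib.OddOrder.BG12

open Cfsg Subgroup CfsgLib.OddOrder.BG11
open CfsgLib.ConjFunctor (IsSylowIn exists_isSylowIn_ge)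
open scoped commutatorElement

variable {G : Type*} [Group G] [Finite G] {p r : ℕ} {M E A A₀ : Subgroup G}

/-- Three invariant lines make an element scalar on a plane. -/
theorem mem_normalizer_of_three_lines [Fact p.Prime] (hA : Cfsg.IsElementaryAbelian p A)
    (hc : Nat.card A = p ^ 2) {x : G} {L₁ L₂ L₃ : Subgroup G} (h₁ : L₁ ≤ A) (h₂ : L₂ ≤ A)
    (h₃ : L₃ ≤ A) (c₁ : Nat.card L₁ = p) (c₂ : Nat.card L₂ = p) (c₃ : Nat.card L₃ = p)
    (n₁₂ : L₁ ≠ L₂) (n₁₃ : L₁ ≠ L₃) (n₂₃ : L₂ ≠ L₃) (x₁ : x ∈ normalizer (L₁ : Set G))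
    (x₂ : x ∈ normalizer (L₂ : Set G)) (x₃ : x ∈ normalizer (L₃ : Set G)) {L : Subgroup G}
    (hL : L ≤ A) : x ∈ normalizer (L : Set G) := by
  haveI := hA.1
  have hcomm : ∀ {a b : G}, a ∈ A → b ∈ A → Commute a b := fun ha hb =>
    setLike_mul_comm (s := A) ha hb
  obtain ⟨z, hz, hz1⟩ := exists_mem_ne_one_of_card c₃
  have hsup : L₁ ⊔ L₂ = A := sup_eq_of_card hc h₁ c₁ h₂ c₂ n₁₂
  have hn : L₁ ≤ normalizer (L₂ : Set G) := fun a ha => centralizer_le_normalizer _
    (mem_centralizer_iff.2 fun b hb => (hcomm (h₁ ha) (h₂ hb)).eq.symm)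
  have hz' : z ∈ ((L₁ ⊔ L₂ : Subgroup G) : Set G) := hsup.symm ▸ h₃ hz
  rw [coe_mul_of_left_le_normalizer_right _ _ hn] at hz'
  obtain ⟨a, ha, b, hb, rfl⟩ := hz'
  simp only at hz hz1
  have ha1 : a ≠ 1 := fun e => by
    subst e
    rw [one_mul] at hz hz1
    exact n₂₃ ((zpowers_eq_of_card c₂ hb hz1).symm.trans (zpowers_eq_of_card c₃ hz hz1))
  have hb1 : b ≠ 1 := fun e => by
    subst e
    rw [mul_one] at hz hz1
    exact n₁₃ ((zpowers_eq_of_card c₁ ha hz1).symm.trans (zpowers_eq_of_card c₃ hz hz1))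
  have hdis : ∀ w, w ∈ L₁ → w ∈ L₂ → w = 1 := fun w hw hw' => by
    by_contra h
    exact n₁₂ ((zpowers_eq_of_card c₁ hw h).symm.trans (zpowers_eq_of_card c₂ hw' h))
  obtain ⟨s, hs⟩ : x * a * x⁻¹ ∈ zpowers a := by
    rw [zpowers_eq_of_card c₁ ha ha1]; exact (mem_normalizer_iff.1 x₁ a).1 ha
  obtain ⟨t, ht⟩ : x * b * x⁻¹ ∈ zpowers b := by
    rw [zpowers_eq_of_card c₂ hb hb1]; exact (mem_normalizer_iff.1 x₂ b).1 hb
  obtain ⟨u, hu⟩ : x * (a * b) * x⁻¹ ∈ zpowers (a * b) := by
    rw [zpowers_eq_of_card c₃ hz hz1]; exact (mem_normalizer_iff.1 x₃ _).1 hz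
  simp only at hs ht hu
  have hab : Commute a b := hcomm (h₁ ha) (h₂ hb)
  have he : a ^ u * b ^ u = a ^ s * b ^ t := by
    rw [← hab.mul_zpow, hu, hs, ht]; group
  have he1 : a ^ (u - s) = b ^ (t - u) := by
    rw [zpow_sub, zpow_sub]
    calc a ^ u * (a ^ s)⁻¹ = (a ^ u * b ^ u) * (b ^ u)⁻¹ * (a ^ s)⁻¹ := by group
      _ = (a ^ s * b ^ t) * (b ^ u)⁻¹ * (a ^ s)⁻¹ := by rw [he]
      _ = a ^ s * (b ^ t * (b ^ u)⁻¹) * (a ^ s)⁻¹ := by group
      _ = b ^ t * (b ^ u)⁻¹ := by
        rw [(show Commute (a ^ s) (b ^ t * (b ^ u)⁻¹) from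
          (hab.zpow_zpow s t).mul_right (hab.zpow_zpow s u).inv_right).eq, mul_inv_cancel_right]
  have hz0 : a ^ (u - s) = 1 :=
    hdis _ (zpow_mem ha _) (he1 ▸ zpow_mem hb _)
  have hau : a ^ u = a ^ s := by
    rw [zpow_sub] at hz0
    exact mul_inv_eq_one.1 hz0
  have hbu : b ^ t = b ^ u := by
    have := he1.symm.trans hz0
    rw [zpow_sub] at this
    exact mul_inv_eq_one.1 this
  refine ConjFunctor.mem_normalizer_of_forall_conj_mem fun w hw => ?_
  have hwA : w ∈ ((L₁ ⊔ L₂ : Subgroup G) : Set G) := hsup.symm ▸ hL hw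
  rw [coe_mul_of_left_le_normalizer_right _ _ hn] at hwA
  obtain ⟨a', ha', b', hb', rfl⟩ := hwA
  obtain ⟨i, rfl⟩ : a' ∈ zpowers a := by rw [zpowers_eq_of_card c₁ ha ha1]; exact ha'
  obtain ⟨j, rfl⟩ : b' ∈ zpowers b := by rw [zpowers_eq_of_card c₂ hb hb1]; exact hb'
  simp only at hw ⊢
  have e : x * (a ^ i * b ^ j) * x⁻¹ = (a ^ i * b ^ j) ^ u := by
    rw [(hab.zpow_zpow i j).mul_zpow, ← zpow_mul, ← zpow_mul, mul_comm i, mul_comm j, zpow_mul,
      zpow_mul, hau, ← hbu, hs, ht, conj_zpow, conj_zpow]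
    group
  rw [e]
  exact zpow_mem hw _

variable (hG : Cfsg.IsMinSimpleOddOrder G) (F : BG10Facts G)
include hG F

/-- A line of `A` fixed by an element outside `M` acts freely on `M_σ`. -/
theorem fixed_eq_bot_of_moved [Fact p.Prime] {L : Subgroup G} (h : Exceptional p M A A₀)
    (hLA : L ≤ A) (hL : Nat.card L = p) {g : G} (hgM : g ∉ M)
    (hg : g ∈ normalizer (L : Set G)) : Cfsg.sigmaCore M ⊓ centralizer (L : Set G) = ⊥ := by
  by_contra hne
  have hCM := centralizer_le_of_fixed hG F h hLA (ne_bot_of_card_prime hL) hne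
  have h1 := eq_of_centralizer_le_plane hG F h hLA hne
    (isCoatom_map_conj h.maximal g) (L := M.map (MulAut.conj g).toMonoidHom) (by
      have h2 := map_mono (f := (MulAut.conj g).toMonoidHom) hCM
      rw [map_conj_centralizer] at h2
      refine le_trans (le_of_eq ?_) h2
      congr 1
      have h3 := congrArg (fun K : Subgroup G => (K : Set G)) (map_conj_eq_self_iff.2 hg)
      simp only [coe_map] at h3
      exact h3.symm)
  rw [← minSimple_normalizer_coatom hG h.maximal] at hgM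
  exact hgM (map_conj_eq_self_iff.1 h1)

/-- In the abelian case a Sylow `p`-subgroup of `E` through `A` is one of `G`. -/
theorem sylow_top_of_abelian [Fact p.Prime] {P : Subgroup G} (h : Exceptional p M A A₀)
    (hE : Cfsg.IsComplIn E (Cfsg.sigmaCore M) M) (hAE : A ≤ E)
    (hab : ∀ S : Subgroup G, IsSylowIn p S ⊤ → IsMulCommutative S) (hP : IsSylowIn p P E) :
    A ≤ P ∧ P ≤ centralizer (A : Set G) ∧ IsSylowIn p P ⊤ := by
  have hPM := isSylowIn_of_compl F hE h.not_sigma hP
  have hAP : A ≤ P := le_sup_right.trans (le_of_isPGroup_of_le_sylowIn hP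
    (hP.isPGroup.to_sup_of_normal_right' (isPGroup_of_isElementaryAbelian h.elem)
      (hP.le.trans (compl_le_normalizer_plane hG F h hE hAE))) le_sup_left (sup_le hP.le hAE))
  obtain ⟨S, hPS, hS⟩ := exists_isSylowIn_ge (le_top : P ≤ ⊤) hP.isPGroup
  haveI := hab S hS
  have hSC : S ≤ centralizer (A : Set G) :=
    (le_centralizer_self inferInstance).trans (centralizer_le (hAP.trans hPS))
  have hSP : S = P :=
    hPM.eq_of_le hPS (hSC.trans (h.centralizer_le_maximal hG F)) hS.isPGroup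
  subst hSP
  exact ⟨hAP, hSC, hS⟩

/-- In the abelian case `N(A)' ≤ C(A)`. -/
theorem derived_normalizer_le [Fact p.Prime] (h : Exceptional p M A A₀)
    (hab : ∀ S : Subgroup G, IsSylowIn p S ⊤ → IsMulCommutative S) :
    ⁅normalizer (A : Set G), normalizer (A : Set G)⁆ ≤ centralizer (A : Set G) := by
  have hNne : normalizer (A : Set G) ≠ ⊤ := minSimple_normalizer_ne_top hG
    (ne_bot_of_card_sq h.card) (minSimple_ne_top_of_isPGroup hG (isPGroup_of_isElementaryAbelian h.elem))
  refine commutator_le_centralizer_of_not_dvd (minSimple_solvable hG hNne)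
    (minSimple_odd_subgroup hG _) h.elem h.card le_rfl fun hd => ?_
  obtain ⟨T, hAT, hT⟩ :=
    exists_isSylowIn_ge (le_top : A ≤ ⊤) (isPGroup_of_isElementaryAbelian h.elem)
  haveI := hab T hT
  have hTC : T ≤ centralizer (A : Set G) :=
    (le_centralizer_self inferInstance).trans (centralizer_le hAT)
  refine (hT.of_le (hTC.trans (centralizer_le_normalizer _)) le_top).not_dvd ?_
  rw [← relIndex_mul_relIndex T _ _ hTC (centralizer_le_normalizer _)]
  exact hd.mul_left _

open scoped IsMulCommutative in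
/-- An element of prime power order of `E`, free on `M_σ`, fixes a line of `A`. -/
theorem exists_fixed_line [Fact p.Prime] [Fact r.Prime] (h : Exceptional p M A A₀)
    (hE : Cfsg.IsComplIn E (Cfsg.sigmaCore M) M) (hAE : A ≤ E)
    (hab : ∀ S : Subgroup G, IsSylowIn p S ⊤ → IsMulCommutative S) (hrM : Cfsg.PRankLE r 1 M)
    (hfree : ∀ e ∈ E, orderOf e = r → Cfsg.sigmaCore M ⊓ centralizer ({e} : Set G) = ⊥) {x : G}
    (hxE : x ∈ E) (hxr : IsPGroup r (zpowers x)) (hrp : r ≠ p) :
    ∃ L : Subgroup G, L ≤ A ∧ Nat.card L = p ∧ x ∈ normalizer (L : Set G) := by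
  by_contra hno
  have hM := h.maximal
  have hAp := isPGroup_of_isElementaryAbelian h.elem
  have hmax := h.maxElem hG F
  have hEA := compl_le_normalizer_plane hG F h hE hAE
  have hxA : x ∈ normalizer (A : Set G) := hEA hxE
  have hxC : x ∉ centralizer (A : Set G) := fun hc => hno
    ⟨A₀, h.line_le, h.line_card, centralizer_le_normalizer _ (centralizer_le h.line_le hc)⟩
  -- an `x`-invariant proper subgroup of `A` is trivial
  have hinv : ∀ V : Subgroup G, V ≤ A → x ∈ normalizer (V : Set G) → V = ⊥ ∨ V = A := by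
    intro V hVA hxV
    rcases hVA.eq_or_lt with h1 | h1
    · exact Or.inr h1
    · by_contra hne
      rw [not_or] at hne
      exact hno ⟨V, hVA, card_eq_of_lt_of_ne_bot h.card h1 hne.1, hxV⟩
  have hx1 : x ≠ 1 := fun e => hxC (e ▸ one_mem _)
  obtain ⟨z, hz, -, hzo⟩ := exists_central_of_isPGroup hxr (fun hb => hx1 (zpowers_eq_bot.1 hb))
  have hzE : z ∈ E := (zpowers_le.2 hxE) hz
  set R₀ := zpowers z with hR₀
  have hR₀c : Nat.card R₀ = r := by rw [hR₀, Nat.card_zpowers, hzo]
  have hxz : Commute x z := by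
    obtain ⟨i, rfl⟩ := mem_zpowers_iff.1 hz
    exact (Commute.refl x).zpow_right i
  have hxR₀ : x ∈ normalizer (R₀ : Set G) := centralizer_le_normalizer _ (by
    rw [hR₀, centralizer_zpowers, mem_centralizer_singleton_iff]; exact hxz)
  have hr2 : r ≠ 2 := minSimple_prime_ne_two_subgroup hG (H := R₀) (by rw [hR₀c])
  have hcopA : r.Coprime (Nat.card A) := by
    rw [h.card]
    exact ((Nat.coprime_primes Fact.out Fact.out).2 hrp).pow_right 2
  -- `z` centralizes `A`
  have hzC : z ∈ centralizer (A : Set G) := by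
    by_contra hzC
    have hle : ⁅A, R₀⁆ ≤ A := commutator_le_of_normalizer ((zpowers_le.2 (hEA hzE)))
    have hxn : x ∈ normalizer ((⁅A, R₀⁆ : Subgroup G) : Set G) :=
      BG13.le_normalizer_commutator_of_inf A R₀ ⟨hxA, hxR₀⟩
    rcases hinv _ hle hxn with h0 | hA'
    · rw [commutator_eq_bot_iff_le_centralizer, le_centralizer_iff] at h0
      exact hzC (h0 (mem_zpowers z))
    · have hcen := commutator_le_centralizer_nilpotent_of_rfix0
        (h.isNilpotent_sigmaCore hG F) (minSimple_solvable hG (minSimple_ne_top_of_isPGroup hG hAp))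
        (zpowers_le.2 (hEA hzE)) (h.le.trans (le_normalizer_sigmaCore M))
        ((zpowers_le.2 (hE.1 hzE)).trans (le_normalizer_sigmaCore M))
        (hR₀c.symm ▸ (Fact.out : r.Prime)) (hR₀c.symm ▸ hr2) (minSimple_odd_subgroup hG A)
        (coprime_card_of_not_dvd hAp (not_dvd_card_sigmaCore h.not_sigma))
        (by
          rw [hR₀c]
          exact coprime_sigmaCore F
            (not_sigma_of_dvd_compl F hM hE Fact.out (hzo ▸ Subgroup.orderOf_dvd_natCard E hzE)))
        (by rw [hR₀c]; exact hcopA)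
        (by rw [centralizer_zpowers]; exact hfree z hzE hzo)
      rw [hA'] at hcen
      refine sigmaCore_ne_bot F hG hM (le_bot_iff.1 ?_)
      rw [← (h.exists_two_fpf hG F).1]
      exact le_inf le_rfl (le_centralizer_iff.1 hcen)
  -- an element outside `M` normalizing `R₀`
  obtain ⟨R, hxR, hR⟩ := exists_isSylowIn_ge (zpowers_le.2 hxE) hxr
  haveI := isCyclic_of_pRankLE_one (hR.le.trans hE.1) hR.isPGroup hr2 hrM
  have hCE : centralizer (A : Set G) ≤ E := by
    rw [← inf_normalizer_plane_eq hG F h hE hAE]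
    exact le_inf (h.centralizer_le_maximal hG F) (centralizer_le_normalizer _)
  have hNC : normalizer (A : Set G) ≤ normalizer (centralizer (A : Set G) : Set G) := fun g hg =>
    ConjFunctor.mem_normalizer_of_forall_conj_mem fun c hc => conj_mem_centralizer hg hc
  obtain ⟨R₁, hzR₁, hR₁⟩ := exists_isSylowIn_ge (zpowers_le.2 hzC)
    (hxr.to_le (zpowers_le.2 hz))
  obtain ⟨R', hR₁R', hR'⟩ := exists_isSylowIn_ge (hR₁.le.trans hCE) hR₁.isPGroup
  haveI := isCyclic_of_pRankLE_one (hR'.le.trans hE.1) hR'.isPGroup hr2 hrM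
  haveI hR₁cyc : IsCyclic R₁ := isCyclic_of_le hR₁R'
  obtain ⟨g, hg, hgM⟩ := SetLike.not_le_iff_exists.1 (not_normalizer_plane_le hG F h)
  have hR₁g : IsSylowIn r (R₁.map (MulAut.conj g).toMonoidHom) (centralizer (A : Set G)) := by
    have h1 := hR₁.cj g
    rwa [map_conj_eq_self_iff.2 (hNC hg)] at h1
  obtain ⟨a, ha, he⟩ := hR₁g.exists_cj_eq hR₁
  have hnR₁ : a⁻¹ * g ∈ normalizer (R₁ : Set G) := by
    rw [← map_conj_eq_self_iff, ← map_conj_map_conj, ← he, map_conj_map_conj, inv_mul_cancel,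
      map_conj_one]
  have hnM : a⁻¹ * g ∉ M := fun hn => hgM (by
    simpa using mul_mem (h.centralizer_le_maximal hG F ha) hn)
  have hnR₀ : a⁻¹ * g ∈ normalizer (R₀ : Set G) :=
    normalizer_le_normalizer_of_le_cyclic hR₁cyc hzR₁ hnR₁
  obtain ⟨H, hH, hNH⟩ := minSimple_exists_coatom hG (minSimple_normalizer_ne_top hG
    (ne_bot_of_card_prime hR₀c) (minSimple_ne_top_of_isPGroup hG (hxr.to_le (zpowers_le.2 hz))))
  have hHM : H ≠ M := fun e => hnM (e ▸ hNH hnR₀)
  have hAH : A ≤ H :=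
    ((le_centralizer_iff.1 (zpowers_le.2 hzC)).trans (centralizer_le_normalizer _)).trans hNH
  have hxH : zpowers x ≤ H := zpowers_le.2 (hNH hxR₀)
  have hzH : R₀ ≤ H := le_normalizer.trans hNH
  have hrH : r ∣ Nat.card H := hR₀c ▸ card_dvd_of_le hzH
  have hxAz : zpowers x ≤ normalizer (A : Set G) := zpowers_le.2 hxA
  have hcopx : (Nat.card (zpowers x)).Coprime (Nat.card A) := by
    obtain ⟨k, hk⟩ := IsPGroup.iff_card.1 hxr
    rw [hk]
    exact hcopA.pow_left k
  have hrank : ∀ L : Subgroup G, Cfsg.PRankLE p 2 L := by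
    intro L
    by_contra hr
    obtain ⟨B, -, hB, hBc⟩ := exists_elementary_of_not_pRankLE hr
    obtain ⟨P, hP⟩ := exists_isSylowIn (p := p) E
    obtain ⟨-, -, hPtop⟩ := sylow_top_of_abelian hG F h hE hAE hab hP
    obtain ⟨g, -, hgB⟩ := hPtop.exists_cj_le le_top (isPGroup_of_isElementaryAbelian hB)
    exact not_pRankLE_of_le ((hgB.trans hP.le).trans hE.1) (isElementaryAbelian_map _ hB)
      (by rw [ConjFunctor.card_cj]; exact hBc) (pRankLE_two_of_not_sigma F hM h.not_sigma)
  by_cases hrs : r ∈ Cfsg.sigma H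
  · by_cases hps : p ∈ Cfsg.sigma H
    · by_cases hra : r ∈ Cfsg.alpha H
      · -- `x` lies in `H_α`, which meets `A` trivially
        have hxα : zpowers x ≤ Cfsg.alphaCore H :=
          le_of_isPiHallOf_normal (F.alphaHall H hH).1 (le_normalizer_piCoreOf (Cfsg.alpha H) H)
            hxH (isPiSubgroup_of_isPGroup hxr hra)
        refine hxC (mem_centralizer_iff.2 fun b hb => ?_)
        have h1 : ⁅x, b⁆ ∈ A ⊓ Cfsg.alphaCore H := by
          refine mem_inf.2 ⟨?_, ?_⟩
          · rw [commutatorElement_def]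
            exact mul_mem (conj_mem_of_mem_normalizer hxA hb) (inv_mem hb)
          · rw [commutatorElement_def, show x * b * x⁻¹ * b⁻¹ = x * (b * x⁻¹ * b⁻¹) by group]
            exact mul_mem (hxα (mem_zpowers x)) (conj_mem_of_mem_normalizer
              (le_normalizer_piCoreOf (Cfsg.alpha H) H (hAH hb))
              (inv_mem (hxα (mem_zpowers x))))
        rw [(inf_eq_bot_of_isPiSubgroup
          (isPiSubgroup_of_isPGroup (π := ({p} : Set ℕ)) hAp rfl)
          (isPiSubgroup_piCoreOf (Cfsg.alpha H) H)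
          (Set.disjoint_singleton_left.2 fun hp => hp.2 (hrank H)) :
            A ⊓ Cfsg.alphaCore H = ⊥), mem_bot,
          commutatorElement_eq_one_iff_mul_comm] at h1
        exact h1.symm
      · exact hxC (le_centralizer_of_betaPrime F hG hH
          ((pGroup_le_sigmaCore F hH hrs hxH hxr).trans (sigmaCore_le_derived F hG hH))
          ((pGroup_le_sigmaCore F hH hps hAH hAp).trans (sigmaCore_le_derived F hG hH)) hxAz
          (isPiSubgroup_of_isPGroup hxr ⟨Fact.out, fun hb => hra hb.1⟩)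
          (isPiSubgroup_of_isPGroup hAp
            ⟨Fact.out, fun hb => not_ideal_of_maxElem h.elem h.card hmax hb.2⟩)
          hcopx (mem_zpowers x))
    · obtain ⟨A₁, hE', -⟩ := exists_exceptional hG F hH hAH hps h.elem h.card
      refine ne_bot_of_card_prime hR₀c (le_bot_iff.1 ?_)
      rw [← (hE'.exists_two_fpf hG F).1]
      exact le_inf (pGroup_le_sigmaCore F hH hrs hzH (hxr.to_le (zpowers_le.2 hz)))
        (zpowers_le.2 hzC)
  · have hr2H : r ∈ Cfsg.tau2 H := by
      refine ⟨Fact.out, hrs, pRankLE_two_of_not_sigma F hH hrs, fun h1 => hrs ?_⟩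
      obtain ⟨T, hzT, hT⟩ := exists_isSylowIn_ge hzH (hxr.to_le (zpowers_le.2 hz))
      exact sigma_of_normalizer_le hrH hT ((normalizer_le_normalizer_of_le_cyclic
        (isCyclic_of_pRankLE_one hT.le hT.isPGroup hr2 h1) hzT).trans hNH)
    by_cases hps : p ∈ Cfsg.sigma H
    · -- a plane of `r` acting freely on `A`
      obtain ⟨T, hxT, hT⟩ := exists_isSylowIn_ge hxH hxr
      obtain ⟨hTab, B, B₀, hBT, hB⟩ := sylow_of_tau2 hG F hH hr2H hT
      haveI := hTab
      set O := Cfsg.piCoreOf ({p} : Set ℕ) (Cfsg.sigmaCore H) with hOdef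
      have hAO : A ≤ O := nilpotent_le_piCoreOf (hB.isNilpotent_sigmaCore hG F)
        (pGroup_le_sigmaCore F hH hps hAH hAp) (isPiSubgroup_of_isPGroup hAp rfl)
      have hHO : H ≤ normalizer (O : Set G) :=
        (le_normalizer_sigmaCore H).trans (normalizer_le_normalizer_piCoreOf _ _)
      obtain ⟨S, hOS, hS⟩ := exists_isSylowIn_ge (le_top : O ≤ ⊤)
        (isPGroup_of_isPiSubgroup (isPiSubgroup_piCoreOf _ _))
      haveI := hab S hS
      have hOC : O ≤ centralizer (A : Set G) :=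
        hOS.trans ((le_centralizer_self inferInstance).trans (centralizer_le (hAO.trans hOS)))
      have hTA : T ≤ normalizer (A : Set G) := fun t ht =>
        ConjFunctor.mem_normalizer_of_forall_conj_mem fun b hb => by
          have h1 := conj_mem_of_mem_normalizer (hHO (hT.le ht)) (hAO hb)
          exact hmax.mem h.elem (by rw [conj_pow, h.elem.2 b hb]; group) (hOC h1)
      obtain ⟨b, hbB, hbC⟩ : ∃ b ∈ B, b ∉ centralizer (A : Set G) :=
        SetLike.not_le_iff_exists.1 fun hle => not_pRankLE_one_of_card_sq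
          (hle.trans (h.centralizer_le_maximal hG F)) hB.elem hB.card hrM
      have hbr : b ^ r = 1 := hB.elem.2 b hbB
      have hzB : z ∈ B := (hB.pow_eq_one_iff hG F hT hBT (hxT hz)).1 (hzo ▸ pow_orderOf_eq_one z)
      have hbM : b ∉ M := by
        intro hbM
        refine not_pRankLE_one_of_card_sq ?_ hB.elem hB.card hrM
        have hzb : zpowers z ⊔ zpowers b = B := by
          refine sup_zpowers_eq_of_not_mem hB.card (zpowers_le.2 hzB) hR₀c hbB fun hb => hbC ?_
          exact (zpowers_le.2 hzC) hb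
        rw [← hzb]
        exact sup_le (zpowers_le.2 (hE.1 hzE)) (zpowers_le.2 hbM)
      -- a power of `x` of order `r` modulo `C(A)`
      classical
      obtain ⟨k, hk⟩ := hxr ⟨x, mem_zpowers x⟩
      have hex : ∃ i, x ^ r ^ i ∈ centralizer (A : Set G) :=
        ⟨k, by rw [show x ^ r ^ k = 1 by simpa using congrArg Subtype.val hk]; exact one_mem _⟩
      have hi0 : Nat.find hex ≠ 0 := fun h0 => hxC (by
        have := Nat.find_spec hex; rwa [h0, pow_zero, pow_one] at this)
      obtain ⟨i, hi⟩ := Nat.exists_eq_succ_of_ne_zero hi0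
      set y := x ^ r ^ i with hy
      have hyC : y ∉ centralizer (A : Set G) := Nat.find_min hex (by omega)
      have hyr : y ^ r ∈ centralizer (A : Set G) := by
        rw [hy, ← pow_mul, ← pow_succ]
        have h1 := Nat.find_spec hex
        rwa [hi] at h1
      have hbT : b ∈ T := hBT hbB
      have hyT : y ∈ T := pow_mem (hxT (mem_zpowers x)) _
      have hxT' : x ∈ T := hxT (mem_zpowers x)
      haveI := h.elem.1
      let σ : T → (A →* A) := fun t =>
        { toFun := fun v => ⟨(t : G) * v * (t : G)⁻¹, conj_mem_of_mem_normalizer (hTA t.2) v.2⟩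
          map_one' := Subtype.ext (by simp)
          map_mul' := fun u v => Subtype.ext (by
            show (t : G) * ((u : G) * v) * (t : G)⁻¹ =
              ((t : G) * u * (t : G)⁻¹) * ((t : G) * v * (t : G)⁻¹)
            group) }
      let w : ZMod r × ZMod r → T := fun u => (⟨y, hyT⟩ : T) ^ u.1.val * (⟨b, hbT⟩ : T) ^ u.2.val
      have hfix : ∀ (c : G), c ∈ centralizer (A : Set G) → ∀ v : A, c * (v : G) * c⁻¹ = v :=
        fun c hc v => by rw [← mem_centralizer_iff.1 hc v v.2, mul_inv_cancel_right]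
      have hperY : ∀ (n : ℕ) (v : A), y ^ n * (v : G) * (y ^ n)⁻¹ =
          y ^ (n % r) * (v : G) * (y ^ (n % r))⁻¹ := by
        intro n v
        conv_lhs => rw [← Nat.mod_add_div n r, pow_add, pow_mul]
        rw [show y ^ (n % r) * (y ^ r) ^ (n / r) * (v : G) * (y ^ (n % r) * (y ^ r) ^ (n / r))⁻¹ =
          y ^ (n % r) * ((y ^ r) ^ (n / r) * (v : G) * ((y ^ r) ^ (n / r))⁻¹) * (y ^ (n % r))⁻¹ by
          group, hfix _ (pow_mem hyr _) v]
      have hperB : ∀ n : ℕ, b ^ n = b ^ (n % r) := fun n => by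
        conv_lhs => rw [← Nat.mod_add_div n r, pow_add, pow_mul, hbr, one_pow, mul_one]
      have hyb : ∀ m n : ℕ, Commute (y ^ m) (b ^ n) := fun m n =>
        (show Commute y b from setLike_mul_comm (s := T) hyT hbT).pow_pow m n
      have hτ : ∀ u u' v, σ (w u) (σ (w u') v) = σ (w (u + u')) v := by
        intro u u' v
        refine Subtype.ext ?_
        show (y ^ u.1.val * b ^ u.2.val) *
            ((y ^ u'.1.val * b ^ u'.2.val) * (v : G) * (y ^ u'.1.val * b ^ u'.2.val)⁻¹) *
            (y ^ u.1.val * b ^ u.2.val)⁻¹ =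
          (y ^ (u + u').1.val * b ^ (u + u').2.val) * (v : G) *
            (y ^ (u + u').1.val * b ^ (u + u').2.val)⁻¹
        rw [Prod.fst_add, Prod.snd_add, ZMod.val_add, ZMod.val_add, ← hperB]
        have e1 : (y ^ u.1.val * b ^ u.2.val) * (y ^ u'.1.val * b ^ u'.2.val) =
            b ^ (u.2.val + u'.2.val) * y ^ (u.1.val + u'.1.val) := by
          rw [← (hyb (u.1.val + u'.1.val) (u.2.val + u'.2.val)).eq, pow_add, pow_add, mul_assoc,
            ← mul_assoc (b ^ u.2.val), ← (hyb u'.1.val u.2.val).eq]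
          group
        rw [(hyb ((u.1.val + u'.1.val) % r) (u.2.val + u'.2.val)).eq]
        calc _ = ((y ^ u.1.val * b ^ u.2.val) * (y ^ u'.1.val * b ^ u'.2.val)) * (v : G) *
              ((y ^ u.1.val * b ^ u.2.val) * (y ^ u'.1.val * b ^ u'.2.val))⁻¹ := by group
          _ = b ^ (u.2.val + u'.2.val) * (y ^ (u.1.val + u'.1.val) * (v : G) *
              (y ^ (u.1.val + u'.1.val))⁻¹) * (b ^ (u.2.val + u'.2.val))⁻¹ := by rw [e1]; group
          _ = _ := by rw [hperY]; group
      refine ne_bot_of_card_sq h.card ((eq_bot_iff_forall A).2 fun v hv => ?_)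
      have key := Coprime.mem_of_fixed_mem (q := r) (fun u => σ (w u)) (fun v => Subtype.ext (by
        simp [σ, w])) hτ ⊥ (fun u hu v' hv' => ?_) ⟨v, hv⟩
        (hcopA.symm.coprime_dvd_left (orderOf_dvd_natCard _))
      · exact congrArg Subtype.val (mem_bot.1 key)
      -- a nontrivial `w` fixes nothing
      rw [mem_bot]
      set c : G := y ^ u.1.val * b ^ u.2.val with hc
      have hcT : c ∈ T := mul_mem (pow_mem hyT _) (pow_mem hbT _)
      have hv'c : (v' : G) ∈ A ⊓ centralizer ({c} : Set G) := by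
        refine mem_inf.2 ⟨v'.2, ?_⟩
        rw [mem_centralizer_singleton_iff]
        have h1 : c * (v' : G) * c⁻¹ = v' := congrArg Subtype.val hv'
        exact (mul_inv_eq_iff_eq_mul.1 h1).symm
      have hxc : x ∈ normalizer ((A ⊓ centralizer ({c} : Set G) : Subgroup G) : Set G) := by
        refine ConjFunctor.mem_normalizer_of_forall_conj_mem fun t ht => mem_inf.2
          ⟨conj_mem_of_mem_normalizer hxA ht.1, ?_⟩
        rw [← centralizer_zpowers]
        refine conj_mem_centralizer (centralizer_le_normalizer _ ?_)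
          (by rw [centralizer_zpowers]; exact ht.2)
        rw [centralizer_zpowers, mem_centralizer_singleton_iff]
        exact setLike_mul_comm (s := T) hxT' hcT
      rcases hinv _ inf_le_left hxc with h0 | h0
      · rw [h0, mem_bot] at hv'c
        exact Subtype.ext hv'c
      · exfalso
        have hcC : c ∈ centralizer (A : Set G) := mem_centralizer_iff.2 fun t ht => by
          have h1 : t ∈ A ⊓ centralizer ({c} : Set G) := h0.symm ▸ ht
          exact mem_centralizer_singleton_iff.1 h1.2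
        have hy_pow : ∀ n : ℕ, y ^ n ∈ centralizer (A : Set G) → r ∣ n := by
          intro n hn
          by_contra hnd
          refine hyC ?_
          have hb := Nat.gcd_eq_gcd_ab n r
          rw [((Fact.out : r.Prime).coprime_iff_not_dvd.2 hnd).symm.gcd_eq_one] at hb
          have : y = (y ^ n) ^ Nat.gcdA n r * (y ^ r) ^ Nat.gcdB n r := by
            rw [← zpow_natCast y n, ← zpow_natCast y r, ← zpow_mul, ← zpow_mul, ← zpow_add, ← hb]
            simp
          rw [this]
          exact mul_mem (zpow_mem hn _) (zpow_mem hyr _)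
        by_cases hu2 : u.2 = 0
        · rw [hc, hu2, ZMod.val_zero, pow_zero, mul_one] at hcC
          refine hu (Prod.ext ?_ hu2)
          rcases Nat.eq_zero_or_pos u.1.val with h1 | h1
          · exact (ZMod.val_eq_zero u.1).1 h1
          · exact absurd (Nat.le_of_dvd h1 (hy_pow _ hcC)) (not_le.2 (ZMod.val_lt u.1))
        · refine hbM ?_
          have hbj : b ^ u.2.val ∈ M := by
            have h1 : (y ^ u.1.val)⁻¹ * c ∈ M :=
              mul_mem (inv_mem (pow_mem (pow_mem (hE.1 hxE) _) _))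
                (h.centralizer_le_maximal hG F hcC)
            simpa [hc] using h1
          have hcop : (orderOf b).Coprime u.2.val := by
            refine Nat.Coprime.coprime_dvd_left (orderOf_dvd_of_pow_eq_one hbr) ?_
            refine (Fact.out : r.Prime).coprime_iff_not_dvd.2 fun hd => hu2 ?_
            exact (ZMod.val_eq_zero u.2).1 (Nat.eq_zero_of_dvd_of_lt hd (ZMod.val_lt _))
          obtain ⟨m, hm⟩ := exists_pow_eq_self_of_coprime hcop.symm
          rw [← hm]
          exact pow_mem hbj m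
    · obtain ⟨A₁, hE', -⟩ := exists_exceptional hG F hH hAH hps h.elem h.card
      obtain ⟨E', hUE', hE''⟩ := exists_compl_ge F hG hH (sup_le hxH hAH : zpowers x ⊔ A ≤ H)
        (isPiSubgroup_sup hxAz (isPiSubgroup_of_isPGroup hxr ⟨Fact.out, hrs⟩)
          (isPiSubgroup_of_isPGroup hAp ⟨Fact.out, hps⟩))
      obtain ⟨T, hxT, hT⟩ := exists_isSylowIn_ge (le_sup_left.trans hUE') hxr
      exact hxC (sylow_le_centralizer_plane hG F hE' hE'' (le_sup_right.trans hUE') hrp hr2H hT
        (hxT (mem_zpowers x)))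

/-- The invariant line when every line is made of top powers. -/
theorem exists_invariant_free_line [Fact p.Prime] {K : Subgroup G} (h : Exceptional p M A A₀)
    (hE : Cfsg.IsComplIn E (Cfsg.sigmaCore M) M) (hAE : A ≤ E)
    (hab : ∀ S : Subgroup G, IsSylowIn p S ⊤ → IsMulCommutative S) (hKE : K ≤ E)
    (hK : ∀ q : ℕ, q.Prime → q ∣ Nat.card K → q ≠ p ∧ Cfsg.PRankLE q 1 M ∧
      ∀ e ∈ E, orderOf e = q → Cfsg.sigmaCore M ⊓ centralizer ({e} : Set G) = ⊥) :
    ∃ L : Subgroup G, L ≤ A ∧ Nat.card L = p ∧ K ≤ normalizer (L : Set G) ∧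
      Cfsg.sigmaCore M ⊓ centralizer (L : Set G) = ⊥ := by
  have hEA := compl_le_normalizer_plane hG F h hE hAE
  by_cases hall : ∀ L : Subgroup G, L ≤ A → Nat.card L = p → K ≤ normalizer (L : Set G)
  · obtain ⟨-, X₁, -, hX₁, -, hc₁, -, -, hf₁, -⟩ := h.exists_two_fpf hG F
    exact ⟨X₁, hX₁, hc₁, hall X₁ hX₁ hc₁, hf₁⟩
  push Not at hall
  obtain ⟨L₀, hL₀, hc₀, hK₀⟩ := hall
  -- an element of prime power order moving a line
  obtain ⟨q, hq, x, hxK, hxq, hxL₀⟩ : ∃ q : ℕ, q.Prime ∧ ∃ x ∈ K, IsPGroup q (zpowers x) ∧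
      x ∉ normalizer (L₀ : Set G) := by
    by_contra hno
    refine hK₀ (BG4.le_of_sylow_le fun q hq => ⟨default, fun x hx => ?_⟩)
    by_contra hxn
    exact hno ⟨q, hq, x, map_subtype_le _ hx,
      ((default : Sylow q K).2.map _).to_le (zpowers_le.2 hx), hxn⟩
  haveI := Fact.mk hq
  have hx1 : x ≠ 1 := fun e => hxL₀ (e ▸ one_mem _)
  have hqd : q ∣ Nat.card K := by
    obtain ⟨k, hk⟩ := IsPGroup.iff_card.1 hxq
    rcases Nat.eq_zero_or_pos k with rfl | hk0
    · exact absurd (zpowers_eq_bot.1 (Subgroup.card_eq_one.1 (hk.trans (pow_zero q)))) hx1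
    · exact (hk ▸ dvd_pow_self q hk0.ne').trans (card_dvd_of_le (zpowers_le.2 hxK))
  obtain ⟨hqp, hq1, hqf⟩ := hK q hq hqd
  obtain ⟨L, hLA, hLc, hxL⟩ :=
    exists_fixed_line hG F h hE hAE hab hq1 hqf (hKE hxK) hxq hqp
  -- `N(A)` fixes `L`
  have hNC := derived_normalizer_le hG F h hab
  have hxA : x ∈ normalizer (A : Set G) := hEA (hKE hxK)
  have hmove : ∀ n ∈ normalizer (A : Set G), ∀ L' : Subgroup G, L' ≤ A →
      x ∈ normalizer (L' : Set G) →
      L'.map (MulAut.conj n).toMonoidHom ≤ A ∧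
        x ∈ normalizer ((L'.map (MulAut.conj n).toMonoidHom : Subgroup G) : Set G) := by
    intro n hn L' hL'A hxL'
    refine ⟨(map_mono hL'A).trans (map_conj_eq_self_iff.2 hn).le, ?_⟩
    have hc : ⁅n⁻¹, x⁆ ∈ normalizer (L' : Set G) := centralizer_le_normalizer _
      (centralizer_le hL'A (hNC (commutator_mem_commutator (inv_mem hn) hxA)))
    rw [← map_conj_normalizer]
    refine ⟨n⁻¹ * x * n, ?_, by simp [mul_assoc]⟩
    have := mul_mem hc hxL'
    simpa [commutatorElement_def, mul_assoc] using this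
  have hfix : ∀ n ∈ normalizer (A : Set G), n ∈ normalizer (L : Set G) := by
    intro n hn
    obtain ⟨hA1, hx1'⟩ := hmove n hn L hLA hxL
    obtain ⟨hA2, hx2'⟩ := hmove (n * n) (mul_mem hn hn) L hLA hxL
    rw [← map_conj_eq_self_iff]
    by_contra hne
    set L₁ := L.map (MulAut.conj n).toMonoidHom with hL₁
    have h2 : L.map (MulAut.conj (n * n)).toMonoidHom = L := by
      by_contra hne2
      refine hxL₀ (mem_normalizer_of_three_lines h.elem h.card hLA hA1 hA2 hLc
        (by rw [hL₁, card_map_conj, hLc]) (by rw [card_map_conj, hLc]) (Ne.symm hne)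
        (Ne.symm hne2) (fun e => hne ?_) hxL hx1' hx2' hL₀)
      rw [hL₁, ← map_conj_map_conj] at e
      exact (map_injective (MulAut.conj n).injective e).symm
    have hn2 : n * n ∈ normalizer (L : Set G) := map_conj_eq_self_iff.1 h2
    have hodd : Odd (orderOf n) := (minSimple_odd hG).of_dvd_nat (orderOf_dvd_natCard n)
    obtain ⟨t, ht⟩ := hodd
    refine hne (map_conj_eq_self_iff.2 ?_)
    have e : n = (n * n) ^ (t + 1) := by
      rw [← sq, ← pow_mul, show 2 * (t + 1) = orderOf n + 1 by omega, pow_add,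
        pow_orderOf_eq_one, one_mul, pow_one]
    rw [e]
    exact pow_mem hn2 _
  obtain ⟨g, hg, hgM⟩ := SetLike.not_le_iff_exists.1 (not_normalizer_plane_le hG F h)
  exact ⟨L, hLA, hLc, fun k hk => hfix k (hEA (hKE hk)),
    fixed_eq_bot_of_moved hG F h hLA hLc hgM (hfix g hg)⟩

end CfsgLib.OddOrder.BG12
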