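import Cfsg.Agent.OddOrder.BG12.Elem
import Cfsg.Agent.OddOrder.BG12.Compl
import Cfsg.Agent.OddOrder.BG9.LocalFrattini
import Cfsg.Agent.S1450

/-!
# BG 11.7: `M` normalizes `M_σ A` for an exceptional `M`
-/

set_option autoImplicit false
set_option linter.style.haveILetI false
set_option linter.unusedSectionVars false
set_option maxHeartbeats 800000

namespace CfsgLib.OddOrder.BG12

open Cfsg Subgroup CfsgLib.OddOrder.BG11
open CfsgLib.ConjFunctor (IsSylowIn exists_isSylowIn_ge)
open scoped commutatorElement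

variable {G : Type*} [Group G] [Finite G] {p r : ℕ}

theorem lt_of_acts_nontrivially [Fact p.Prime] [Fact r.Prime] {A Y : Subgroup G}
    (hA : ∀ a ∈ A, a ^ p = 1) (hn : A ≤ normalizer (Y : Set G)) (hY : Nat.card Y = r)
    (hnc : ¬ A ≤ centralizer (Y : Set G)) : p < r := by
  obtain ⟨a, ha, han⟩ := SetLike.not_le_iff_exists.1 hnc
  set x : normalizer (Y : Set G) := ⟨a, hn ha⟩ with hx
  have hx1 : Y.normalizerMonoidHom x ≠ 1 := fun h => han (by
    have h2 : x ∈ (Y.normalizerMonoidHom).ker := h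
    rw [normalizerMonoidHom_ker] at h2
    exact h2)
  have hxp : (Y.normalizerMonoidHom x) ^ p = 1 := by
    rw [← map_pow, show x ^ p = 1 from Subtype.ext (by simpa using hA a ha), map_one]
  have hd : p ∣ Nat.card (MulAut Y) := orderOf_eq_prime hxp hx1 ▸ orderOf_dvd_natCard _
  haveI : IsCyclic Y := isCyclic_of_prime_card hY
  rw [IsCyclic.card_mulAut, hY, Nat.totient_prime Fact.out] at hd
  have h2 : 2 ≤ r := (Fact.out : r.Prime).two_le
  have h3 : p ≤ r - 1 := Nat.le_of_dvd (by omega) hd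
  omega

/-- If `N(B)' ≤ C(B)` and `A` acts nontrivially on the line `Y` of `B` and trivially on `B / Y`,
then `N(B)` normalizes `Y`. -/
theorem normalizer_le_normalizer_of_moved [Fact r.Prime] {A B Y : Subgroup G} (hYB : Y ≤ B)
    (hYc : Nat.card Y = r) (hAB : A ≤ normalizer (B : Set G))
    (hder : ⁅normalizer (B : Set G), normalizer (B : Set G)⁆ ≤ centralizer (B : Set G))
    (hBY : ⁅B, A⁆ ≤ Y) (hAY : ¬ A ≤ centralizer (Y : Set G)) :
    normalizer (B : Set G) ≤ normalizer (Y : Set G) := by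
  obtain ⟨a, ha, y, hy, hay⟩ : ∃ a ∈ A, ∃ y ∈ Y, ⁅y, a⁆ ≠ 1 := by
    by_contra hno
    refine hAY fun a ha => mem_centralizer_iff.2 fun y hy => ?_
    exact commutatorElement_eq_one_iff_mul_comm.1 (not_not.1 fun hne' =>
      hno ⟨a, ha, y, hy, hne'⟩)
  have hcY : ⁅y, a⁆ ∈ Y := hBY (commutator_mem_commutator (hYB hy) ha)
  have hgen : zpowers ⁅y, a⁆ = Y := zpowers_eq_of_card hYc hcY hay
  intro n hn
  have hb : n * y * n⁻¹ ∈ B := conj_mem_of_mem_normalizer hn (hYB hy)
  have key : n * ⁅y, a⁆ * n⁻¹ = ⁅n * y * n⁻¹, a⁆ := by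
    set c := ⁅n, a⁆ with hcdef
    set b := n * y * n⁻¹ with hbdef
    have hc : c ∈ centralizer (B : Set G) := hder (commutator_mem_commutator hn (hAB ha))
    have hw : a * b⁻¹ * a⁻¹ ∈ B := conj_mem_of_mem_normalizer (hAB ha) (inv_mem hb)
    have e1 : n * a * n⁻¹ = c * a := by rw [hcdef, commutatorElement_def]; group
    have e2 : n * ⁅y, a⁆ * n⁻¹ = b * ((n * a * n⁻¹) * b⁻¹ * (n * a * n⁻¹)⁻¹) := by
      rw [hbdef, commutatorElement_def]; group
    rw [e2, e1, show (c * a) * b⁻¹ * (c * a)⁻¹ = c * (a * b⁻¹ * a⁻¹) * c⁻¹ by group,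
      ← mem_centralizer_iff.1 hc _ hw, commutatorElement_def]
    group
  rw [← map_conj_eq_self_iff]
  refine Subgroup.eq_of_le_of_card_ge ?_ (card_map_conj Y n).ge
  rw [← hgen, MonoidHom.map_zpowers, zpowers_le, hgen]
  simp only [MulEquiv.coe_toMonoidHom, MulAut.conj_apply]
  rw [key]
  exact hBY (commutator_mem_commutator hb ha)

variable (hG : Cfsg.IsMinSimpleOddOrder G) (F : BG10Facts G)
include hG F

/-- `A` centralizes its invariant Sylow subgroups of `O_{p'}(E)`. -/
theorem le_centralizer_sylow_core [Fact p.Prime] [Fact r.Prime] {M E A A₀ R : Subgroup G}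
    (h : Exceptional p M A A₀) (hE : Cfsg.IsComplIn E (Cfsg.sigmaCore M) M) (hAE : A ≤ E)
    (hR : IsSylowIn r R (Cfsg.piCoreOf (Cfsg.primesNotDvd p) E)) (hne : R ≠ ⊥)
    (hAR : A ≤ normalizer (R : Set G)) : A ≤ centralizer (R : Set G) := by
  by_contra hnc
  have hM := h.maximal
  have hAp := isPGroup_of_isElementaryAbelian h.elem
  set W := Cfsg.piCoreOf (Cfsg.primesNotDvd p) E with hW
  have hWE : W ≤ E := piCoreOf_le _ _
  have hRE : R ≤ E := hR.le.trans hWE
  have hRM : R ≤ M := hRE.trans hE.1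
  have hrR : r ∣ Nat.card R := by
    obtain ⟨k, hk⟩ := IsPGroup.iff_card.1 hR.isPGroup
    rcases Nat.eq_zero_or_pos k with rfl | hk0
    · exact absurd (Subgroup.card_eq_one.1 (hk.trans (pow_zero r))) hne
    · exact hk ▸ dvd_pow_self r hk0.ne'
  have hrE : r ∣ Nat.card E := hrR.trans (card_dvd_of_le hRE)
  have hrs : r ∉ Cfsg.sigma M := not_sigma_of_dvd_compl F hM hE Fact.out hrE
  have hrp : r ≠ p := fun e =>
    (isPiSubgroup_piCoreOf (Cfsg.primesNotDvd p) E r Fact.out
      (hrR.trans (card_dvd_of_le hR.le))).2 (e ▸ dvd_rfl)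
  have hr2 : r ≠ 2 := minSimple_prime_ne_two_subgroup hG hrR
  have hcop : (Nat.card A).Coprime (Nat.card R) :=
    coprime_card_of_not_dvd hAp (ne_of_dvd_sigma hR.isPGroup hrp)
  have hRO : ⁅R, A⁆ ≤ keyCore r M := h.commutator_le_keyCore hG F hrs hR.isPGroup hRM hAR
  have hRAne : ⁅R, A⁆ ≠ ⊥ := fun hb => hnc
    (le_centralizer_iff.1 (commutator_eq_bot_iff_le_centralizer.1 hb))
  obtain ⟨Y, hYO, hYc, hMY, hNY, hYmin, hYuniq, hYsyl, -⟩ :=
    h.exists_keyLine hG F hrs fun hb => hRAne (le_bot_iff.1 (hb ▸ hRO))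
  have hAY : ¬ A ≤ centralizer (Y : Set G) := by
    intro hc
    refine hnc (le_centralizer_of_commutator hAR hcop fun a ha =>
      mem_centralizer_iff.2 fun x hx => ?_)
    refine (Stab.commute_of_fix_prime_order hr2 (isPGroup_keyCore r M) ?_
      (le_normalizer_keyCore r M (h.le ha))
      (fun z hz hzr => (mem_centralizer_iff.1 (hc ha) z (hYuniq z hz hzr)).symm) x (hRO hx)).eq.symm
    exact ((Nat.coprime_primes Fact.out Fact.out).2 hrp.symm).coprime_dvd_left
      (orderOf_dvd_of_pow_eq_one (h.elem.2 a ha))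
  have hpr : p < r := lt_of_acts_nontrivially h.elem.2 (h.le.trans hMY) hYc hAY
  -- `R` is a Sylow subgroup of `M`
  have hRsylE : IsSylowIn r R E := by
    refine ⟨hRE, hR.isPGroup, fun hd => ?_⟩
    rw [← relIndex_mul_relIndex R W E hR.le hWE] at hd
    refine ((Fact.out : r.Prime).dvd_mul.1 hd).elim hR.not_dvd fun hd' => ?_
    haveI : Group.IsSolvable E := minSimple_solvable hG fun ht =>
      hM.1 (top_le_iff.1 (ht ▸ hE.1))
    have h1 := (Cfsg.Agent.S1450.result (minSimple_odd_subgroup hG E) p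
      ((h.card ▸ dvd_pow_self p two_ne_zero).trans (card_dvd_of_le hAE))
      (BG4.pRankLE_of_injective (Subgroup.inclusion hE.1) (inclusion_injective hE.1)
        (pRankLE_two_of_not_sigma F hM h.not_sigma))).1 r Fact.out
    refine absurd (h1 ?_) (not_le.2 hpr)
    rwa [hW, piCoreOf_primesNotDvd_eq, relIndex, subgroupOf,
      comap_map_eq_self_of_injective E.subtype_injective] at hd'
  have hRsyl : IsSylowIn r R M := isSylowIn_of_compl F hE hrs hRsylE
  obtain ⟨-, B, hBR, hB⟩ := hYsyl R hRsyl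
  haveI hRab := hB.isMulCommutative_sylow hG F hRsyl hBR
  have hNRB := hB.normalizer_sylow_le hG F hRsyl hBR
  have hAB : A ≤ normalizer (B : Set G) := hAR.trans hNRB
  have hBY : ⁅B, A⁆ ≤ Y := by
    intro x hx
    refine hYuniq x (h.commutator_le_keyCore hG F hrs
      (isPGroup_of_isElementaryAbelian hB.elem) hB.le hAB hx) ?_
    exact hB.elem.2 x (commutator_le_of_normalizer hAB hx)
  have hCB : centralizer (B : Set G) ≤ M := hB.centralizer_le_maximal hG F
  obtain ⟨g, hg, hgM⟩ := not_normalizer_le (hrR.trans (card_dvd_of_le hRM)) hrs hRsyl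
  set N := normalizer (B : Set G) with hN
  have hNne : N ≠ ⊤ := minSimple_normalizer_ne_top hG (ne_bot_of_card_sq hB.card)
    (minSimple_ne_top_of_isPGroup hG (isPGroup_of_isElementaryAbelian hB.elem))
  have hNsolv := minSimple_solvable hG hNne
  have hNodd := minSimple_odd_subgroup hG N
  by_cases hnd : r ∣ (centralizer (B : Set G)).relIndex N
  swap
  · exact hgM (hNY (normalizer_le_normalizer_of_moved hB.line_le hYc hAB
      (commutator_le_centralizer_of_not_dvd hNsolv hNodd hB.elem hB.card le_rfl hnd) hBY hAY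
      (hNRB hg)))
  -- an element `u ∈ N(B)` of `r`-power order not centralizing `B`
  obtain ⟨T, hT⟩ := exists_isSylowIn (p := r) N
  obtain ⟨u, huT, hun⟩ : ∃ u ∈ T, u ∉ centralizer (B : Set G) := by
    refine SetLike.not_le_iff_exists.1 fun hle => hT.not_dvd ?_
    rw [← relIndex_mul_relIndex T _ N hle (centralizer_le_normalizer _)]
    exact hnd.mul_left _
  have huN : u ∈ N := hT.le huT
  have hup : IsPGroup r (zpowers u) := hT.isPGroup.to_le (zpowers_le.2 huT)
  have huM : u ∉ M := by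
    intro huM
    obtain ⟨R', hR'le, hR'⟩ := exists_isSylowIn_ge
      (sup_le (zpowers_le.2 huM) hB.le : zpowers u ⊔ B ≤ M)
      (hup.to_sup_of_normal_right' (isPGroup_of_isElementaryAbelian hB.elem) (zpowers_le.2 huN))
    haveI := hB.isMulCommutative_sylow hG F hR' (le_sup_right.trans hR'le)
    exact hun (mem_centralizer_iff.2 fun b hb => setLike_mul_comm (s := R')
      (hR'le (mem_sup_right hb)) (hR'le (mem_sup_left (mem_zpowers u))))
  set L := B ⊓ centralizer ({u} : Set G) with hLdef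
  have hLc : Nat.card L = r := card_inf_centralizer_eq hB.elem hB.card huN hup hun
  have hNL : N ≤ normalizer (L : Set G) :=
    le_normalizer_inf_centralizer hNsolv hNodd hB.elem hB.card le_rfl huN hup hun
  have hLY : L ≠ Y := fun e => huM (hNY (by rw [← e]; exact hNL huN))
  have hAL : A ≤ centralizer (L : Set G) := by
    rw [← le_centralizer_iff, ← commutator_eq_bot_iff_le_centralizer, eq_bot_iff]
    intro x hx
    have hxL : x ∈ L := commutator_le_of_normalizer (hAB.trans hNL) hx
    have hxY : x ∈ Y := hBY (commutator_mono inf_le_left le_rfl hx)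
    by_contra hx1
    exact hLY ((zpowers_eq_of_card hLc hxL hx1).symm.trans (zpowers_eq_of_card hYc hxY hx1))
  obtain ⟨H, hH, hNH⟩ := minSimple_exists_coatom hG (minSimple_normalizer_ne_top hG
    (ne_bot_of_card_prime hLc)
    (minSimple_ne_top_of_isPGroup hG ((isPGroup_of_isElementaryAbelian hB.elem).to_le inf_le_left)))
  have hNleH : N ≤ H := hNL.trans hNH
  have hAH : A ≤ H := hAB.trans hNleH
  have hBH : B ≤ H := le_normalizer.trans hNleH
  have hHM : H ≠ M := fun e => hgM (e ▸ hNleH (hNRB hg))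
  have hBp := isPGroup_of_isElementaryAbelian hB.elem
  by_cases hrH : r ∈ Cfsg.sigma H
  · by_cases hpH : p ∈ Cfsg.sigma H
    · -- commuting in a nilpotent Hall subgroup of `H'`
      refine hAY ((le_centralizer_of_commutator hAB
        (coprime_card_of_not_dvd hAp (ne_of_dvd_sigma hBp hrp)) ?_).trans
        (centralizer_le hB.line_le))
      have hle : ⁅B, A⁆ ≤ B := commutator_le_of_normalizer hAB
      exact le_centralizer_of_betaPrime F hG hH
        ((pGroup_le_sigmaCore F hH hpH hAH hAp).trans (sigmaCore_le_derived F hG hH))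
        (commutator_mono hBH hAH) le_normalizer_of_commutator
        (isPiSubgroup_of_isPGroup hAp
          ⟨Fact.out, fun hb => not_ideal_of_maxElem h.elem h.card (h.maxElem hG F) hb.2⟩)
        (isPiSubgroup_of_isPGroup (hBp.to_le hle)
          ⟨Fact.out, fun hb => not_ideal_of_maxElem hB.elem hB.card (hB.maxElem hG F) hb.2⟩)
        ((coprime_card_of_not_dvd hAp (ne_of_dvd_sigma hBp hrp)).coprime_dvd_right
          (card_dvd_of_le hle))
    · obtain ⟨A₁, hE', -⟩ := exists_exceptional hG F hH hAH hpH h.elem h.card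
      refine ne_bot_of_card_prime hLc (le_bot_iff.1 ?_)
      rw [← (hE'.exists_two_fpf hG F).1]
      exact le_inf ((inf_le_left : L ≤ B).trans (pGroup_le_sigmaCore F hH hrH hBH hBp))
        (le_centralizer_iff.1 hAL)
  · obtain ⟨B₀, hE', -⟩ := exists_exceptional hG F hH hBH hrH hB.elem hB.card
    obtain ⟨R', hR'le, hR'⟩ := exists_isSylowIn_ge
      (sup_le (zpowers_le.2 (hNleH huN)) hBH : zpowers u ⊔ B ≤ H)
      (hup.to_sup_of_normal_right' hBp (zpowers_le.2 huN))
    haveI := hE'.isMulCommutative_sylow hG F hR' (le_sup_right.trans hR'le)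
    exact hun (mem_centralizer_iff.2 fun b hb => setLike_mul_comm (s := R')
      (hR'le (mem_sup_right hb)) (hR'le (mem_sup_left (mem_zpowers u))))

/-- A complement of `M_σ` through `A` normalizes `A`. -/
theorem compl_le_normalizer_plane [Fact p.Prime] {M E A A₀ : Subgroup G}
    (h : Exceptional p M A A₀) (hE : Cfsg.IsComplIn E (Cfsg.sigmaCore M) M) (hAE : A ≤ E) :
    E ≤ normalizer (A : Set G) := by
  have hAp := isPGroup_of_isElementaryAbelian h.elem
  obtain ⟨P, hAP, hP⟩ := exists_isSylowIn_ge hAE hAp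
  have hPM : IsSylowIn p P M := isSylowIn_of_compl F hE h.not_sigma hP
  have hEne : E ≠ ⊤ := fun ht => h.maximal.1 (top_le_iff.1 (ht ▸ hE.1))
  have hEsolv := minSimple_solvable hG hEne
  set W := Cfsg.piCoreOf (Cfsg.primesNotDvd p) E with hW
  have hWE : W ≤ E := piCoreOf_le _ _
  have hAW : A ≤ normalizer (W : Set G) := hAE.trans (le_normalizer_piCoreOf _ E)
  have hpW : ¬ p ∣ Nat.card W := fun hd =>
    (isPiSubgroup_piCoreOf (Cfsg.primesNotDvd p) E p Fact.out hd).2 dvd_rfl
  have hcent : A ≤ centralizer (W : Set G) := by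
    rw [le_centralizer_iff]
    refine BG4.le_of_sylow_le fun q hq => ?_
    haveI := Fact.mk hq
    haveI := hAp.isNilpotent
    obtain ⟨S, hAS⟩ := Coprime.exists_invariant_sylow hAW (coprime_card_of_not_dvd hAp hpW)
      (Or.inl inferInstance) q
    refine ⟨S, ?_⟩
    by_cases hne : (S : Subgroup W).map W.subtype = ⊥
    · rw [hne]; exact bot_le
    · exact le_centralizer_iff.1 (le_centralizer_sylow_core hG F h hE hAE
        (isSylowIn_map_subtype S) hne hAS)
  obtain ⟨T, hTP, -, hcover, hmax, -⟩ := exists_pPrimePCore_part hEsolv hP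
  have hPT : P ≤ T := hmax P le_rfl (subgroupOf_le_pPrimePCore_of_rank_two hEsolv
    (minSimple_odd_subgroup hG E) (h.ne_two hG F) hP
    (BG4.pRankLE_of_injective (Subgroup.inclusion hPM.le) (inclusion_injective hPM.le)
      (pRankLE_two_of_not_sigma F h.maximal h.not_sigma)))
  refine hcover.trans (sup_le ((le_centralizer_iff.1 hcent).trans (centralizer_le_normalizer _)) ?_)
  rw [show T = P from le_antisymm hTP hPT]
  exact inf_le_right.trans (h.normalizer_sylow_le hG F hPM hAP)

/-- BG 11.7. -/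
theorem le_normalizer_sup_plane [Fact p.Prime] {M A A₀ : Subgroup G}
    (h : Exceptional p M A A₀) : M ≤ normalizer ((Cfsg.sigmaCore M ⊔ A : Subgroup G) : Set G) := by
  obtain ⟨E, hAE, hE⟩ := exists_compl_ge_of_pGroup F hG h.maximal h.not_sigma h.le
    (isPGroup_of_isElementaryAbelian h.elem)
  refine (le_sigmaCore_sup_compl hE).trans (sup_le (le_sup_left.trans le_normalizer) ?_)
  exact fun e he => mem_normalizer_sup (le_normalizer_sigmaCore M (hE.1 he))
    (compl_le_normalizer_plane hG F h hE hAE he)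

end CfsgLib.OddOrder.BG12
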