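import Cfsg.Agent.OddOrder.BG12.Tau2
import Cfsg.Agent.OddOrder.BG3.KernelNilpotent
import Cfsg.Agent.OddOrder.BG13.Fixed
import Cfsg.Agent.OddOrder.BG8.Fitting
import Cfsg.Agent.Solvable.Frattini

/-!
# BG 12.7: `p ∈ τ₂(M)` with nonabelian Sylow `p`-subgroups of `G`
-/

set_option autoImplicit false
set_option linter.style.haveILetI false
set_option linter.unusedSectionVars false
set_option maxHeartbeats 800000

namespace CfsgLib.OddOrder.BG12

open Cfsg Subgroup CfsgLib.OddOrder.BG11
open CfsgLib.ConjFunctor (IsSylowIn exists_isSylowIn_ge)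
open scoped commutatorElement

/-- The configuration of BG 12.7. -/
structure NonabSylow {G : Type*} [Group G] (p : ℕ) (M A A₀ P Sp : Subgroup G) : Prop where
  exc : Exceptional p M A A₀
  le : A ≤ P
  sylowM : IsSylowIn p P M
  le_top : P ≤ Sp
  sylow : IsSylowIn p Sp ⊤
  nonab : ¬ IsMulCommutative Sp

variable {G : Type*} [Group G] [Finite G] {p : ℕ} [Fact p.Prime] {M A A₀ P Sp : Subgroup G}

theorem exists_nonabSylow (h : Exceptional p M A A₀)
    (hS : ∀ S : Sylow p G, ¬ IsMulCommutative (S : Subgroup G)) :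
    ∃ P Sp, NonabSylow p M A A₀ P Sp := by
  obtain ⟨P, hAP, hP⟩ := exists_isSylowIn_ge h.le (isPGroup_of_isElementaryAbelian h.elem)
  obtain ⟨Sp, hle, hSp⟩ := exists_isSylowIn_ge (_root_.le_top : P ≤ ⊤) hP.isPGroup
  refine ⟨P, Sp, h, hAP, hP, hle, hSp, ?_⟩
  exact hS (hSp.isPGroup.toSylow (show ¬ p ∣ Sp.index by
    have := hSp.not_dvd
    rwa [relIndex_top_right] at this))

variable (hG : Cfsg.IsMinSimpleOddOrder G) (F : BG10Facts G)
include hG F

theorem NonabSylow.inf_eq (h : NonabSylow p M A A₀ P Sp) :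
    Sp ⊓ centralizer (A : Set G) = P :=
  h.sylowM.eq_of_le (le_inf h.le_top (h.exc.le_centralizer_sylow hG F h.sylowM h.le))
    (inf_le_right.trans (h.exc.centralizer_le_maximal hG F))
    (h.sylow.isPGroup.to_le inf_le_left)

theorem NonabSylow.not_le (h : NonabSylow p M A A₀ P Sp) : ¬ Sp ≤ M := fun hle =>
  h.nonab ((h.sylowM.eq_of_le h.le_top hle h.sylow.isPGroup).symm ▸
    h.exc.isMulCommutative_sylow hG F h.sylowM h.le)

/-- The line `A ∩ Z(Sp)`. -/
theorem NonabSylow.card_center (h : NonabSylow p M A A₀ P Sp) :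
    Nat.card ↥(A ⊓ centralizer (Sp : Set G)) = p := by
  have hmax := h.exc.maxElem hG F
  have hAS : A ≤ Sp := h.le.trans h.le_top
  have hne : Sp ≠ ⊥ := fun hb => ne_bot_of_card_sq h.exc.card (le_bot_iff.1 (hb ▸ hAS))
  obtain ⟨z, hz, hzc, hzo⟩ := exists_central_of_isPGroup h.sylow.isPGroup hne
  have hzm := hmax.central_mem h.exc.elem hAS hzc hzo
  refine card_eq_of_lt_of_ne_bot h.exc.card (inf_le_left.lt_of_ne fun he => h.not_le hG F ?_) ?_
  · exact (le_centralizer_iff.1 (inf_eq_left.1 he)).trans (h.exc.centralizer_le_maximal hG F)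
  · intro hb
    rw [hb, mem_bot] at hzm
    rw [hzm, orderOf_one] at hzo
    exact (Fact.out : p.Prime).one_lt.ne hzo

theorem NonabSylow.le_centralizer_center (_h : NonabSylow p M A A₀ P Sp) :
    Sp ≤ centralizer ((A ⊓ centralizer (Sp : Set G) : Subgroup G) : Set G) :=
  le_centralizer_iff.1 inf_le_right

theorem NonabSylow.inf_centralizer_center (h : NonabSylow p M A A₀ P Sp) :
    Cfsg.sigmaCore M ⊓
      centralizer ((A ⊓ centralizer (Sp : Set G) : Subgroup G) : Set G) = ⊥ := by
  by_contra hne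
  exact h.not_le hG F ((h.le_centralizer_center hG F).trans (centralizer_le_of_fixed hG F h.exc
    inf_le_left (ne_bot_of_card_prime (h.card_center hG F)) hne))

theorem NonabSylow.line_ne (h : NonabSylow p M A A₀ P Sp) :
    A₀ ≠ A ⊓ centralizer (Sp : Set G) := fun e =>
  h.not_le hG F ((h.le_centralizer_center hG F).trans
    ((centralizer_le_normalizer _).trans (e ▸ h.exc.normalizer_le)))

/-- The lines of `A` other than `A₀`, `A ∩ Z(Sp)` are conjugates of `A₀` by elements outside
`M`. -/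
theorem NonabSylow.exists_conj (h : NonabSylow p M A A₀ P Sp) {X : Subgroup G} (hXA : X ≤ A)
    (hX : Nat.card X = p) (hX0 : X ≠ A₀) (hXZ : X ≠ A ⊓ centralizer (Sp : Set G)) :
    ∃ u, u ∈ Sp ∧ u ∈ normalizer (A : Set G) ∧ u ∉ M ∧
      A₀.map (MulAut.conj u).toMonoidHom = X := by
  have hmax := h.exc.maxElem hG F
  have hAS : A ≤ Sp := h.le.trans h.le_top
  set Pn := Sp ⊓ normalizer (A : Set G) with hPn
  have hnc : ¬ Pn ≤ centralizer (A : Set G) := by
    intro hle
    have hlt : P < Sp := lt_of_le_of_ne h.le_top fun e => h.not_le hG F (e ▸ h.sylowM.le)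
    obtain ⟨u, hu, hun⟩ :=
      SetLike.exists_of_lt (ConjFunctor.lt_inf_normalizer h.sylow.isPGroup hlt)
    have huA : u ∈ Pn := ⟨hu.1, h.exc.normalizer_sylow_le hG F h.sylowM h.le hu.2⟩
    exact hun (h.inf_eq hG F ▸ mem_inf.2 ⟨hu.1, hle huA⟩)
  obtain ⟨u, hu, he⟩ := exists_conj_line (h.sylow.isPGroup.to_le inf_le_left)
    (le_inf hAS le_normalizer) h.exc.elem h.exc.card hmax hnc (h.card_center hG F) inf_le_left
    (inf_le_left.trans (h.le_centralizer_center hG F)) h.exc.line_card h.exc.line_le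
    (h.line_ne hG F) hX hXA hXZ
  refine ⟨u, hu.1, hu.2, fun huM => hX0 ?_, he⟩
  have huP : u ∈ P := by
    have hle : zpowers u ⊔ P ≤ Sp := sup_le (zpowers_le.2 hu.1) h.le_top
    have h2 := h.sylowM.eq_of_le (le_sup_right : P ≤ zpowers u ⊔ P)
      (sup_le (zpowers_le.2 huM) h.sylowM.le) (h.sylow.isPGroup.to_le hle)
    exact h2 ▸ mem_sup_left (mem_zpowers u)
  have huc : u ∈ centralizer (A₀ : Set G) :=
    centralizer_le h.exc.line_le (h.exc.le_centralizer_sylow hG F h.sylowM h.le huP)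
  rw [← he, map_conj_eq_self_iff.2 (centralizer_le_normalizer _ huc)]

theorem NonabSylow.le_centralizer_line (h : NonabSylow p M A A₀ P Sp) :
    Cfsg.sigmaCore M ≤ centralizer (A₀ : Set G) := by
  have hA := h.exc.elem
  haveI := hA.1
  refine (Coprime.le_of_forall_inf_centralizer_le (G := Cfsg.sigmaCore M)
    (W := Cfsg.sigmaCore M ⊓ centralizer (A₀ : Set G)) (not_isCyclic_of_card_sq hA h.exc.card)
    (h.exc.le.trans (le_normalizer_sigmaCore M))
    (coprime_card_of_not_dvd (isPGroup_of_isElementaryAbelian hA)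
      (not_dvd_card_sigmaCore h.exc.not_sigma)) fun a ha ha1 => ?_).trans inf_le_right
  rw [← centralizer_zpowers]
  have hac := card_zpowers_of_mem hA.2 ha ha1
  by_cases h0 : zpowers a = A₀
  · rw [h0]
  by_cases hZ : zpowers a = A ⊓ centralizer (Sp : Set G)
  · rw [hZ, h.inf_centralizer_center hG F]; exact bot_le
  obtain ⟨u, -, huA, huM, he⟩ := h.exists_conj hG F (zpowers_le.2 ha) hac h0 hZ
  rw [← he, h.exc.inf_centralizer_conj hG F huM ?_]
  · exact bot_le
  · rw [← map_conj_eq_self_iff.2 huA]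
    exact map_mono h.exc.le

/-- `A₀ = A ∩ C(M_σ)`. -/
theorem NonabSylow.inf_centralizer_eq (h : NonabSylow p M A A₀ P Sp) :
    A ⊓ centralizer (Cfsg.sigmaCore M : Set G) = A₀ := by
  have h0 : A₀ ≤ A ⊓ centralizer (Cfsg.sigmaCore M : Set G) :=
    le_inf h.exc.line_le (le_centralizer_iff.1 (h.le_centralizer_line hG F))
  refine (Subgroup.eq_of_le_of_card_ge h0 ?_).symm
  have hlt : A ⊓ centralizer (Cfsg.sigmaCore M : Set G) < A := by
    refine inf_le_left.lt_of_ne fun he => sigmaCore_ne_bot F hG h.exc.maximal ?_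
    rw [← le_bot_iff, ← (h.exc.exists_two_fpf hG F).1]
    exact le_inf le_rfl (le_centralizer_iff.1 (inf_eq_left.1 he))
  rw [card_eq_of_lt_of_ne_bot h.exc.card hlt fun hb =>
    ne_bot_of_card_prime h.exc.line_card (le_bot_iff.1 (hb ▸ h0)), h.exc.line_card]

/-- The lines other than `A₀` act freely and their centralizers leave `M`. -/
theorem NonabSylow.other_line (h : NonabSylow p M A A₀ P Sp) {X : Subgroup G} (hXA : X ≤ A)
    (hX : Nat.card X = p) (hX0 : X ≠ A₀) :
    Cfsg.sigmaCore M ⊓ centralizer (X : Set G) = ⊥ ∧ ¬ centralizer (X : Set G) ≤ M := by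
  by_cases hXZ : X = A ⊓ centralizer (Sp : Set G)
  · subst hXZ
    exact ⟨h.inf_centralizer_center hG F,
      fun hle => h.not_le hG F ((h.le_centralizer_center hG F).trans hle)⟩
  obtain ⟨u, -, huA, huM, he⟩ := h.exists_conj hG F hXA hX hX0 hXZ
  refine ⟨?_, fun hle => huM ?_⟩
  · rw [← he]
    refine h.exc.inf_centralizer_conj hG F huM ?_
    rw [← map_conj_eq_self_iff.2 huA]
    exact map_mono h.exc.le
  · set S := Cfsg.sigmaCore M with hS
    have h1 : S.map (MulAut.conj u).toMonoidHom ≤ M := by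
      refine le_trans ?_ hle
      rw [← he, le_centralizer_iff]
      refine (map_mono (le_centralizer_iff.1 (h.le_centralizer_line hG F))).trans (le_of_eq ?_)
      rw [map_conj_centralizer, coe_map]
      rfl
    have h2 := le_sigmaCore F h.exc.maximal h1 (isPiSubgroup_map _ (isPiSubgroup_sigmaCore M))
    have hNS : normalizer (S : Set G) = M :=
      (h.exc.maximal.le_iff.1 (le_normalizer_sigmaCore M)).resolve_left
        (minSimple_normalizer_ne_top hG (sigmaCore_ne_bot F hG h.exc.maximal)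
          fun ht => h.exc.maximal.1 (top_le_iff.1 (ht ▸ sigmaCore_le M)))
    rw [← hNS, ← map_conj_eq_self_iff]
    exact Subgroup.eq_of_le_of_card_ge h2 (card_map_conj S u).ge

/-- `τ₂(M) = {p}`. -/
theorem NonabSylow.tau2_eq (h : NonabSylow p M A A₀ P Sp) {E : Subgroup G}
    (hE : Cfsg.IsComplIn E (Cfsg.sigmaCore M) M) (hAE : A ≤ E) : Cfsg.tau2 M = {p} := by
  refine Set.eq_singleton_iff_unique_mem.2
    ⟨tau2_of_plane F h.exc.maximal h.exc.not_sigma h.exc.le h.exc.elem h.exc.card, fun r hr => ?_⟩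
  by_contra hrp
  haveI := Fact.mk hr.1
  have hM := h.exc.maximal
  have hmax := h.exc.maxElem hG F
  obtain ⟨R, hR⟩ := exists_isSylowIn (p := r) E
  obtain ⟨-, B, B₀, hBR, hB⟩ := sylow_of_tau2 hG F hM hr (isSylowIn_of_compl F hE hr.2.1 hR)
  have hBE : B ≤ E := hBR.trans hR.le
  have hAp := isPGroup_of_isElementaryAbelian h.exc.elem
  have hBp := isPGroup_of_isElementaryAbelian hB.elem
  have hEA := compl_le_normalizer_plane hG F h.exc hE hAE
  have hEB := compl_le_normalizer_plane hG F hB hE hBE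
  have hAB : A ≤ centralizer (B : Set G) := by
    rw [← commutator_eq_bot_iff_le_centralizer, eq_bot_iff]
    have h0 : A ⊓ B = ⊥ := inf_eq_bot_of_isPiSubgroup
      (isPiSubgroup_of_isPGroup (π := ({p} : Set ℕ)) hAp rfl)
      (isPiSubgroup_of_isPGroup (π := ({r} : Set ℕ)) hBp rfl)
      (Set.disjoint_singleton.2 (Ne.symm hrp))
    rw [← h0, commutator_le]
    intro a ha b hb
    refine mem_inf.2 ⟨?_, ?_⟩
    · rw [commutatorElement_def, show a * b * a⁻¹ * b⁻¹ = a * (b * a⁻¹ * b⁻¹) by group]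
      exact mul_mem ha (conj_mem_of_mem_normalizer (hEA (hBE hb)) (inv_mem ha))
    · rw [commutatorElement_def]
      exact mul_mem (conj_mem_of_mem_normalizer (hEB (hAE ha)) hb) (inv_mem hb)
  have hBC : B ≤ centralizer (A : Set G) := le_centralizer_iff.1 hAB
  have hCE : centralizer (A : Set G) ≤ E := by
    rw [← inf_normalizer_plane_eq hG F h.exc hE hAE]
    exact le_inf (h.exc.centralizer_le_maximal hG F) (centralizer_le_normalizer _)
  have hNAB : normalizer (A : Set G) ≤ normalizer (B : Set G) := fun n hn =>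
    ConjFunctor.mem_normalizer_of_forall_conj_mem fun b hb =>
      mem_plane_of_pow_eq_one hG F hB hE hBE (hCE (conj_mem_centralizer hn (hBC hb)))
        (by rw [conj_pow, hB.elem.2 b hb]; group)
  have hAS : A ≤ Sp := h.le.trans h.le_top
  have hZc := h.card_center hG F
  set Z := A ⊓ centralizer (Sp : Set G) with hZ
  obtain ⟨H, hH, hNH⟩ := minSimple_exists_coatom hG (minSimple_normalizer_ne_top hG
    (ne_bot_of_card_prime hZc) (minSimple_ne_top_of_isPGroup hG (hAp.to_le inf_le_left)))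
  have hSH : Sp ≤ H := ((h.le_centralizer_center hG F).trans (centralizer_le_normalizer _)).trans hNH
  have hCZH : centralizer (A : Set G) ≤ H :=
    ((centralizer_le inf_le_left).trans (centralizer_le_normalizer _)).trans hNH
  have hBH : B ≤ H := hBC.trans hCZH
  have hHM : H ≠ M := fun e => h.not_le hG F (e ▸ hSH)
  have hSne : Sp ≠ ⊥ := fun hb => ne_bot_of_card_sq h.exc.card (le_bot_iff.1 (hb ▸ hAS))
  have hpH : p ∈ Cfsg.sigma H := sigma_of_sylow_top F h.sylow hSH hSne
    ((le_normalizer_inf_centralizer_self h.exc.elem hmax hAS).trans hNH)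
  by_cases hrH : r ∈ Cfsg.sigma H
  · -- an element of `N(A)` outside `M` centralizes `B`
    have hlt : P < Sp := lt_of_le_of_ne h.le_top fun e => h.not_le hG F (e ▸ h.sylowM.le)
    obtain ⟨u, hu, hun⟩ :=
      SetLike.exists_of_lt (ConjFunctor.lt_inf_normalizer h.sylow.isPGroup hlt)
    have huA : u ∈ normalizer (A : Set G) := h.exc.normalizer_sylow_le hG F h.sylowM h.le hu.2
    have hup : IsPGroup p (zpowers u) := h.sylow.isPGroup.to_le (zpowers_le.2 hu.1)
    have hcent : zpowers u ≤ centralizer (B : Set G) :=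
      le_centralizer_of_betaPrime F hG hH
        ((zpowers_le.2 (pGroup_le_sigmaCore F hH hpH hSH h.sylow.isPGroup hu.1)).trans
          (sigmaCore_le_derived F hG hH))
        ((pGroup_le_sigmaCore F hH hrH hBH hBp).trans (sigmaCore_le_derived F hG hH))
        (zpowers_le.2 (hNAB huA))
        (isPiSubgroup_of_isPGroup hup
          ⟨Fact.out, fun hb => not_ideal_of_maxElem h.exc.elem h.exc.card hmax hb.2⟩)
        (isPiSubgroup_of_isPGroup hBp
          ⟨Fact.out, fun hb => not_ideal_of_maxElem hB.elem hB.card (hB.maxElem hG F) hb.2⟩)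
        (coprime_card_of_not_dvd hup (ne_of_dvd_sigma hBp hrp))
    have huM : u ∈ M := hB.centralizer_le_maximal hG F (hcent (mem_zpowers u))
    have h2 := h.sylowM.eq_of_le (le_sup_right : P ≤ zpowers u ⊔ P)
      (sup_le (zpowers_le.2 huM) h.sylowM.le)
      (h.sylow.isPGroup.to_le (sup_le (zpowers_le.2 hu.1) h.le_top))
    exact hun (h2 ▸ mem_sup_left (mem_zpowers u))
  · obtain ⟨B₁, hB', -⟩ := exists_exceptional hG F hH hBH hrH hB.elem hB.card
    refine ne_bot_of_card_sq h.exc.card (le_bot_iff.1 ?_)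
    rw [← (hB'.exists_two_fpf hG F).1]
    exact le_inf (pGroup_le_sigmaCore F hH hpH (hAS.trans hSH) hAp) hAB

/-- `A₀` is not in `Φ(P)`. -/
theorem NonabSylow.not_le_frattini (h : NonabSylow p M A A₀ P Sp) :
    ¬ A₀ ≤ (frattini ↥P).map P.subtype := by
  intro hle
  have hlt0 : P < Sp := lt_of_le_of_ne h.le_top fun e => h.not_le hG F (e ▸ h.sylowM.le)
  obtain ⟨u, hu, hun⟩ :=
    SetLike.exists_of_lt (ConjFunctor.lt_inf_normalizer h.sylow.isPGroup hlt0)
  have huM : u ∉ M := by
    intro huM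
    have h2 := h.sylowM.eq_of_le (le_sup_right : P ≤ zpowers u ⊔ P)
      (sup_le (zpowers_le.2 huM) h.sylowM.le)
      (h.sylow.isPGroup.to_le (sup_le (zpowers_le.2 hu.1) h.le_top))
    exact hun (h2 ▸ mem_sup_left (mem_zpowers u))
  have huA : u ∈ normalizer (A : Set G) := h.exc.normalizer_sylow_le hG F h.sylowM h.le hu.2
  set X := A₀.map (MulAut.conj u).toMonoidHom with hX
  have hXA : X ≤ A := (map_mono h.exc.line_le).trans (map_conj_eq_self_iff.2 huA).le
  have hXc : Nat.card X = p := by rw [hX, card_map_conj, h.exc.line_card]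
  have hX0 : X ≠ A₀ := by
    intro e
    refine huM (h.exc.normalizer_le ?_)
    exact map_conj_eq_self_iff.1 e
  have hXF : X ≤ (frattini ↥P).map P.subtype := by
    refine (map_mono hle).trans ?_
    exact (map_conj_eq_self_iff.2 (BG13.normalizer_le_normalizer_map_char P (frattini ↥P) hu.2)).le
  have h1 := not_le_frattini_or_abelian hG F h.sylow (h.le.trans h.le_top) h.exc.elem h.exc.card
    (h.exc.maxElem hG F) (lt_of_eq_of_lt (h.inf_eq hG F) hlt0)
  rw [h.inf_eq hG F] at h1
  exact h1 ((sup_eq_of_card h.exc.card h.exc.line_le h.exc.line_card hXA hXc hX0.symm).ge.trans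
    (sup_le hle hXF))

/-- `F(M) = M_σ A₀`. -/
theorem NonabSylow.fittingOf_eq (h : NonabSylow p M A A₀ P Sp) {E : Subgroup G}
    (hE : Cfsg.IsComplIn E (Cfsg.sigmaCore M) M) (hAE : A ≤ E) :
    Cfsg.fittingOf M = Cfsg.sigmaCore M ⊔ A₀ := by
  have hM := h.exc.maximal
  set S := Cfsg.sigmaCore M with hS
  have hA0n : M ≤ normalizer (A₀ : Set G) := by
    rw [← h.inf_centralizer_eq hG F]
    refine (le_sigmaCore_sup_compl hE).trans (sup_le ?_ fun e he => ?_)
    · exact (le_centralizer_iff.1 inf_le_right).trans (centralizer_le_normalizer _)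
    · refine ConjFunctor.mem_normalizer_of_forall_conj_mem fun x hx => mem_inf.2 ⟨?_, ?_⟩
      · exact conj_mem_of_mem_normalizer (compl_le_normalizer_plane hG F h.exc hE hAE he) hx.1
      · exact conj_mem_centralizer (le_normalizer_sigmaCore M (hE.1 he)) hx.2
  have hnilA : Group.IsNilpotent A₀ := (isPGroup_of_isElementaryAbelian
    (isElementaryAbelian_mono h.exc.line_le h.exc.elem)).isNilpotent
  refine le_antisymm ?_ ?_
  swap
  · exact sup_le (le_fittingOf (sigmaCore_le M) (le_normalizer_sigmaCore M)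
      (h.exc.isNilpotent_sigmaCore hG F)) (le_fittingOf (h.exc.line_le.trans h.exc.le) hA0n hnilA)
  refine BG4.le_of_sylow_le fun r hr => ?_
  haveI := Fact.mk hr
  obtain ⟨Q⟩ : Nonempty (Sylow r (Cfsg.fittingOf M)) := inferInstance
  refine ⟨Q, ?_⟩
  set T := (Q : Subgroup _).map (Cfsg.fittingOf M).subtype with hT
  have hTM : T ≤ M := (map_subtype_le _).trans (fittingOf_le M)
  have hTp : IsPGroup r T := Q.2.map _
  by_cases hrs : r ∈ Cfsg.sigma M
  · exact (pGroup_le_sigmaCore F hM hrs hTM hTp).trans le_sup_left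
  set O := Cfsg.piCoreOf ({r} : Set ℕ) (Cfsg.fittingOf M) with hOdef
  refine (nilpotent_le_piCoreOf (isNilpotent_fittingOf M) (map_subtype_le _)
    (isPiSubgroup_of_isPGroup (π := ({r} : Set ℕ)) hTp rfl)).trans ?_
  have hOM : O ≤ M := (piCoreOf_le _ _).trans (fittingOf_le M)
  have hMO : M ≤ normalizer (O : Set G) :=
    (le_normalizer_fittingOf M).trans (normalizer_le_normalizer_piCoreOf _ _)
  have hOp : IsPGroup r O := isPGroup_of_isPiSubgroup (isPiSubgroup_piCoreOf _ _)
  have hOS : O ≤ centralizer (S : Set G) := by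
    rw [← commutator_eq_bot_iff_le_centralizer, eq_bot_iff, ← pGroup_inf_sigmaCore F hrs hOp,
      commutator_le]
    intro o ho s hs
    refine mem_inf.2 ⟨?_, ?_⟩
    · rw [commutatorElement_def, show o * s * o⁻¹ * s⁻¹ = o * (s * o⁻¹ * s⁻¹) by group]
      exact mul_mem ho (conj_mem_of_mem_normalizer (hMO (sigmaCore_le M hs)) (inv_mem ho))
    · rw [commutatorElement_def]
      exact mul_mem (conj_mem_of_mem_normalizer (le_normalizer_sigmaCore M (hOM ho)) hs)
        (inv_mem hs)
  by_cases hOne : O = ⊥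
  · exact le_of_eq_of_le hOne bot_le
  have hrO : r ∣ Nat.card O := by
    obtain ⟨k, hk⟩ := IsPGroup.iff_card.1 hOp
    rcases Nat.eq_zero_or_pos k with rfl | hk0
    · exact absurd (Subgroup.card_eq_one.1 (hk.trans (pow_zero r))) hOne
    · exact hk ▸ dvd_pow_self r hk0.ne'
  have hrM := hrO.trans (card_dvd_of_le hOM)
  have hr2 : r ≠ 2 := minSimple_prime_ne_two_subgroup hG hrM
  have hOR : ∀ R : Subgroup G, IsSylowIn r R M → O ≤ R := fun R hR =>
    le_sup_right.trans (le_of_isPGroup_of_le_sylowIn hR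
      (hR.isPGroup.to_sup_of_normal_right' hOp (hR.le.trans hMO)) le_sup_left (sup_le hR.le hOM))
  by_cases hrp : r = p
  · subst hrp
    refine le_trans ?_ le_sup_right
    have hord : ∀ x ∈ O, x ^ r = 1 → x ∈ A₀ := fun x hx hxp => by
      rw [← h.inf_centralizer_eq hG F]
      exact ⟨(h.exc.pow_eq_one_iff hG F h.sylowM h.le (hOR P h.sylowM hx)).1 hxp, hOS hx⟩
    have hexp : ∀ x ∈ O, x ^ r = 1 := by
      intro x hx
      by_contra hne
      obtain ⟨k, hk⟩ := hOp ⟨x, hx⟩
      have hxk : x ^ r ^ k = 1 := by simpa using congrArg Subtype.val hk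
      -- the last nontrivial power is an element of `Φ(P)` generating `A₀`
      have hex : ∃ j, x ^ r ^ j = 1 := ⟨k, hxk⟩
      classical
      set j := Nat.find hex with hj
      have hj2 : 2 ≤ j := by
        by_contra hj'
        have hle : j ≤ 1 := by omega
        obtain ⟨d, hd⟩ := Nat.exists_eq_add_of_le hle
        refine hne ?_
        rw [← pow_one r, hd, pow_add, pow_mul, Nat.find_spec hex, one_pow]
      obtain ⟨i, hi⟩ := Nat.exists_eq_add_of_le hj2
      set y := x ^ r ^ (i + 1) with hy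
      have hy1 : y ≠ 1 := Nat.find_min hex (by omega)
      have hyr : y ^ r = 1 := by
        rw [hy, ← pow_mul, ← pow_succ, show i + 1 + 1 = j by omega]
        exact Nat.find_spec hex
      have hyA : y ∈ A₀ := hord y (pow_mem hx _) hyr
      refine h.not_le_frattini hG F ?_
      rw [← zpowers_eq_of_card h.exc.line_card hyA hy1, zpowers_le]
      have hxP : x ^ r ^ i ∈ P := pow_mem (hOR P h.sylowM hx) _
      refine ⟨(⟨x ^ r ^ i, hxP⟩ : P) ^ r, Solvable.pow_mem_frattini h.sylowM.isPGroup _, ?_⟩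
      rw [map_pow]
      change (x ^ r ^ i) ^ r = y
      rw [hy, ← pow_mul, ← pow_succ]
    exact fun x hx => hord x hx (hexp x hx)
  · -- `r ∉ τ₂(M)`: `O` would be cyclic and its line normal in `M`
    exfalso
    have hr1 : Cfsg.PRankLE r 1 M := not_not.1 fun hn => hrp (by
      have h1 : r ∈ Cfsg.tau2 M := ⟨hr, hrs, pRankLE_two_of_not_sigma F hM hrs, hn⟩
      rw [h.tau2_eq hG F hE hAE] at h1
      exact h1)
    obtain ⟨R, hR⟩ := exists_isSylowIn (p := r) M
    haveI := isCyclic_of_pRankLE_one hR.le hR.isPGroup hr2 hr1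
    obtain ⟨z, hz, -, hzo⟩ := exists_central_of_isPGroup hOp hOne
    set Y := zpowers z with hY
    have hYc : Nat.card Y = r := by rw [hY, Nat.card_zpowers, hzo]
    have hYR : Y ≤ R := (zpowers_le.2 hz).trans (hOR R hR)
    have huniq : ∀ W : Subgroup G, W ≤ R → Nat.card W = r → W = Y := by
      intro W hW hWc
      have h2 : W.subgroupOf R = Y.subgroupOf R := eq_of_card_eq_of_isCyclic (by
        rw [Nat.card_congr (subgroupOfEquivOfLe hW).toEquiv,
          Nat.card_congr (subgroupOfEquivOfLe hYR).toEquiv, hWc, hYc])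
      rw [← map_subgroupOf_eq_of_le hW, h2, map_subgroupOf_eq_of_le hYR]
    have hMY : M ≤ normalizer (Y : Set G) := fun g hg => map_conj_eq_self_iff.1 (huniq _
      (((map_mono (zpowers_le.2 hz)).trans (map_conj_eq_self_iff.2 (hMO hg)).le).trans (hOR R hR))
      (by rw [card_map_conj, hYc]))
    have hNY : normalizer (Y : Set G) = M := (hM.le_iff.1 hMY).resolve_left
      (minSimple_normalizer_ne_top hG (ne_bot_of_card_prime hYc)
        (minSimple_ne_top_of_isPGroup hG (hR.isPGroup.to_le hYR)))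
    refine hrs (sigma_of_normalizer_le hrM hR fun g hg => hNY.le (map_conj_eq_self_iff.1
      (huniq _ ((map_mono hYR).trans (map_conj_eq_self_iff.2 hg).le) (by rw [card_map_conj, hYc]))))

end CfsgLib.OddOrder.BG12
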